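import Groth.Agent.DerCompLib.Grp
import Mathlib.RingTheory.AdicCompletion.Basic
import Mathlib.RingTheory.Finiteness.Cardinality
import Mathlib.RingTheory.Noetherian.Basic

/-!
# Finite modules over adically complete Noetherian rings are derived complete
-/

set_option autoImplicit false

universe u v

namespace Groth.Agent.DerCompLib

open Groth.Agent.ProEtDCLib

variable {A : Type u} [CommRing A] (I : Ideal A) [IsAdicComplete I A]

theorem dBij_self {a : A} (ha : a ∈ I) : DBij (Groth.Agent.ProEtDCLib.smulEnd A a) := by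
  have hpow : ∀ n : ℕ, (I ^ n • ⊤ : Submodule A A) = (I ^ n).restrictScalars A := fun n => by
    rw [smul_eq_mul, Ideal.mul_top]; rfl
  have h0 : ∀ x : A, (∀ n : ℕ, x ∈ I ^ n) → x = 0 := fun x hx =>
    IsHausdorff.haus' (I := I) x fun n => SModEq.zero.2 (by rw [hpow]; exact hx n)
  refine dBij_mk (fun x hx => funext fun n => h0 _ fun k => ?_) fun y => ?_
  · induction k generalizing n with
    | zero => simp
    | succ k ih =>
      rw [hx n, pow_succ']
      exact Ideal.mul_mem_mul ha (ih (n + 1))
  · have hak : ∀ k, a ^ k ∈ I ^ k := fun k => Ideal.pow_mem_pow ha k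
    let S : ℕ → ℕ → A := fun n N => ∑ k ∈ Finset.range N, a ^ k * y (n + k)
    have hc : ∀ n, ∃ L, ∀ N, S n N - L ∈ I ^ N := fun n => by
      obtain ⟨L, hL⟩ := IsPrecomplete.prec (I := I) (M := A) inferInstance (f := S n) fun {m N} hmN => by
        rw [SModEq.sub_mem, hpow]
        show S n m - S n N ∈ I ^ m
        rw [← neg_sub, Ideal.neg_mem_iff, ← Finset.sum_Ico_eq_sub _ hmN]
        exact Submodule.sum_mem _ fun k hk => Ideal.mul_mem_right _ _
          (Ideal.pow_le_pow_right (Finset.mem_Ico.1 hk).1 (hak k))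
      exact ⟨L, fun N => by
        have h1 := SModEq.sub_mem.1 (hL N)
        rwa [hpow] at h1⟩
    choose L hL using hc
    refine ⟨L, fun n => sub_eq_zero.1 (h0 _ fun N => ?_)⟩
    show L n - a * L (n + 1) - y n ∈ I ^ N
    have e : L n - a * L (n + 1) - y n =
        -(S n (N + 1) - L n) + a * (S (n + 1) N - L (n + 1)) := by
      have hS : S n (N + 1) = y n + a * S (n + 1) N := by
        simp only [S, Finset.sum_range_succ', Finset.mul_sum, pow_zero, one_mul, add_zero]
        rw [add_comm (y n)]
        congr 1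
        refine Finset.sum_congr rfl fun k _ => ?_
        rw [pow_succ', mul_assoc, add_right_comm, add_assoc n k 1]
      rw [hS]; ring
    rw [e]
    exact Ideal.add_mem _ (Ideal.neg_mem_iff _ |>.2 (Ideal.pow_le_pow_right (Nat.le_succ N) (hL n (N + 1))))
      (Ideal.mul_mem_left _ _ (hL (n + 1) N))

/-- Finite modules over a complete Noetherian ring are derived complete. -/
theorem dBij_of_finite [IsNoetherianRing A] {a : A} (ha : a ∈ I) (M : Type v) [AddCommGroup M] [Module A M]
    [Module.Finite A M] : DBij (Groth.Agent.ProEtDCLib.smulEnd M a) := by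
  obtain ⟨r, f, hf⟩ := Module.Finite.exists_fin' A M
  obtain ⟨s, g, hg⟩ := Module.Finite.exists_fin' A (LinearMap.ker f)
  have hfree : ∀ k : ℕ, DBij (Groth.Agent.ProEtDCLib.smulEnd (Fin k → A) a) := fun k =>
    dBij_pi (φ := fun _ : Fin k => Groth.Agent.ProEtDCLib.smulEnd A a) (fun _ _ => rfl) fun _ => dBij_self I ha
  let i := (LinearMap.ker f).subtype.comp g
  refine DBij.coker i.toAddMonoidHom f.toAddMonoidHom (fun x => map_smul i a x) (fun x => map_smul f a x) hf ?_
    (hfree s) (hfree r)
  intro x
  constructor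
  · intro hx
    obtain ⟨y, hy⟩ := hg ⟨x, hx⟩
    exact ⟨y, congrArg Subtype.val hy⟩
  · rintro ⟨y, rfl⟩
    exact (g y).2

end Groth.Agent.DerCompLib
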