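import Groth.Agent.DerCompLib.Nilp

/-!
# Objects seeing complete morphism groups do not see left orthogonal cones

If every `Hom(F, G⟦p⟧)` is derived complete for finitely many scalars, then completion of `G`
for these scalars does not change `Hom(F, G)`.
-/

set_option autoImplicit false
set_option linter.style.haveILetI false
set_option linter.unusedSectionVars false

universe w v u

open CategoryTheory CategoryTheory.Limits CategoryTheory.Pretriangulated

noncomputable section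

namespace Groth.Agent.DerCompLib

open Groth.Agent.ProEtDCLib

variable {R : Type w} [CommRing R] {T : Type u} [Category.{v} T] [Preadditive T] [HasZeroObject T]
  [HasShift T ℤ] [∀ n : ℤ, (shiftFunctor T n).Additive] [Pretriangulated T] [Linear R T]
  [∀ n : ℤ, (shiftFunctor T n).Linear R]

/-- The morphism groups out of `F` into the shifts of `X` are complete for `r`. -/
def HCompl (r : R) (F X : T) : Prop := ∀ p : ℤ, DBij (hs r F (X⟦p⟧))

theorem HCompl.of_iso {r : R} {F X X' : T} (h : HCompl r F X) (e : X ≅ X') : HCompl r F X' := fun p =>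
  dBij_rightComp_iso r F ((shiftFunctor T p).mapIso e) (h p)

theorem HCompl.shift {r : R} {F X : T} (h : HCompl r F X) (m : ℤ) : HCompl r F (X⟦m⟧) := fun p =>
  dBij_rightComp_iso r F ((shiftFunctorAdd' T m p (m + p) rfl).app X) (h (m + p))

theorem Compl.hCompl {r : R} {X : T} (h : Compl r X) (F : T) : HCompl r F X := fun p => h F p

theorem hCompl_of_isZero (r : R) (F : T) {X : T} (h : IsZero X) : HCompl r F X := fun p =>
  dBij_of_smul_eq_zero r fun a => ((shiftFunctor T p).map_isZero h).eq_of_tgt _ _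

theorem dBij_hs_five {r : R} {F : T} (D : Triangle T) (hT : D ∈ distTriang T)
    (h₁ : DBij (hs r F D.obj₁)) (h₂ : DBij (hs r F D.obj₂)) (h₄ : DBij (hs r F (D.obj₁⟦(1 : ℤ)⟧)))
    (h₅ : DBij (hs r F (D.obj₂⟦(1 : ℤ)⟧))) : DBij (hs r F D.obj₃) := by
  refine dBij_five (Preadditive.rightComp F D.mor₁) (Preadditive.rightComp F D.mor₂)
    (Preadditive.rightComp F D.mor₃) (Preadditive.rightComp F (D.mor₁⟦(1 : ℤ)⟧'))
    (fun a => Linear.smul_comp _ _ _ r a _) (fun a => Linear.smul_comp _ _ _ r a _)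
    (fun a => Linear.smul_comp _ _ _ r a _) (fun a => Linear.smul_comp _ _ _ r a _) ?_ ?_ ?_ h₁ h₂ h₄ h₅
  · intro a
    refine ⟨fun ha => ?_, ?_⟩
    · obtain ⟨b, hb⟩ := Triangle.coyoneda_exact₂ D hT a ha
      exact ⟨b, hb.symm⟩
    · rintro ⟨b, rfl⟩
      show (b ≫ D.mor₁) ≫ D.mor₂ = 0
      rw [Category.assoc, comp_distTriang_mor_zero₁₂ D hT, comp_zero]
  · intro a
    refine ⟨fun ha => ?_, ?_⟩
    · obtain ⟨b, hb⟩ := Triangle.coyoneda_exact₃ D hT a ha
      exact ⟨b, hb.symm⟩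
    · rintro ⟨b, rfl⟩
      show (b ≫ D.mor₂) ≫ D.mor₃ = 0
      rw [Category.assoc, comp_distTriang_mor_zero₂₃ D hT, comp_zero]
  · intro a
    refine ⟨fun ha => ?_, ?_⟩
    · obtain ⟨b, hb⟩ := Triangle.coyoneda_exact₁ D hT a ha
      exact ⟨b, hb.symm⟩
    · rintro ⟨b, rfl⟩
      show (b ≫ D.mor₃) ≫ D.mor₁⟦(1 : ℤ)⟧' = 0
      rw [Category.assoc, comp_distTriang_mor_zero₃₁ D hT, comp_zero]

theorem HCompl.obj₃ {r : R} {F : T} (D : Triangle T) (hT : D ∈ distTriang T) (h₁ : HCompl r F D.obj₁)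
    (h₂ : HCompl r F D.obj₂) : HCompl r F D.obj₃ := fun p =>
  dBij_hs_five _ (Triangle.shift_distinguished D hT p) (h₁ p) (h₂ p) ((h₁.shift p) 1) ((h₂.shift p) 1)

theorem HCompl.obj₂ {r : R} {F : T} (D : Triangle T) (hT : D ∈ distTriang T) (h₁ : HCompl r F D.obj₁)
    (h₃ : HCompl r F D.obj₃) : HCompl r F D.obj₂ :=
  HCompl.obj₃ _ (inv_rot_of_distTriang _ hT) (h₃.shift (-1)) h₁

/-- No nonzero maps to shifts of a cone orthogonal to complete objects. -/
theorem KVan.hom_eq_zero {F : T} : ∀ {l : List R} {X : T}, KVan l X → (∀ r ∈ l, HCompl r F X) →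
    ∀ (p : ℤ) (u : F ⟶ X⟦p⟧), u = 0
  | [], _, h, _, p, u => ((shiftFunctor T p).map_isZero h).eq_of_tgt u 0
  | r :: l, X, ⟨C, g, h, hT, hC⟩, hX, p, u => by
    have ih := hC.hom_eq_zero (F := F) fun s hs =>
      HCompl.obj₃ _ hT (hX s (List.mem_cons_of_mem r hs)) (hX s (List.mem_cons_of_mem r hs))
    have hs : Function.Surjective (hs r F (X⟦p⟧)) := fun u => by
      obtain ⟨v, hv⟩ := Triangle.coyoneda_exact₂ _ (Triangle.shift_distinguished _ hT p) u (ih p _)
      have key : ∀ w : F ⟶ X⟦p⟧, r • (p.negOnePow • w) = w ≫ (p.negOnePow • (r • 𝟙 X)⟦p⟧') := fun w => by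
        rw [smul_shift_eq, Units.smul_def, Units.smul_def, Preadditive.comp_zsmul, Linear.comp_smul,
          Category.comp_id]
        exact smul_comm _ _ _
      exact ⟨p.negOnePow • (v : F ⟶ X⟦p⟧), (key v).trans hv.symm⟩
    haveI := (hX r List.mem_cons_self p).subsingleton_of_surjective hs
    exact Subsingleton.elim _ _

/-- Maps into the completion are maps into the object. -/
theorem bijective_comp_of_lOrth {F G G' N : T} {l : List R} {a : N ⟶ G} {g : G ⟶ G'} {d : G' ⟶ N⟦(1 : ℤ)⟧}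
    (hT : Triangle.mk a g d ∈ distTriang T) (hN : LOrth l N) (hG : ∀ r ∈ l, HCompl r F G)
    (hG' : ∀ r ∈ l, Compl r G') : Function.Bijective fun ψ : F ⟶ G => ψ ≫ g := by
  have hN' : ∀ r ∈ l, HCompl r F N := fun r hr =>
    HCompl.obj₃ _ (inv_rot_of_distTriang _ (inv_rot_of_distTriang _ hT))
      ((hG r hr).shift (-1)) (((hG' r hr).hCompl F).shift (-1))
  have h0 := (kVan_iff_lOrth.2 hN).hom_eq_zero hN'
  refine ⟨fun ψ ψ' e => sub_eq_zero.1 ?_, fun φ => ?_⟩
  · obtain ⟨w, hw⟩ := Triangle.coyoneda_exact₂ _ hT (ψ - ψ') (by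
      show (ψ - ψ') ≫ g = 0
      rw [Preadditive.sub_comp, sub_eq_zero]
      exact e)
    have hw0 : w = 0 :=
      (cancel_mono ((shiftFunctorZero T ℤ).app N).inv).1 ((h0 0 _).trans zero_comp.symm)
    rw [hw, hw0]
    exact zero_comp
  · obtain ⟨w, hw⟩ := Triangle.coyoneda_exact₃ _ hT φ (h0 1 _)
    exact ⟨w, hw.symm⟩

end Groth.Agent.DerCompLib
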