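import Groth.Agent.SiteBase.FreeOn
import Groth.Prelude.Def_DerComp

/-!
# Multiplication on `j_{U!} O_U` and sections
-/

set_option autoImplicit false
set_option linter.style.haveILetI false
set_option linter.unusedSectionVars false
set_option backward.isDefEq.respectTransparency false
set_option backward.isDefEq.respectTransparency.types false

universe u

open CategoryTheory CategoryTheory.Limits Opposite

noncomputable section

namespace Groth.Agent.DerCompLib

open Groth.Agent.SiteBase

variable {C : Type u} [SmallCategory C] {J : GrothendieckTopology C} (O : Sheaf J CommRingCat.{u})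

/-- An element of `O(U)` seen in the ring over which sections are modules. -/
abbrev scal (U : C) (f : O.obj.obj (op U)) : (ModSite.ringSh O).obj.obj (op U) := f

theorem freeOnEquiv_smulEnd (s : DerComp.GSec O) (U : C) {N : ModSite.Mod O}
    (φ : ModSite.freeOn O U ⟶ N) :
    FreeOn.freeOnEquiv O U N (DerComp.smulEnd s _ ≫ φ) = scal O U (s.1 U) • FreeOn.freeOnEquiv O U N φ := by
  rw [DerComp.smulEnd_comm, FreeOn.freeOnEquiv_comp]
  exact DerComp.smulEnd_apply s N (op U) _

theorem freeOnEquiv_extZero_smulEnd (U : C) (f : O.obj.obj (op U)) {N : ModSite.Mod O}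
    (φ : ModSite.freeOn O U ⟶ N) :
    FreeOn.freeOnEquiv O U N
        ((ModSite.extZero O U).map (DerComp.smulEnd (DerComp.GSec.ofSect O U f) (ModSite.unit (O.over U))) ≫ φ) =
      scal O U f • FreeOn.freeOnEquiv O U N φ := by
  simp only [FreeOn.freeOnEquiv, Equiv.trans_apply]
  rw [(ModSite.extZeroAdj O U).homEquiv_naturality_left, DerComp.smulEnd_comm]
  refine Eq.trans ?_ (congrArg (fun r => r • (FreeOn.sectionsOverEquiv O N U
    (((ModSite.restr O U).obj N).unitHomEquiv ((ModSite.extZeroAdj O U).homEquiv _ _ φ))))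
    (show scal O U ((O.obj.map (𝟙 U).op).hom f) = scal O U f by rw [op_id, O.obj.map_id]; rfl))
  rfl

/-- Extension by zero of the free module on an object of the localised site. -/
def extFreeIso (V : C) (W : Over V) :
    (ModSite.extZero O V).obj (ModSite.freeOn (O.over V) W) ≅ ModSite.freeOn O W.left :=
  FreeOn.isoOfEquiv O W.left _
    (fun N => ((ModSite.extZeroAdj O V).homEquiv _ N).trans
      (FreeOn.freeOnEquiv (O.over V) W ((ModSite.restr O V).obj N))) fun {N N'} φ g => by
    simp only [Equiv.trans_apply]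
    rw [(ModSite.extZeroAdj O V).homEquiv_naturality_right]
    exact FreeOn.freeOnEquiv_comp (O.over V) W _ _

theorem isoOfEquiv_hom_comp (U : C) (M : ModSite.Mod O)
    (e : ∀ N : ModSite.Mod O, (M ⟶ N) ≃ N.val.obj (op U))
    (he : ∀ {N N' : ModSite.Mod O} (φ : M ⟶ N) (g : N ⟶ N'), e N' (φ ≫ g) = g.val.app (op U) (e N φ))
    {N : ModSite.Mod O} (φ : ModSite.freeOn O U ⟶ N) :
    e N ((FreeOn.isoOfEquiv O U M e he).hom ≫ φ) = FreeOn.freeOnEquiv O U N φ := by
  have h : (FreeOn.isoOfEquiv O U M e he).hom =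
      (e (ModSite.freeOn O U)).symm (FreeOn.freeOnEquiv O U _ (𝟙 _)) := by
    refine Eq.trans ?_ (Category.comp_id _)
    rfl
  rw [he, h, Equiv.apply_symm_apply, ← FreeOn.freeOnEquiv_comp, Category.id_comp]

theorem extFreeIso_comm (V : C) (W : Over V) (f : O.obj.obj (op V)) :
    (ModSite.extZero O V).map (DerComp.smulEnd (DerComp.GSec.ofSect O V f) (ModSite.freeOn (O.over V) W)) ≫
        (extFreeIso O V W).hom =
      (extFreeIso O V W).hom ≫ (ModSite.extZero O W.left).map
        (DerComp.smulEnd (DerComp.GSec.ofSect O W.left ((O.obj.map W.hom.op).hom f)) (ModSite.unit _)) := by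
  let e : ∀ N : ModSite.Mod O, _ ≃ N.val.obj (op W.left) := fun N =>
    ((ModSite.extZeroAdj O V).homEquiv (ModSite.freeOn (O.over V) W) N).trans
      (FreeOn.freeOnEquiv (O.over V) W ((ModSite.restr O V).obj N))
  have he : ∀ {N : ModSite.Mod O} (φ : ModSite.freeOn O W.left ⟶ N),
      e N ((extFreeIso O V W).hom ≫ φ) = FreeOn.freeOnEquiv O W.left N φ := fun φ =>
    isoOfEquiv_hom_comp O W.left _ e (fun {N N'} φ g => by
      show FreeOn.freeOnEquiv (O.over V) W _ ((ModSite.extZeroAdj O V).homEquiv _ _ (φ ≫ g)) = _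
      rw [(ModSite.extZeroAdj O V).homEquiv_naturality_right]
      exact FreeOn.freeOnEquiv_comp (O.over V) W _ _) φ
  refine (e _).injective ?_
  refine Eq.trans ?_ (he _).symm
  have h1 := freeOnEquiv_extZero_smulEnd O W.left ((O.obj.map W.hom.op).hom f) (𝟙 (ModSite.freeOn O W.left))
  rw [Category.comp_id] at h1
  refine Eq.trans ?_ h1.symm
  rw [← he (𝟙 _), Category.comp_id]
  simp only [e, Equiv.trans_apply]
  rw [(ModSite.extZeroAdj O V).homEquiv_naturality_left]
  exact freeOnEquiv_smulEnd (O.over V) (DerComp.GSec.ofSect O V f) W _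

end Groth.Agent.DerCompLib
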