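import Groth.Agent.DerCompLib.Site
import Groth.Agent.DerCompLib.Sections
import Groth.Agent.OpenRestrH.Derived

/-!
# Locality of derived completeness; the sheaf of ideals of a derived complete object
-/

set_option autoImplicit false
set_option linter.style.haveILetI false
set_option linter.unusedSectionVars false
set_option backward.isDefEq.respectTransparency false
set_option backward.isDefEq.respectTransparency.types false

set_option maxRecDepth 2000

universe u

open CategoryTheory CategoryTheory.Limits CategoryTheory.Pretriangulated Opposite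

attribute [local instance] HasDerivedCategory.standard

noncomputable section

namespace Groth.Agent.DerCompLib

open Groth.Agent.ProEtDCLib

variable {C : Type u} [SmallCategory C] {J : GrothendieckTopology C} (O : Sheaf J CommRingCat.{u})

set_option maxHeartbeats 1600000 in
theorem cplAt_restr_iff (V : C) (f : O.obj.obj (op V)) (K : DerivedCategory (ModSite.Mod O)) (W : Over V) :
    CplAt (O.over V) W ((DerComp.GSec.ofSect O V f).1 W) ((ModSite.restr O V).mapDerivedCategory.obj K) ↔
      CplAt O W.left ((O.obj.map W.hom.op).hom f) K := by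
  let adj := ModSite.extZeroAdj O V
  obtain ⟨D⟩ := OpenRestrH.nonempty_derived_adjunction adj
  let G := (ModSite.restr O V).mapDerivedCategory
  let F := ModSite.extZero O V
  haveI : F.mapDerivedCategory.Additive := inferInstance
  let σ := (F.mapDerivedCategorySingleFunctor 0).app (ModSite.freeOn (O.over V) W) ≪≫
    (DerivedCategory.singleFunctor (ModSite.Mod O) 0).mapIso (extFreeIso O V W)
  refine forall_congr' fun n => ?_
  let t := (G.commShiftIso n).app K
  let Φ : (E O W.left ⟶ K⟦n⟧) →+ (E (O.over V) W ⟶ (G.obj K)⟦n⟧) :=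
    ((Preadditive.rightComp _ t.hom).comp
      (D.homAddEquiv (E (O.over V) W) (K⟦n⟧)).toAddMonoidHom).comp (Preadditive.leftComp _ σ.hom)
  have hb : Function.Bijective Φ :=
    (t.homToEquiv.bijective.comp (D.homAddEquiv _ _).bijective).comp σ.homFromEquiv.symm.bijective
  have hc : ∀ x, Φ (act O W.left ((O.obj.map W.hom.op).hom f) (K⟦n⟧) x) =
      act (O.over V) W ((DerComp.GSec.ofSect O V f).1 W) ((G.obj K)⟦n⟧) (Φ x) := fun x => by
    let s := DerComp.GSec.ofSect O V f
    let e := (DerivedCategory.singleFunctor (ModSite.Mod O) 0).map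
      (endF O W.left ((O.obj.map W.hom.op).hom f))
    let e' := (DerivedCategory.singleFunctor (ModSite.Mod (O.over V)) 0).map (endF (O.over V) W (s.1 W))
    have h1 : σ.hom ≫ e = F.mapDerivedCategory.map e' ≫ σ.hom := by
      have hn := (F.mapDerivedCategorySingleFunctor 0).hom.naturality (endF (O.over V) W (s.1 W))
      have hθ : F.map (endF (O.over V) W (s.1 W)) ≫ (extFreeIso O V W).hom =
          (extFreeIso O V W).hom ≫ endF O W.left ((O.obj.map W.hom.op).hom f) := by
        rw [endF_val (O.over V) s W]
        exact extFreeIso_comm O V W f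
      show ((F.mapDerivedCategorySingleFunctor 0).hom.app _ ≫ (DerivedCategory.singleFunctor _ 0).map _) ≫ e =
        F.mapDerivedCategory.map e' ≫ (F.mapDerivedCategorySingleFunctor 0).hom.app _ ≫
          (DerivedCategory.singleFunctor _ 0).map _
      rw [Category.assoc, ← Functor.map_comp, ← hθ, Functor.map_comp]
      exact (Category.assoc _ _ _).symm.trans ((congrArg (· ≫ _) hn.symm).trans (Category.assoc _ _ _))
    show D.homEquiv _ _ (σ.hom ≫ e ≫ x) ≫ t.hom = e' ≫ D.homEquiv _ _ (σ.hom ≫ x) ≫ t.hom
    rw [← Category.assoc σ.hom, h1, Category.assoc, D.homEquiv_naturality_left, Category.assoc]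
  exact ⟨fun h => h.of_bijective' Φ hb hc, fun h => h.of_bijective Φ hb hc⟩

/-- A derived complete object restricts to objects complete for the sections of the ideal. -/
theorem compl_restr (V : C) {f : O.obj.obj (op V)} {I : DerComp.IdealSh O} (hf : f ∈ I.ideal V)
    {K : DerivedCategory (ModSite.Mod O)} (hK : DerComp.IsDerComp O I K) :
    Compl (DerComp.GSec.ofSect O V f) ((ModSite.restr O V).mapDerivedCategory.obj K) :=
  compl_iff_cplAt.2 fun W => (cplAt_restr_iff O V f K W).2
    ((isDerComp_iff O I K).1 hK W.left _ (I.map_mem W.hom hf))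

/-- Derived completeness at a section is local. -/
theorem cplAt_of_cover {V : C} (f : O.obj.obj (op V)) (K : DerivedCategory (ModSite.Mod O)) (S : Sieve V)
    (hS : S ∈ J V) (h : ∀ ⦃W : C⦄ (g : W ⟶ V), S g → CplAt O W ((O.obj.map g.op).hom f) K) :
    CplAt O V f K := by
  let K' := (ModSite.restr O V).mapDerivedCategory.obj K
  have hK' := cplAt_restr_iff O V f K
  let s := DerComp.GSec.ofSect O V f
  have hc : Compl s K' := compl_of_cplAt {W : Over V | S W.hom}
    (fun W => ⟨(Sieve.overEquiv W).symm (S.pullback W.hom),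
      (GrothendieckTopology.mem_over_iff _ _).2 ((congrArg (· ∈ J W.left) ((Sieve.overEquiv W).apply_symm_apply _)).mpr (J.pullback_stable _ hS)),
      fun W' g hg => by
        have hg' : S (g.left ≫ W.hom) := hg
        rwa [Over.w g] at hg'⟩)
    (fun W hW => (hK' W).2 (h W.hom hW))
  have h1 := (hK' (Over.mk (𝟙 V))).1 (hc.cplAt (Over.mk (𝟙 V)))
  change CplAt O V ((O.obj.map (𝟙 V).op).hom f) K at h1
  rwa [op_id, O.obj.map_id] at h1

/-- The sections at which `K` is derived complete on all smaller objects. -/
def annIdeal (K : DerivedCategory (ModSite.Mod O)) : DerComp.IdealSh O where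
  ideal U :=
    { carrier := {f | ∀ (V : C) (g : V ⟶ U), CplAt O V ((O.obj.map g.op).hom f) K}
      add_mem' := fun {a b} ha hb V g => by
        rw [map_add]
        exact (ha V g).add (hb V g)
      zero_mem' := fun V g => by
        rw [map_zero]
        exact CplAt.zero V K
      smul_mem' := fun r a ha V g => by
        rw [smul_eq_mul, map_mul]
        exact (ha V g).mul_left _ }
  map_mem {U V} g {f} hf W h := by
    rw [← CommRingCat.comp_apply, ← Functor.map_comp, ← op_comp]
    exact hf W (h ≫ g)
  glue {U f} S hS h V g := cplAt_of_cover O _ K (S.pullback g) (J.pullback_stable g hS) fun W k hk => by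
    have h1 := h (k ≫ g) hk W (𝟙 W)
    rw [← CommRingCat.comp_apply, ← Functor.map_comp, ← op_comp, Category.id_comp] at h1
    rw [← CommRingCat.comp_apply, ← Functor.map_comp, ← op_comp]
    exact h1

theorem mem_annIdeal {K : DerivedCategory (ModSite.Mod O)} {U : C} {f : O.obj.obj (op U)} :
    f ∈ (annIdeal O K).ideal U ↔ ∀ (V : C) (g : V ⟶ U), CplAt O V ((O.obj.map g.op).hom f) K :=
  Iff.rfl

theorem le_annIdeal {I : DerComp.IdealSh O} {K : DerivedCategory (ModSite.Mod O)}
    (h : DerComp.IsDerComp O I K) : I ≤ annIdeal O K :=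
  fun _ _ hf V g => (isDerComp_iff O I K).1 h V _ (I.map_mem g hf)

theorem isDerComp_of_le {I : DerComp.IdealSh O} {K : DerivedCategory (ModSite.Mod O)}
    (h : I ≤ annIdeal O K) : DerComp.IsDerComp O I K :=
  (isDerComp_iff O I K).2 fun U f hf => by
    have := h U hf U (𝟙 U)
    rwa [op_id, O.obj.map_id] at this

theorem isDerComp_iff_compl {ι : Type*} (s : ι → DerComp.GSec O) (I : DerComp.IdealSh O)
    (hI : I.IsGenBy s) (K : DerivedCategory (ModSite.Mod O)) :
    DerComp.IsDerComp O I K ↔ ∀ i, Compl (s i) K :=
  ⟨fun h i => compl_iff_cplAt.2 fun U => (isDerComp_iff O I K).1 h U _ (hI.1 i U),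
    fun h => isDerComp_of_le O (hI.2 _ fun i U V g => by rw [(s i).2 g]; exact (h i).cplAt V)⟩

theorem hasDerCompletion_of_isGenBy {r : ℕ} (s : Fin r → DerComp.GSec O) (I : DerComp.IdealSh O)
    (hI : I.IsGenBy s) : DerComp.HasDerCompletion O I := by
  haveI := hasProducts O
  let P := DerComp.IsDerComp O I
  have hP : ∀ K, P K ↔ ∀ i ∈ List.finRange r, Compl (s i) K := fun K => by
    refine (isDerComp_iff_compl O s I hI K).trans ?_
    exact ⟨fun h i _ => h i, fun h i => h i (List.mem_finRange i)⟩
  choose L g hg using fun K : DerivedCategory (ModSite.Mod O) => exists_completion_finset s (List.finRange r) K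
  let e : ∀ (K : DerivedCategory (ModSite.Mod O)) (Y : P.FullSubcategory),
      ((⟨L K, (hP _).2 (hg K).mem⟩ : P.FullSubcategory) ⟶ Y) ≃ (K ⟶ P.ι.obj Y) := fun K Y =>
    P.fullyFaithfulι.homEquiv.trans (Equiv.ofBijective _ ((hg K).bij Y.obj ((hP _).1 Y.property)))
  exact ⟨_, ⟨Adjunction.adjunctionOfEquivLeft e fun X Y Y' h k => (Category.assoc (g X) k.hom h.hom).symm⟩⟩

end Groth.Agent.DerCompLib
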