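import Groth.Agent.DerCompLib.Site

/-!
# Restriction on derived categories is a left adjoint
-/

set_option autoImplicit false
set_option linter.style.haveILetI false
set_option linter.unusedSectionVars false
set_option backward.isDefEq.respectTransparency false
set_option backward.isDefEq.respectTransparency.types false

universe u v v₁ u₁ u₂

open CategoryTheory CategoryTheory.Limits Opposite

attribute [local instance] HasDerivedCategory.standard

noncomputable section

namespace Groth.Agent.DerCompLib

/-- An exact functor with a right adjoint induces a left adjoint of derived categories. -/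
theorem isLeftAdjoint_mapDerivedCategory {A : Type u₁} [Category.{v₁} A] [Abelian A] {B : Type u₂}
    [Category.{v₁} B] [Abelian B] (F : A ⥤ B) [F.Additive] [PreservesFiniteLimits F]
    [PreservesFiniteColimits F] [F.IsLeftAdjoint]
    (hres : ∀ K : CochainComplex B ℤ, ∃ (I : CochainComplex B ℤ) (f : K ⟶ I), I.IsKInjective ∧ QuasiIso f) :
    F.mapDerivedCategory.IsLeftAdjoint := by
  let G := F.rightAdjoint
  let adj := Adjunction.ofIsLeftAdjoint F
  haveI : G.Additive := adj.right_adjoint_additive
  let Φ := G.mapHomotopyCategory (ComplexShape.up ℤ) ⋙ DerivedCategory.Qh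
  haveI := KInj.hasRightDerivedFunctor hres Φ
  let W₁ := HomotopyCategory.quasiIso A (ComplexShape.up ℤ)
  let W₂ := HomotopyCategory.quasiIso B (ComplexShape.up ℤ)
  let RG := Φ.totalRightDerived DerivedCategory.Qh W₂
  let α := Φ.totalRightDerivedUnit DerivedCategory.Qh W₂
  let lf := F.mapDerivedCategoryFactorsh
  haveI := Functor.isLeftDerivedFunctor_of_inverts (W := W₁) F.mapDerivedCategory lf
  haveI : (F.mapDerivedCategory ⋙ RG).IsLeftDerivedFunctor
      ((Functor.associator _ _ _).inv ≫ Functor.whiskerRight lf.hom RG) W₁ :=
    Functor.isLeftDerivedFunctor_of_inverts (W := W₁) (F.mapDerivedCategory ⋙ RG)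
      ((Functor.associator _ _ _).symm ≪≫ Functor.isoWhiskerRight lf RG)
  haveI : (RG ⋙ F.mapDerivedCategory).IsRightDerivedFunctor
      (Functor.whiskerRight α F.mapDerivedCategory ≫ (Functor.associator _ _ _).hom) W₂ :=
    KInj.isRightDerivedFunctor_of_isIso_h hres _ _ fun I hI => by
      haveI := hI
      haveI := KInj.isIso_app_of_isKInjective hres _ RG α I
      simp only [NatTrans.comp_app, Functor.associator_hom_app, Functor.whiskerRight_app]
      infer_instance
  exact ((KInj.homotopyAdjunction adj).derived W₁ W₂ lf.hom α).isLeftAdjoint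

variable {C : Type u} [SmallCategory C] {J : GrothendieckTopology C} (O : Sheaf J CommRingCat.{u}) (U : C)

theorem isLeftAdjoint_restr : (ModSite.restr O U).IsLeftAdjoint := by
  haveI : PreservesColimitsOfSize.{u, u} (ModSite.restr O U) := ⟨fun {K} _ => by
    haveI : (SiteBase.restr J U).IsLeftAdjoint :=
      ((Over.forget U).sheafAdjunctionCocontinuous AddCommGrpCat.{u} (J.over U) J).isLeftAdjoint
    haveI : PreservesColimitsOfSize.{u, u} (SiteBase.restr J U) :=
      (Adjunction.ofIsLeftAdjoint (SiteBase.restr J U)).leftAdjoint_preservesColimits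
    haveI : PreservesColimitsOfShape K
        (ModSite.restr O U ⋙ SheafOfModules.toSheaf (ModSite.ringSh (O.over U))) :=
      inferInstanceAs (PreservesColimitsOfShape K
        (SheafOfModules.toSheaf (ModSite.ringSh O) ⋙ SiteBase.restr J U))
    haveI : ReflectsColimitsOfShape K (SheafOfModules.toSheaf (ModSite.ringSh (O.over U))) :=
      reflectsColimitsOfShape_of_reflectsIsomorphisms
    exact preservesColimitsOfShape_of_reflects_of_preserves _
      (SheafOfModules.toSheaf (ModSite.ringSh (O.over U)))⟩
  haveI : IsGrothendieckAbelian.{u} (ModSite.Mod O) := ModTensor.isGrothendieckAbelian_mod O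
  obtain ⟨G, hG⟩ : ∃ G : ModSite.Mod O, IsSeparator G := HasSeparator.hasSeparator
  haveI : LocallySmall.{u} (ModSite.Mod O) := inferInstance
  haveI : WellPowered.{u} (ModSite.Mod O) := IsGrothendieckAbelian.wellPowered (C := ModSite.Mod O)
  haveI : WellPowered.{u} (ModSite.Mod O)ᵒᵖ := CategoryTheory.Abelian.wellPowered_opposite (C := ModSite.Mod O)
  exact isLeftAdjoint_of_preservesColimits_of_isSeparating (P := ObjectProperty.singleton G) hG _

/-- Restriction to `C/U` on derived categories. -/
abbrev restrD : DerivedCategory (ModSite.Mod O) ⥤ DerivedCategory (ModSite.Mod (O.over U)) :=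
  (ModSite.restr O U).mapDerivedCategory

theorem isLeftAdjoint_restrD : (restrD O U).IsLeftAdjoint := by
  haveI := isLeftAdjoint_restr O U
  exact isLeftAdjoint_mapDerivedCategory _ (hres (O.over U))

end Groth.Agent.DerCompLib
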