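import Groth.Agent.DerCompLib.UnitAct
import Groth.Agent.DerCompLib.RightAdj
import Groth.Agent.DerCompLib.Ideal
import Groth.Agent.PullFlat.OverPull

/-!
# Left orthogonality to derived complete objects is local
-/

set_option autoImplicit false
set_option linter.style.haveILetI false
set_option linter.unusedSectionVars false
set_option backward.isDefEq.respectTransparency false
set_option backward.isDefEq.respectTransparency.types false
set_option maxRecDepth 2000

universe u

open CategoryTheory CategoryTheory.Limits CategoryTheory.Pretriangulated Opposite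

attribute [local instance] HasDerivedCategory.standard

noncomputable section

namespace Groth.Agent.DerCompLib

open Groth.Agent.ModTensor Groth.Agent.PullFlat

variable {C : Type u} [SmallCategory C] {J : GrothendieckTopology C} {O : Sheaf J CommRingCat.{u}}

/-! ### Restriction -/

theorem UnitActM.restr {A : ∀ W : C, Ideal (O.obj.obj (op W))} {N : ModSite.Mod O} {φ : N ⟶ N}
    (h : UnitActM A φ) (V : C) :
    UnitActM (O := O.over V) (fun W => A W.left) ((ModSite.restr O V).map φ) := fun W x => by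
  obtain ⟨S, hS, hx⟩ := h W.left x
  refine ⟨(Sieve.overEquiv W).symm S, J.overEquiv_symm_mem_over W S hS, fun W' g hg => ?_⟩
  obtain ⟨p, hp, hpx⟩ := hx g.left hg
  exact ⟨p, hp, hpx⟩

/-- Sections locally in the span of finitely many global sections. -/
def locSpan (l : List (DerComp.GSec O)) : DerComp.IdealSh O where
  ideal U :=
    { carrier := {f | Loc J U fun W g => ores O g.op f ∈ spanFam l W}
      add_mem' := fun {a b} ha hb => by
        refine Loc.bind ha fun W g hg => ?_
        obtain ⟨S, hS, h⟩ := hb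
        refine ⟨S.pullback g, J.pullback_stable g hS, fun W' k hk => ?_⟩
        show ores O (k ≫ g).op (a + b) ∈ spanFam l W'
        rw [map_add, op_comp, ores_comp]
        exact Ideal.add_mem _ (spanFam_map l k _ hg) (by rw [← op_comp]; exact h _ hk)
      zero_mem' := Loc.of_forall fun W g => by rw [map_zero]; exact Ideal.zero_mem _
      smul_mem' := fun r a ha => loc_mono ha fun W g hg => by
        rw [smul_eq_mul, map_mul]
        exact Ideal.mul_mem_left _ _ hg }
  map_mem {U V} g {f} hf := by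
    obtain ⟨S, hS, h⟩ := hf
    refine ⟨S.pullback g, J.pullback_stable g hS, fun W k hk => ?_⟩
    show ores O k.op (ores O g.op f) ∈ _
    rw [← ores_comp, ← op_comp]
    exact h _ hk
  glue {U f} S hS h := by
    refine Loc.bind (J := J) ⟨S, hS, fun _ _ hg => hg⟩ fun W g hg => ?_
    refine loc_mono (show Loc J W fun W' k => ores O k.op (ores O g.op f) ∈ spanFam l W' from h g hg)
      fun W' k hk => ?_
    rw [op_comp, ores_comp]
    exact hk

theorem locGen {ι : Type*} (s : ι → DerComp.GSec O) (l : List (DerComp.GSec O)) (hl : ∀ i, s i ∈ l)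
    {I : DerComp.IdealSh O} (hI : I.IsGenBy s) (U : C) :
    ∀ f ∈ I.ideal U, Loc J U fun W g => ores O g.op f ∈ spanFam l W :=
  hI.2 (locSpan l) (fun i U => Loc.of_forall fun W g => Ideal.subset_span ⟨s i, hl i, ((s i).2 g).symm⟩) U

/-- The list of generators. -/
abbrev genList {r : ℕ} (V : C) (a : Fin r → O.obj.obj (op V)) : List (DerComp.GSec (O.over V)) :=
  List.ofFn fun i => DerComp.GSec.ofSect O V (a i)

theorem UnitActM.restr_genList {I : DerComp.IdealSh O} {N : ModSite.Mod O} {φ : N ⟶ N}
    (h : UnitActM (fun W => I.ideal W) φ) {V : C} {r : ℕ} (a : Fin r → O.obj.obj (op V))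
    (ha : (I.over V).IsGenBy fun i => DerComp.GSec.ofSect O V (a i)) :
    UnitActM (spanFam (genList V a)) ((ModSite.restr O V).map φ) :=
  (h.restr V).of_locLE (fun W f hf => locGen (O := O.over V) _ _ (fun i => List.mem_ofFn.2 ⟨i, rfl⟩) ha W f hf)
    (spanFam_map _)

/-! ### The test modules -/

variable (O)

theorem ι_awayMap (s : DerComp.GSec O) (F : ModSite.Mod O) (n : ℕ) :
    Sigma.ι (fun _ : ℕ => F) n ≫ DerComp.awayMap s F =
      Sigma.ι (fun _ : ℕ => F) n - DerComp.smulEnd s F ≫ Sigma.ι (fun _ : ℕ => F) (n + 1) :=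
  Sigma.ι_desc _ _

theorem ι_π_away (s : DerComp.GSec O) (F : ModSite.Mod O) (n : ℕ) :
    Sigma.ι (fun _ : ℕ => F) n ≫ cokernel.π (DerComp.awayMap s F) =
      DerComp.smulEnd s F ≫ Sigma.ι (fun _ : ℕ => F) (n + 1) ≫ cokernel.π (DerComp.awayMap s F) := by
  rw [← sub_eq_zero, ← Category.assoc (DerComp.smulEnd s F), ← Preadditive.sub_comp, ← ι_awayMap,
    Category.assoc, cokernel.condition, comp_zero]

/-- `x / f^n ↦ x / f^(n+1)`. -/
def awayShift (s : DerComp.GSec O) (F : ModSite.Mod O) : DerComp.locAway s F ⟶ DerComp.locAway s F :=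
  cokernel.desc _ (Sigma.desc fun n => Sigma.ι (fun _ : ℕ => F) (n + 1) ≫ cokernel.π (DerComp.awayMap s F)) (by
    refine Sigma.hom_ext _ _ fun n => ?_
    rw [← Category.assoc, ι_awayMap, comp_zero, Preadditive.sub_comp, Category.assoc, Sigma.ι_desc, Sigma.ι_desc,
      ← ι_π_away, sub_self])

theorem awayShift_smul (s : DerComp.GSec O) (F : ModSite.Mod O) :
    awayShift O s F ≫ DerComp.smulEnd s (DerComp.locAway s F) = 𝟙 _ := by
  refine coequalizer.hom_ext (Sigma.hom_ext _ _ fun n => ?_)
  rw [Category.comp_id]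
  show Sigma.ι (fun _ : ℕ => F) n ≫ cokernel.π _ ≫ cokernel.desc _ _ _ ≫ _ = Sigma.ι (fun _ : ℕ => F) n ≫ cokernel.π _
  rw [cokernel.π_desc_assoc, Sigma.ι_desc_assoc, Category.assoc, ι_π_away, ← DerComp.smulEnd_comm,
    ← Category.assoc (Sigma.ι (fun _ : ℕ => F) (n + 1)), ← DerComp.smulEnd_comm, Category.assoc]

/-- The test object `j_{U!} O_{U,f}`. -/
abbrev tObj (U : C) (f : O.obj.obj (op U)) : ModSite.Mod O :=
  (ModSite.extZero O U).obj (DerComp.awayOver O U f)

/-- Division by `f` on the test object. -/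
abbrev tDiv (U : C) (f : O.obj.obj (op U)) : tObj O U f ⟶ tObj O U f :=
  (ModSite.extZero O U).map (awayShift (O.over U) (DerComp.GSec.ofSect O U f) (ModSite.unit (O.over U)))

/-- The presheaf underlying a module on `C/U`. -/
abbrev preOver {U : C} (N : ModSite.Mod (O.over U)) :
    PresheafOfModules.{u} (SiteBase.ExtZeroPre.overR (ModSite.ringSh O).obj U) :=
  (SheafOfModules.forget (ModSite.ringSh (O.over U))).obj N

/-- An endomorphism on underlying presheaves. -/
abbrev preOverMap {U : C} {N N' : ModSite.Mod (O.over U)} (φ : N ⟶ N') : preOver O N ⟶ preOver O N' :=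
  (SheafOfModules.forget (ModSite.ringSh (O.over U))).map φ

open SiteBase.ExtZeroPre in
/-- Sections of the presheaf extension by zero are fixed by polynomials in the division by `f`. -/
theorem exists_fix (U : C) (f : O.obj.obj (op U)) {I : DerComp.IdealSh O} (hf : f ∈ I.ideal U)
    (N : ModSite.Mod (O.over U)) (φ : N ⟶ N)
    (hφ : φ ≫ DerComp.smulEnd (DerComp.GSec.ofSect O U f) N = 𝟙 N) (W : C)
    (x : (jObj (preOver O N)).obj (op W)) :
    ∃ p : Polynomial (O.obj.obj (op W)), p ∈ Ideal.map Polynomial.C (I.ideal W) ∧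
      pact (O := O) (P := jObj (preOver O N))
        ((jFun (ModSite.ringSh O).obj U).map (preOverMap O φ))
        (op W) p x = x := by
  classical
  change SiteBase.ExtZeroPre.Sec (preOver O N) W at x
  induction x using DirectSum.induction_on with
  | zero => exact ⟨0, Ideal.zero_mem _, map_zero _⟩
  | of a y =>
    let c : O.obj.obj (op W) := ores O a.op f
    refine ⟨Polynomial.C c * Polynomial.X, Ideal.mul_mem_right _ _ (Ideal.mem_map_of_mem _ (I.map_mem a hf)), ?_⟩
    rw [map_mul, Module.End.mul_apply, pact, Polynomial.aeval_C, Polynomial.aeval_X, Module.algebraMap_end_apply]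
    show c • ((jFun (ModSite.ringSh O).obj U).map _).app (op W) (ι _ W a y) = ι _ W a y
    rw [jFun_map_ι]
    refine (ι_smul (preOver O N) W a (show (ModSite.ringSh O).obj.obj (op W) from c) _).symm.trans (congrArg (ι _ W a) ?_)
    exact congr(($hφ).val.app (op (Over.mk a)) y)
  | add a b ha hb =>
    obtain ⟨p, hp, hpa⟩ := ha
    obtain ⟨q, hq, hqb⟩ := hb
    refine ⟨p + q - q * p, Ideal.sub_mem _ (Ideal.add_mem _ hp hq) (Ideal.mul_mem_left _ _ hp), ?_⟩
    erw [map_add]
    have h1 : ∀ z, pact (O := O) (P := jObj (preOver O N))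
        ((jFun (ModSite.ringSh O).obj U).map (preOverMap O φ))
        (op W) (p + q - q * p) z = pact _ _ p z + pact _ _ q z - pact _ _ q (pact _ _ p z) := fun z => by
      rw [map_sub, map_add, map_mul, LinearMap.sub_apply, LinearMap.add_apply, Module.End.mul_apply]
    have h2 : ∀ z, pact (O := O) (P := jObj (preOver O N))
        ((jFun (ModSite.ringSh O).obj U).map (preOverMap O φ))
        (op W) q (pact _ _ p z) = pact _ _ p (pact _ _ q z) := fun z => by
      rw [← Module.End.mul_apply, ← map_mul, mul_comm, map_mul, Module.End.mul_apply]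
    rw [h1 a, hpa, h1 b, h2 b, hqb]
    abel

open SiteBase.ExtZeroPre in
theorem unitActM_tDiv (U : C) (f : O.obj.obj (op U)) {I : DerComp.IdealSh O} (hf : f ∈ I.ideal U) :
    UnitActM (fun W => I.ideal W) (tDiv O U f) := by
  let s := DerComp.GSec.ofSect O U f
  let N := DerComp.awayOver O U f
  let φ := awayShift (O.over U) s (ModSite.unit (O.over U))
  let G := preOver O N
  let P : PMod O.obj := jObj G
  let ψ : P ⟶ P := (jFun (ModSite.ringSh O).obj U).map (preOverMap O φ)
  have h0 : UnitAct (P := P) (fun W => I.ideal W) ψ := fun W x => Loc.of_forall fun W' g => by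
    exact exists_fix O U f hf N φ (awayShift_smul _ _ _) W' _
  have h1 : UnitActM (fun W => I.ideal W) ((jSh O U).map φ) := by
    refine h0.of_locSurj (shUnit O P) (shUnit_naturality O ψ) fun W y => ?_
    haveI := ((J.W_iff_isLocallyBijective _).1 (W_shUnit O P)).2
    let a' := (PresheafOfModules.toPresheaf _).map (shUnit O P)
    let S : Sieve W := Presheaf.imageSieve a'
      (show (((PresheafOfModules.toPresheaf _).obj (pre O ((shF O).obj P))).obj (op W) : Type u) from y)
    have hS : S ∈ J W := Presheaf.imageSieve_mem J a' (U := op W) y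
    exact ⟨S, hS, fun _ _ hg => hg⟩
  exact h1.of_epi ((extZeroIso O U).inv.app N) ((extZeroIso O U).inv.naturality φ)

/-! ### Objects left orthogonal to derived complete objects -/

variable (I : DerComp.IdealSh O)

/-- `X` is left orthogonal to the derived complete objects. -/
def LeftOrth (X : DerivedCategory (ModSite.Mod O)) : Prop :=
  ∀ Z, DerComp.IsDerComp O I Z → ∀ u : X ⟶ Z, u = 0

variable {O I}

theorem isDerComp_shift {Z : DerivedCategory (ModSite.Mod O)} (h : DerComp.IsDerComp O I Z) (m : ℤ) :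
    DerComp.IsDerComp O I (Z⟦m⟧) := fun U f hf n =>
  haveI := h U f hf (m + n)
  ((shiftFunctorAdd' (DerivedCategory (ModSite.Mod O)) m n (m + n) rfl).app Z).symm.homToEquiv.subsingleton

theorem LeftOrth.shift {X : DerivedCategory (ModSite.Mod O)} (hX : LeftOrth O I X) (n : ℤ) :
    LeftOrth O I (X⟦n⟧) := fun Z hZ u => by
  apply (shiftFunctor (DerivedCategory (ModSite.Mod O)) (-n)).map_injective
  rw [← cancel_epi ((shiftFunctorCompIsoId (DerivedCategory (ModSite.Mod O)) n (-n) (add_neg_cancel n)).inv.app X),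
    Functor.map_zero, comp_zero]
  exact hX _ (isDerComp_shift hZ (-n)) _

section Transfer

variable {C' : Type u} [SmallCategory C'] {J' : GrothendieckTopology C'} {O' : Sheaf J' CommRingCat.{u}}
  (Fd : DerivedCategory (ModSite.Mod O) ⥤ DerivedCategory (ModSite.Mod O')) [Fd.CommShift ℤ] [Fd.IsLeftAdjoint]

/-- Left adjoint functors sending the test objects to left orthogonal objects preserve left orthogonality. -/
theorem LeftOrth.lOrth_of_tests (l : List (DerComp.GSec O'))
    (hT : ∀ (U : C) (f : O.obj.obj (op U)), f ∈ I.ideal U →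
      LOrth l (Fd.obj (SiteCmp.inD O (tObj O U f)))) {X : DerivedCategory (ModSite.Mod O)}
    (hX : LeftOrth O I X) : LOrth l (Fd.obj X) := fun Z hZ u => by
  let adj := Adjunction.ofIsLeftAdjoint Fd
  have hc : DerComp.IsDerComp O I (Fd.rightAdjoint.obj Z) := fun U f hf n => by
    let T := SiteCmp.inD O (tObj O U f)
    let F := shiftFunctor (DerivedCategory (ModSite.Mod O)) (-n)
    let e := (shiftFunctorCompIsoId (DerivedCategory (ModSite.Mod O)) n (-n) (add_neg_cancel n)).app
      (Fd.rightAdjoint.obj Z)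
    refine ⟨fun a b => F.map_injective ((cancel_mono e.hom).1 ((adj.homEquiv _ _).symm.injective
      (((sub_eq_zero).1 ?_))))⟩
    exact (((hT U f hf).shift (-n)).of_iso ((Fd.commShiftIso (-n)).app T).symm) Z hZ _
  refine (adj.homEquiv _ _).injective ((hX _ hc _).trans ?_)
  exact (hX _ hc _).symm

end Transfer

/-- Left orthogonality restricts to objects with generators. -/
theorem LeftOrth.lOrth_restrD {X : DerivedCategory (ModSite.Mod O)} (hX : LeftOrth O I X) {V : C} {r : ℕ}
    (a : Fin r → O.obj.obj (op V)) (ha : (I.over V).IsGenBy fun i => DerComp.GSec.ofSect O V (a i)) :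
    LOrth (genList V a) ((restrD O V).obj X) := by
  haveI := isLeftAdjoint_restrD O V
  refine hX.lOrth_of_tests (restrD O V) _ fun U f hf => ?_
  exact ((unitActM_tDiv O U f hf).restr_genList a ha).lOrth.of_iso
    (((ModSite.restr O V).mapDerivedCategorySingleFunctor 0).app _).symm

variable (O)

/-- An object vanishing on a covering vanishes. -/
theorem isZero_of_restrD (B : Set C) (hB : ∀ U : C, ∃ S ∈ J U, ∀ ⦃V : C⦄ (g : V ⟶ U), S g → V ∈ B)
    (X : DerivedCategory (ModSite.Mod O)) (h : ∀ V ∈ B, IsZero ((restrD O V).obj X)) : IsZero X :=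
  isZero_of_test O B hB X fun V hV n => by
    obtain ⟨D⟩ := OpenRestrH.nonempty_derived_adjunction (ModSite.extZeroAdj O V)
    refine ⟨fun a b => ?_⟩
    rw [← cancel_epi (((ModSite.extZero O V).mapDerivedCategorySingleFunctor 0).hom.app
      (ModSite.unit (O.over V)))]
    refine (D.homEquiv _ _).injective ((IsZero.eq_of_tgt ?_ _ _))
    exact ((shiftFunctor _ n).map_isZero (h V hV)).of_iso (((restrD O V).commShiftIso n).app X)

/-- The fibre of a completion is left orthogonal. -/
theorem leftOrth_fibre [DerComp.HasDerCompletion O I] {X N : DerivedCategory (ModSite.Mod O)}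
    {a : N ⟶ X} {d : ((DerComp.derCompletion O I).obj X).obj ⟶ N⟦(1 : ℤ)⟧}
    (hT : Triangle.mk a (DerComp.toDerCompletion I X) d ∈ distTriang (DerivedCategory (ModSite.Mod O))) :
    LeftOrth O I N := fun Z hZ w => by
  let adj := DerComp.derCompletionAdj O I
  let η := DerComp.toDerCompletion I X
  have hb : ∀ Y, DerComp.IsDerComp O I Y → Function.Bijective fun y : ((DerComp.derCompletion O I).obj X).obj ⟶ Y =>
      η ≫ y := fun Y hY => by
    have e : (fun y : ((DerComp.derCompletion O I).obj X).obj ⟶ Y => η ≫ y) =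
        (adj.homEquiv X ⟨Y, hY⟩) ∘ (ObjectProperty.fullyFaithfulι (DerComp.IsDerComp O I)).homEquiv.symm :=
      funext fun y => (adj.homEquiv_unit X ⟨Y, hY⟩ (ObjectProperty.homMk y)).symm
    rw [e]
    exact (Equiv.bijective _).comp (Equiv.bijective _)
  apply (shiftFunctor (DerivedCategory (ModSite.Mod O)) (1 : ℤ)).map_injective
  rw [Functor.map_zero]
  have h1 : d ≫ w⟦(1 : ℤ)⟧' = 0 := (hb _ (isDerComp_shift hZ 1)).1 (by
    show η ≫ d ≫ w⟦(1 : ℤ)⟧' = η ≫ 0
    rw [← Category.assoc, show η ≫ d = 0 from comp_distTriang_mor_zero₂₃ _ hT, zero_comp, comp_zero])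
  obtain ⟨x, hx⟩ := Triangle.yoneda_exact₃ _ (rot_of_distTriang _ hT) (w⟦(1 : ℤ)⟧') h1
  obtain ⟨x₀, hx₀⟩ := (shiftFunctor (DerivedCategory (ModSite.Mod O)) (1 : ℤ)).map_surjective x
  obtain ⟨y, hy⟩ := (hb Z hZ).2 x₀
  refine hx.trans ?_
  show (-a⟦(1 : ℤ)⟧') ≫ x = 0
  rw [← hx₀, ← hy, Preadditive.neg_comp, ← Functor.map_comp, ← Category.assoc,
    show a ≫ η = 0 from comp_distTriang_mor_zero₁₂ _ hT, zero_comp, Functor.map_zero, neg_zero]

/-- Left orthogonality is local. -/
theorem leftOrth_of_local [DerComp.HasDerCompletion O I] (B : Set C)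
    (hB : ∀ U : C, ∃ S ∈ J U, ∀ ⦃V : C⦄ (g : V ⟶ U), S g → V ∈ B)
    (X : DerivedCategory (ModSite.Mod O))
    (h : ∀ V ∈ B, ∃ (r : ℕ) (a : Fin r → O.obj.obj (op V)),
      ((I.over V).IsGenBy fun i => DerComp.GSec.ofSect O V (a i)) ∧ LOrth (genList V a) ((restrD O V).obj X)) :
    LeftOrth O I X := by
  let η := DerComp.toDerCompletion I X
  obtain ⟨N, a, d, hT⟩ := distinguished_cocone_triangle₁ η
  have hN : LeftOrth O I N := leftOrth_fibre O hT
  have hQ : IsZero ((DerComp.derCompletion O I).obj X).obj := by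
    refine isZero_of_restrD O B hB _ fun V hV => ?_
    obtain ⟨r, b, hgen, hX⟩ := h V hV
    have h3 := LOrth.obj₃ _ ((restrD O V).map_distinguished _ hT) (hN.lOrth_restrD b hgen) hX
    refine LOrth.isZero h3 fun s hs => ?_
    obtain ⟨i, rfl⟩ := List.mem_ofFn.1 hs
    have hmem := hgen.1 i (Over.mk (𝟙 V))
    change (O.obj.map (𝟙 V).op).hom (b i) ∈ I.ideal V at hmem
    rw [op_id, O.obj.map_id] at hmem
    exact compl_restr O V hmem ((DerComp.derCompletion O I).obj X).property
  intro Z hZ u
  obtain ⟨y, hy⟩ := ((DerComp.derCompletionAdj O I).homEquiv X ⟨Z, hZ⟩).surjective u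
  rw [← hy, Adjunction.homEquiv_unit]
  show η ≫ y.hom = 0
  rw [hQ.eq_of_src y.hom 0, comp_zero]

end Groth.Agent.DerCompLib
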