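import Groth.Agent.DCohMore.FinHom
import Groth.Agent.DerCompLib.AdicFin
import Groth.Agent.DerCompLib.HomOrth
import Groth.Agent.DerCompLib.RestrOrth

/-!
# Morphisms between coherent objects on a proper scheme over a complete ring are derived complete
-/

set_option autoImplicit false
set_option linter.style.haveILetI false
set_option linter.unusedSectionVars false
set_option backward.isDefEq.respectTransparency false
set_option backward.isDefEq.respectTransparency.types false
set_option maxHeartbeats 1000000

universe u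

open CategoryTheory CategoryTheory.Limits Opposite TopologicalSpace AlgebraicGeometry

attribute [local instance] HasDerivedCategory.standard

noncomputable section

namespace Groth.Agent.DerCompLib

open Groth.Agent.ProEtDCLib

variable {A : Type u} [CommRing A] {X : Scheme.{u}} [X.Over (Spec (CommRingCat.of A))]

variable (X) in
/-- The global section given by an element of the base ring. -/
def baseSec (a : A) : DerComp.GSec X.sheaf :=
  ⟨fun U => (X.presheaf.map (homOfLE (le_top : U ≤ ⊤)).op).hom (Coh.toGlobal (X ↘ Spec (CommRingCat.of A)) a),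
    fun U V g => by
      show ((X.presheaf.map _ ≫ X.presheaf.map g.op).hom _ : _) = _
      rw [← Functor.map_comp]
      rfl⟩

theorem smul_mod_eq (a : A) (M : X.Modules) :
    DerComp.smulEnd (O := X.sheaf) (baseSec X a) M = a • 𝟙 M := by
  refine Scheme.Modules.hom_ext _ _ fun U => ?_
  ext m
  exact (KLin.smul_app_apply a (𝟙 M) U m).symm

theorem smul_eq_Q {B : Type*} [Category B] [Abelian B] [HasDerivedCategory B] {R : Type*} [CommRing R] [Linear R B]
    (r : R) {K L : DerivedCategory B} (C : CochainComplex B ℤ) (e : DerivedCategory.Q.obj C ≅ K) (x : K ⟶ L) :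
    r • x = e.inv ≫ DerivedCategory.Q.map (r • 𝟙 C) ≫ e.hom ≫ x := by
  rw [Functor.map_smul, CategoryTheory.Functor.map_id, Linear.smul_comp, Category.id_comp, Linear.comp_smul,
    e.inv_hom_id_assoc]

theorem smul_D_eq (a : A) {K L : DCoh.D X} (x : K ⟶ L) :
    baseSec X a • (show @Quiver.Hom (DerivedCategory (ModSite.Mod X.sheaf)) _ K L from x) = a • x := by
  let C : CochainComplex X.Modules ℤ := DerivedCategory.Q.objPreimage K
  let e : DerivedCategory.Q.obj C ≅ K := DerivedCategory.Q.objObjPreimageIso K
  let C' : CochainComplex (ModSite.Mod X.sheaf) ℤ := C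
  have hC : (baseSec X a • 𝟙 C' : C' ⟶ C') = (a • 𝟙 C : C ⟶ C) :=
    HomologicalComplex.hom_ext _ _ fun n => by
      show baseSec X a • 𝟙 (C'.X n) = a • 𝟙 (C.X n)
      rw [DerComp.smul_def, Category.comp_id]
      exact smul_mod_eq a _
  let e' : (DerivedCategory.Q (C := ModSite.Mod X.sheaf)).obj C' ≅ (K : DerivedCategory (ModSite.Mod X.sheaf)) := e
  refine (smul_eq_Q (B := ModSite.Mod X.sheaf) (baseSec X a) C' e'
    (show @Quiver.Hom (DerivedCategory (ModSite.Mod X.sheaf)) _ K L from x)).trans ?_
  refine Eq.trans ?_ (smul_eq_Q (B := X.Modules) a C e x).symm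
  exact congrArg (fun k => e.inv ≫ (DerivedCategory.Q (C := X.Modules)).map k ≫ e.hom ≫ x) hC

/-- Morphism groups between coherent objects are derived complete. -/
theorem hCompl_coh [IsNoetherianRing A] (I : Ideal A) [IsAdicComplete I A]
    [IsProper (X ↘ Spec (CommRingCat.of A))] {a : A} (ha : a ∈ I)
    (F G : DerivedCategory (ModSite.Mod X.sheaf)) (hF : DCoh.IsCohD (X := X) F) (hG : DCoh.IsCohD (X := X) G)
    (m n : ℤ) [F.IsLE m] [G.IsGE n] : HCompl (baseSec X a) F G := fun p => by
  haveI : IsLocallyNoetherian X := LocallyOfFiniteType.isLocallyNoetherian (X ↘ Spec (CommRingCat.of A))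
  let G' : DCoh.D X := G⟦p⟧
  let F' : DCoh.D X := F
  haveI : G'.IsGE (n - p) := DerivedCategory.TStructure.t.isGE_shift (G : DCoh.D X) n p (n - p) (by omega)
  have hG' : DCoh.IsCohD G' := fun i => DCohLib.isCoh_iso
    (((DerivedCategory.homologyFunctor X.Modules 0).shiftIso p i (p + i) rfl).app G).symm (hG (p + i))
  haveI : Module.Finite A (F' ⟶ G') :=
    DCohMore.FinHom.finite_hom F' G' hF ⟨m, ‹F.IsLE m›⟩ hG' ⟨n - p, ‹G'.IsGE (n - p)›⟩
  have h := dBij_of_finite I ha (F' ⟶ G')
  have e : hs (baseSec X a) F (G⟦p⟧) = ProEtDCLib.smulEnd (F' ⟶ G') a :=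
    AddMonoidHom.ext fun x => smul_D_eq (K := F') (L := G') a x
  rw [e]
  exact h

end Groth.Agent.DerCompLib
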