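import Groth.Agent.DerCompLib.RestrOrth

/-!
# Recognition of completions; completions and restriction
-/

set_option autoImplicit false
set_option linter.style.haveILetI false
set_option linter.unusedSectionVars false
set_option backward.isDefEq.respectTransparency false
set_option backward.isDefEq.respectTransparency.types false
set_option maxRecDepth 2000

universe u

open CategoryTheory CategoryTheory.Limits CategoryTheory.Pretriangulated Opposite

attribute [local instance] HasDerivedCategory.standard

noncomputable section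

namespace Groth.Agent.DerCompLib

open Groth.Agent.ModTensor Groth.Agent.PullFlat

variable {C : Type u} [SmallCategory C] {J : GrothendieckTopology C} (O : Sheaf J CommRingCat.{u})
  (I : DerComp.IdealSh O)

/-- A map to a complete object with left orthogonal fibre is a completion. -/
theorem isIso_of_leftOrth_fibre [DerComp.HasDerCompletion O I] {X L N : DerivedCategory (ModSite.Mod O)}
    (hL : DerComp.IsDerComp O I L) {a : N ⟶ X} {g : X ⟶ L} {d : L ⟶ N⟦(1 : ℤ)⟧}
    (hT : Triangle.mk a g d ∈ distTriang (DerivedCategory (ModSite.Mod O))) (hN : LeftOrth O I N) :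
    IsIso (((DerComp.derCompletionAdj O I).homEquiv X ⟨L, hL⟩).symm g) := by
  let adj := DerComp.derCompletionAdj O I
  let φ := (adj.homEquiv X ⟨L, hL⟩).symm g
  have hb : ∀ Y : DerComp.DComp O I, Function.Bijective fun k : (⟨L, hL⟩ : DerComp.DComp O I) ⟶ Y => φ ≫ k := by
    intro Y
    have e : (fun k : (⟨L, hL⟩ : DerComp.DComp O I) ⟶ Y => φ ≫ k) =
        (adj.homEquiv X Y).symm ∘ fun k => g ≫ k.hom := funext fun k => by
      exact (adj.homEquiv_naturality_right_symm g k).symm
    rw [e]
    refine (Equiv.bijective _).comp ⟨fun k k' hk => ObjectProperty.hom_ext _ (sub_eq_zero.1 ?_), fun y => ?_⟩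
    · obtain ⟨w, hw⟩ := Triangle.yoneda_exact₃ _ hT (k.hom - k'.hom) (by
        show g ≫ (k.hom - k'.hom) = 0
        rw [Preadditive.comp_sub, sub_eq_zero]
        exact hk)
      have hw0 : w = 0 := by
        apply (shiftFunctor (DerivedCategory (ModSite.Mod O)) (-1 : ℤ)).map_injective
        rw [← cancel_epi ((shiftFunctorCompIsoId (DerivedCategory (ModSite.Mod O)) (1 : ℤ) (-1)
          (by norm_num)).inv.app N), Functor.map_zero, comp_zero]
        exact hN _ (isDerComp_shift Y.property (-1)) _
      rw [hw, hw0]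
      exact comp_zero
    · obtain ⟨w, hw⟩ := Triangle.yoneda_exact₂ _ hT y (hN _ Y.property _)
      exact ⟨ObjectProperty.homMk w, hw.symm⟩
  obtain ⟨k, hk⟩ := (hb _).2 (𝟙 _)
  refine ⟨k, hk, (hb _).1 ?_⟩
  show φ ≫ k ≫ φ = φ ≫ 𝟙 _
  rw [← Category.assoc, show φ ≫ k = 𝟙 _ from hk, Category.id_comp, Category.comp_id]

variable {O I}

/-- Generators over `W.left` generate on the slice of the slice. -/
theorem isGenBy_over_over (U : C) (W : Over U) {r : ℕ} (a : Fin r → O.obj.obj (op W.left))
    (ha : (I.over W.left).IsGenBy fun i => DerComp.GSec.ofSect O W.left (a i)) :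
    ((I.over U).over W).IsGenBy fun i => DerComp.GSec.ofSect (O.over U) W (a i) := by
  refine ⟨fun i W' => I.map_mem _ ?_, fun I'' h'' W' f hf => ?_⟩
  · have h := ha.1 i (Over.mk (𝟙 W.left))
    change (O.obj.map (𝟙 W.left).op).hom (a i) ∈ I.ideal W.left at h
    rwa [op_id, O.obj.map_id] at h
  · obtain ⟨S, hS, h⟩ := locGen (O := O.over W.left) _ (List.ofFn fun i => DerComp.GSec.ofSect O W.left (a i))
      (fun i => List.mem_ofFn.2 ⟨i, rfl⟩) ha (Over.mk W'.hom.left) f hf
    let S₁ : Sieve W'.left.left := Sieve.overEquiv (Over.mk W'.hom.left : Over W.left) S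
    have hS₁ : S₁ ∈ J W'.left.left := (GrothendieckTopology.mem_over_iff _ _).1 hS
    let S₂ : Sieve W'.left := (Sieve.overEquiv W'.left).symm S₁
    let S₃ : Sieve W' := (Sieve.overEquiv W').symm S₂
    have hS₃ : S₃ ∈ (J.over U).over W W' :=
      (J.over U).overEquiv_symm_mem_over W' S₂ (J.overEquiv_symm_mem_over W'.left S₁ hS₁)
    refine I''.glue S₃ hS₃ fun W'' g hg => ?_
    have hg' : S (Over.homMk g.left.left : Over.mk (g.left.left ≫ W'.hom.left) ⟶ Over.mk W'.hom.left) :=
      (Sieve.overEquiv_iff S g.left.left).1 hg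
    have h1 := h _ hg'
    have hw : g.left.left ≫ W'.hom.left = W''.hom.left := congrArg Over.Hom.left (Over.w g)
    refine (Ideal.span_le.2 ?_ : spanFam (O := O.over W.left)
      (List.ofFn fun i => DerComp.GSec.ofSect O W.left (a i)) (Over.mk (g.left.left ≫ W'.hom.left)) ≤
        (show Ideal ((O.over W.left).obj.obj (op (Over.mk (g.left.left ≫ W'.hom.left)))) from I''.ideal W'')) h1
    rintro _ ⟨s, hs, rfl⟩
    obtain ⟨i, rfl⟩ := List.mem_ofFn.1 hs
    have := h'' i W''
    show (O.obj.map (g.left.left ≫ W'.hom.left).op).hom (a i) ∈ I''.ideal W''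
    rw [hw]
    exact this

/-- Left orthogonality is preserved by restriction. -/
theorem LeftOrth.restrD (U : C) (hI : I.IsFiniteType) [DerComp.HasDerCompletion (O.over U) (I.over U)]
    {X : DerivedCategory (ModSite.Mod O)} (hX : LeftOrth O I X) :
    LeftOrth (O.over U) (I.over U) ((restrD O U).obj X) := by
  refine leftOrth_of_local (O.over U)
    {W : Over U | ∃ (r : ℕ) (a : Fin r → O.obj.obj (op W.left)),
      (I.over W.left).IsGenBy fun i => DerComp.GSec.ofSect O W.left (a i)} (fun W => ?_) _ fun W hW => ?_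
  · obtain ⟨S, hS, h⟩ := hI W.left
    exact ⟨(Sieve.overEquiv W).symm S, J.overEquiv_symm_mem_over W S hS, fun W' g hg => h g.left hg⟩
  · obtain ⟨r, a, ha⟩ := hW
    have ha' := isGenBy_over_over U W a ha
    refine ⟨r, a, ha', ?_⟩
    haveI := isLeftAdjoint_restrD O U
    haveI := isLeftAdjoint_restrD (O.over U) W
    let Fd := DerCompLib.restrD O U ⋙ DerCompLib.restrD (O.over U) W
    haveI : Fd.IsLeftAdjoint := ((Adjunction.ofIsLeftAdjoint (DerCompLib.restrD O U)).comp
      (Adjunction.ofIsLeftAdjoint (DerCompLib.restrD (O.over U) W))).isLeftAdjoint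
    refine hX.lOrth_of_tests Fd _ fun V f hf => ?_
    exact (((unitActM_tDiv O V f hf).restr U).restr_genList (I := I.over U) a ha').lOrth.of_iso
      ((((ModSite.restr (O.over U) W).mapDerivedCategorySingleFunctor 0).app _).symm ≪≫
        (DerCompLib.restrD (O.over U) W).mapIso (((ModSite.restr O U).mapDerivedCategorySingleFunctor 0).app _).symm)

end Groth.Agent.DerCompLib
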