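import Groth.Agent.DerCompLib.AffTensor
import Groth.Agent.DerCompLib.Universal
import Groth.Agent.DerCompLib.HomOrth
import Groth.Agent.DerCompLib.ProperHom
import Groth.Agent.ExtShLib.Affine
import Groth.Agent.DerPushLib.Adj
import Groth.Agent.FibDescLib.DerivedComp
import Groth.Agent.TensorCohLib.Basic

/-!
# From complexes of modules to the derived category of an affine scheme
-/

set_option autoImplicit false
set_option linter.style.haveILetI false
set_option linter.unusedSectionVars false
set_option backward.isDefEq.respectTransparency false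
set_option backward.isDefEq.respectTransparency.types false
set_option maxHeartbeats 1000000

universe u

open CategoryTheory CategoryTheory.Limits Opposite TopologicalSpace AlgebraicGeometry
open CategoryTheory.Pretriangulated
open Groth.Agent.RlimCrit (sgl)

attribute [local instance] HasDerivedCategory.standard

noncomputable section

namespace Groth.Agent.DerCompLib

section General

universe v₁ u₁ v₂ u₂ w₁ w₂

variable {A : Type u₁} [Category.{v₁} A] [Abelian A] {B : Type u₂} [Category.{v₂} B] [Abelian B]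
  {R : Type w₁} [CommRing R] {S : Type w₂} [CommRing S] [Linear R A] [Linear S B]
  (F : A ⥤ B) [F.Additive] [PreservesFiniteLimits F] [PreservesFiniteColimits F] (σ : R → S)

/-- The functor carries multiplication by `r` to multiplication by `σ r`. -/
def SmulCompat : Prop := ∀ (r : R) (N : A), F.map (r • 𝟙 N) = σ r • 𝟙 (F.obj N)

theorem mapDerived_smul (h : SmulCompat F σ) (r : R)
    (Y : DerivedCategory A) :
    F.mapDerivedCategory.map (r • 𝟙 Y) = σ r • 𝟙 (F.mapDerivedCategory.obj Y) := by
  let C := DerivedCategory.Q.objPreimage Y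
  let e : DerivedCategory.Q.obj C ≅ Y := DerivedCategory.Q.objObjPreimageIso Y
  let fac := F.mapDerivedCategoryFactors
  have hC : (F.mapHomologicalComplex (ComplexShape.up ℤ)).map (r • 𝟙 C) =
      σ r • 𝟙 ((F.mapHomologicalComplex (ComplexShape.up ℤ)).obj C) :=
    HomologicalComplex.hom_ext _ _ fun n => h r (C.X n)
  have hQ : F.mapDerivedCategory.map (DerivedCategory.Q.map (r • 𝟙 C)) =
      σ r • 𝟙 (F.mapDerivedCategory.obj (DerivedCategory.Q.obj C)) := by
    refine ((Iso.eq_comp_inv (fac.app C)).2 (fac.hom.naturality (r • 𝟙 C))).trans ?_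
    have h2 : DerivedCategory.Q.map ((F.mapHomologicalComplex (ComplexShape.up ℤ)).map (r • 𝟙 C)) = σ r • 𝟙 _ := by
      rw [hC, Functor.map_smul, CategoryTheory.Functor.map_id]
    show (fac.hom.app C ≫ DerivedCategory.Q.map ((F.mapHomologicalComplex _).map (r • 𝟙 C))) ≫
      fac.inv.app C = _
    rw [h2, Linear.comp_smul]
    erw [Category.comp_id]
    rw [Linear.smul_comp]
    exact congrArg (σ r • ·) (fac.hom_inv_id_app C)
  rw [smul_eq_Q r C e (𝟙 Y)]
  simp only [Functor.map_comp, Category.comp_id, hQ]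
  rw [Linear.smul_comp, Category.id_comp, Linear.comp_smul, ← Functor.map_comp, e.inv_hom_id,
    CategoryTheory.Functor.map_id]

theorem mapDerived_map_smul (h : SmulCompat F σ) (r : R)
    {Y Y' : DerivedCategory A} (f : Y ⟶ Y') :
    F.mapDerivedCategory.map (r • f) = σ r • F.mapDerivedCategory.map f := by
  rw [← Category.id_comp f, ← Linear.smul_comp, Functor.map_comp, mapDerived_smul F σ h, Linear.smul_comp,
    Category.id_comp, Category.id_comp]

/-- Morphisms out of an object in degree zero, through a fully faithful derived functor. -/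
theorem exists_homEquiv_single [F.mapDerivedCategory.Full] [F.mapDerivedCategory.Faithful]
    (h : SmulCompat F σ) {U : A} {V : B} (eu : F.obj U ≅ V) (p : ℤ) :
    ∃ ε : ∀ M : DerivedCategory A, (sgl 0 U ⟶ M⟦p⟧) →+
        ((DerivedCategory.singleFunctor B 0).obj V ⟶ (F.mapDerivedCategory.obj M)⟦p⟧),
    (∀ M, Function.Bijective (ε M)) ∧ (∀ M (r : R) x, ε M (r • x) = σ r • ε M x) ∧
      ∀ {M M' : DerivedCategory A} (f : M ⟶ M') x,
        ε M' (x ≫ f⟦p⟧') = ε M x ≫ (F.mapDerivedCategory.map f)⟦p⟧' := by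
  let G := F.mapDerivedCategory
  let e0 : (DerivedCategory.singleFunctor B 0).obj V ≅ G.obj (sgl 0 U) :=
    (DerivedCategory.singleFunctor B 0).mapIso eu.symm ≪≫
      (F.mapDerivedCategorySingleFunctor 0).symm.app U ≪≫
      G.mapIso ((DerivedCategory.singleFunctorIsoCompQ _ 0).app U)
  refine ⟨fun M => AddMonoidHom.mk' (fun x => e0.hom ≫ G.map x ≫ (G.commShiftIso p).hom.app M)
    (fun x y => by simp only [Functor.map_add, Preadditive.add_comp, Preadditive.comp_add]), fun M => ?_,
    fun M r x => ?_, fun {M M'} f x => ?_⟩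
  · exact e0.symm.homFromEquiv.bijective.comp (((G.commShiftIso p).app M).homToEquiv.bijective.comp
      (Functor.FullyFaithful.ofFullyFaithful G).homEquiv.bijective)
  · show e0.hom ≫ G.map (r • x) ≫ _ = σ r • _
    rw [mapDerived_map_smul F σ h, Linear.smul_comp, Linear.comp_smul]
    rfl
  · show e0.hom ≫ G.map (x ≫ f⟦p⟧') ≫ _ = (e0.hom ≫ _ ≫ _) ≫ _
    have hn : G.map (f⟦p⟧') ≫ (G.commShiftIso p).hom.app M' =
        (G.commShiftIso p).hom.app M ≫ (G.map f)⟦p⟧' :=
      (G.commShiftIso p).hom.naturality f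
    rw [Functor.map_comp, Category.assoc, hn, Category.assoc, Category.assoc]

end General

variable (X : Scheme.{u})

/-- Global functions as global sections of the site. -/
def secOf : Γ(X, ⊤) →+* DerComp.GSec X.sheaf where
  toFun r := ⟨fun U => (X.presheaf.map (homOfLE (le_top : U ≤ ⊤)).op).hom r,
    fun U V g => by
      show ((X.presheaf.map _ ≫ X.presheaf.map g.op).hom _ : _) = _
      rw [← Functor.map_comp]
      rfl⟩
  map_one' := Subtype.ext (funext fun U => map_one _)
  map_mul' r s := Subtype.ext (funext fun U => map_mul _ r s)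
  map_zero' := Subtype.ext (funext fun U => map_zero _)
  map_add' r s := Subtype.ext (funext fun U => map_add _ r s)

theorem secOf_top (r : Γ(X, ⊤)) : (secOf X r).1 ⊤ = r := by
  show (X.presheaf.map (homOfLE (le_top : (⊤ : X.Opens) ≤ ⊤)).op).hom r = r
  rw [show (homOfLE (le_top : (⊤ : X.Opens) ≤ ⊤)) = 𝟙 _ from Subsingleton.elim _ _, op_id, X.presheaf.map_id]
  rfl

theorem secOf_val (s : DerComp.GSec X.sheaf) : secOf X (s.1 ⊤) = s :=
  Subtype.ext (funext fun U => s.2 (homOfLE (le_top : U ≤ ⊤)))

theorem secOf_bijective : Function.Bijective (secOf X) :=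
  ⟨fun a b h => by rw [← secOf_top X a, ← secOf_top X b, h], fun s => ⟨_, secOf_val X s⟩⟩

variable [IsAffine X]

/-- The quasi-coherent module of a module over the global functions, as a module on the site. -/
def phiM : ModuleCat.{u} Γ(X, ⊤) ⥤ ModSite.Mod X.sheaf := ExtShLib.phi (X := X)

instance : PreservesFiniteLimits (phiM X) :=
  inferInstanceAs (PreservesFiniteLimits (ExtShLib.phi (X := X)))

instance : PreservesFiniteColimits (phiM X) :=
  inferInstanceAs (PreservesFiniteColimits (ExtShLib.phi (X := X)))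

instance : (phiM X).Additive := inferInstanceAs ((ExtShLib.phi (X := X)).Additive)

theorem phiM_smul : SmulCompat (R := Γ(X, ⊤)) (S := DerComp.GSec X.sheaf) (phiM X) (secOf X) := by
  intro r N
  refine Eq.trans ?_ (Category.comp_id _).symm
  show (ExtShLib.phi (X := X)).map (r • 𝟙 N) = DerComp.smulEnd (secOf X r) _
  refine ExtShLib.gsec_map_injective (ModuleCat.hom_ext (LinearMap.ext fun x => ?_))
  obtain ⟨n, rfl⟩ := (ExtShLib.phiGsec N).surjective x
  rw [ExtShLib.phiGsec_natural]
  show ExtShLib.phiGsec N (r • n) = (secOf X r).1 ⊤ • ExtShLib.phiGsec N n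
  rw [secOf_top, map_smul]

/-- The derived functor from complexes of modules. -/
abbrev phiD : DerivedCategory (ModuleCat.{u} Γ(X, ⊤)) ⥤ DerivedCategory (ModSite.Mod X.sheaf) :=
  (phiM X).mapDerivedCategory

theorem phiD_smul (r : Γ(X, ⊤)) (Y : DerivedCategory (ModuleCat.{u} Γ(X, ⊤))) :
    (phiD X).map (r • 𝟙 Y) = secOf X r • 𝟙 ((phiD X).obj Y) :=
  mapDerived_smul (phiM X) (secOf X) (phiM_smul X) r Y

theorem isIso_counit_push :
    ∀ M, IsIso ((Scheme.Modules.restrictAdjunction (isAffineOpen_top X).fromSpec).counit.app M) := fun M => by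
  haveI := ExtShLib.isEquivalence_push (X := X)
  exact ((NatTrans.isIso_iff_isIso_app _).1 inferInstance) M

theorem isIso_unit_push :
    ∀ M, IsIso ((Scheme.Modules.restrictAdjunction (isAffineOpen_top X).fromSpec).unit.app M) := fun M => by
  haveI := ExtShLib.isEquivalence_push (X := X)
  haveI : (Scheme.Modules.restrictFunctor (isAffineOpen_top X).fromSpec).IsEquivalence :=
    (LocZLib.GammaQCoh.restrictEquivalence (asIso (isAffineOpen_top X).fromSpec)).isEquivalence_functor
  exact ((NatTrans.isIso_iff_isIso_app _).1 inferInstance) M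

/-- Fully faithful, with every object with quasi-coherent cohomology in the essential image. -/
theorem phiD_main : (phiD X).Full ∧ (phiD X).Faithful ∧
    ∀ K : DCoh.D X, DCoh.IsQCohD K → ∃ M, Nonempty ((phiD X).obj M ≅ K) := by
  let j := (isAffineOpen_top X).fromSpec
  let adj := Scheme.Modules.restrictAdjunction j
  let F := Scheme.Modules.restrictFunctor j
  let P := Scheme.Modules.pushforward j
  haveI := ExtShLib.isEquivalence_push (X := X)
  haveI : F.IsEquivalence :=
    (LocZLib.GammaQCoh.restrictEquivalence (asIso j)).isEquivalence_functor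
  haveI : F.Additive := Functor.additive_of_preserves_binary_products _
  haveI : P.Additive := Functor.additive_of_preserves_binary_products _
  haveI := TildeD.preservesFiniteLimits_tilde (R := Γ(X, ⊤))
  haveI : (tilde.functor Γ(X, ⊤)).Additive := TildePerf.additive_tilde _
  haveI : PreservesColimitsOfSize.{0, 0} (tilde.functor Γ(X, ⊤)) :=
    tilde.adjunction.leftAdjoint_preservesColimits
  haveI : PreservesFiniteColimits (tilde.functor Γ(X, ⊤)) :=
    PreservesColimitsOfSize.preservesFiniteColimits _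
  haveI : PreservesFiniteLimits (tilde.functor Γ(X, ⊤) ⋙ P) := comp_preservesFiniteLimits _ _
  haveI : PreservesFiniteColimits (tilde.functor Γ(X, ⊤) ⋙ P) := comp_preservesFiniteColimits _ _
  obtain ⟨hP₁, hP₂⟩ := DerPushLib.fullyFaithful_mapDerived adj (isIso_counit_push X)
  obtain ⟨hT₁, hT₂, hT₃⟩ := TildeD.main Γ(X, ⊤)
  let e : (ExtShLib.phi (X := X)).mapDerivedCategory ≅ DCoh.tildeD Γ(X, ⊤) ⋙ P.mapDerivedCategory :=
    FibDescLib.mapDerivedCompIso (tilde.functor Γ(X, ⊤)) P
  refine ⟨?_, ?_, fun K hK => ?_⟩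
  · exact Functor.Full.of_iso e.symm
  · exact Functor.Faithful.of_iso e.symm
  let C := DerivedCategory.Q.objPreimage K
  let eC : DerivedCategory.Q.obj C ≅ K := DerivedCategory.Q.objObjPreimageIso K
  haveI : ∀ i, IsIso (((DerPushLib.adjHC adj (ComplexShape.up ℤ)).unit.app C).f i) := fun i =>
    isIso_unit_push X (C.X i)
  haveI := HomologicalComplex.Hom.isIso_of_components ((DerPushLib.adjHC adj (ComplexShape.up ℤ)).unit.app C)
  obtain ⟨L, ⟨eL⟩⟩ := DerPushLib.mem_essImage_of_quasiIso adj C inferInstance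
  have hL : DCoh.IsQCohD (F.mapDerivedCategory.obj (DerivedCategory.Q.obj C)) := fun i => by
    obtain ⟨ei⟩ := DerPushLib.nonempty_homology_iso (F := F) C i
    have hCi : Coh.IsQCoh (C.homology i) := DCohLib.isQCoh_of_iso'
      (((DerivedCategory.homologyFunctorFactors _ i).app C).symm ≪≫
        (DerivedCategory.homologyFunctor _ i).mapIso eC).symm (hK i)
    haveI : (C.homology i).IsQuasicoherent := hCi
    exact DCohLib.isQCoh_of_iso' ei.symm (Scheme.Modules.isQuasicoherent_restrictFunctor j (C.homology i))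
  haveI := hP₁
  haveI := hP₂
  let eF : L ≅ F.mapDerivedCategory.obj (DerivedCategory.Q.obj C) :=
    P.mapDerivedCategory.preimageIso (eL ≪≫
      @asIso _ _ _ _ ((DerPushLib.adjD adj).unit.app (DerivedCategory.Q.obj C)) (by
        haveI : IsIso (DerivedCategory.Q.map ((DerPushLib.adjHC adj (ComplexShape.up ℤ)).unit.app C)) := by
          infer_instance
        rw [DerPushLib.adjD, Adjunction.localization_unit_app]
        infer_instance))
  obtain ⟨M, ⟨eM⟩⟩ := (hT₃ _).1 (TildeD.isQCohD_of_iso eF.symm hL)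
  exact ⟨M, ⟨e.app M ≪≫ P.mapDerivedCategory.mapIso eM ≪≫ eL ≪≫ eC⟩⟩

instance : (phiD X).Full := (phiD_main X).1

instance : (phiD X).Faithful := (phiD_main X).2.1

/-- Coherent cohomology comes from finite cohomology. -/
theorem finH_of_isCoh [IsLocallyNoetherian X] {M : DerivedCategory (ModuleCat.{u} Γ(X, ⊤))}
    {K : DCoh.D X} (e : (phiD X).obj M ≅ K) (hK : DCoh.IsCohD K) : FinH M := fun q => by
  let C := DerivedCategory.Q.objPreimage M
  let eC : DerivedCategory.Q.obj C ≅ M := DerivedCategory.Q.objObjPreimageIso M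
  obtain ⟨ei⟩ := DerPushLib.nonempty_homology_iso (F := ExtShLib.phi (X := X)) C q
  let ephi : (ExtShLib.phi (X := X)).obj ((DerivedCategory.homologyFunctor _ q).obj M) ≅
      (DerivedCategory.homologyFunctor X.Modules q).obj K :=
    (ExtShLib.phi (X := X)).mapIso (((DerivedCategory.homologyFunctor _ q).mapIso eC.symm) ≪≫
      (DerivedCategory.homologyFunctorFactors _ q).app C) ≪≫ ei.symm ≪≫
      (DerivedCategory.homologyFunctor X.Modules q).mapIso
        ((ExtShLib.phi (X := X)).mapDerivedCategory.mapIso eC ≪≫ e)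
  haveI : Module.Finite Γ(X, ⊤) Γ((ExtShLib.phi (X := X)).obj ((DerivedCategory.homologyFunctor _ q).obj M), ⊤) :=
    QCohLib.finite_sections_of_isCoh (DCohLib.isCoh_iso ephi.symm (hK q)) (isAffineOpen_top X)
  haveI : Module.Finite Γ(X, ⊤) ↥(ExtShLib.gsec.obj ((ExtShLib.phi (X := X)).obj
      ((DerivedCategory.homologyFunctor _ q).obj M))) :=
    ‹Module.Finite Γ(X, ⊤) Γ((ExtShLib.phi (X := X)).obj ((DerivedCategory.homologyFunctor _ q).obj M), ⊤)›
  exact Module.Finite.equiv (ExtShLib.phiGsec _).symm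

/-- Pseudo-coherent objects come from complexes with finite cohomology. -/
theorem exists_phiD_of_isCoh [IsLocallyNoetherian X] (K : DerivedCategory (ModSite.Mod X.sheaf))
    (hK : DCoh.IsCohD (X := X) K) :
    ∃ M, FinH M ∧ Nonempty ((phiD X).obj M ≅ K) := by
  let K' : DCoh.D X := K
  have hK' : DCoh.IsCohD K' := hK
  have hq : DCoh.IsQCohD K' := fun i => (hK' i).1
  obtain ⟨M, hM⟩ := (phiD_main X).2.2 K' hq
  obtain ⟨e⟩ := hM
  exact ⟨M, finH_of_isCoh X e hK', ⟨e⟩⟩

/-- The image of the ring is the structure sheaf. -/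
theorem nonempty_phiM_unit :
    Nonempty ((phiM X).obj (ModuleCat.of Γ(X, ⊤) Γ(X, ⊤)) ≅ ModSite.unit X.sheaf) := by
  haveI : Coh.IsQCoh (SheafOfModules.unit X.ringCatSheaf : X.Modules) := inferInstance
  exact ⟨ExtShLib.liftIso (M := (ExtShLib.phi (X := X)).obj _) (N := SheafOfModules.unit X.ringCatSheaf)
    (ExtShLib.phiGsec (ModuleCat.of Γ(X, ⊤) Γ(X, ⊤))).toModuleIso.symm⟩

/-- The completion of an object coming from finite cohomology, on morphisms out of the structure sheaf. -/
theorem exists_phiD_completion [IsNoetherianRing Γ(X, ⊤)] {ι : Type} (J : Ideal Γ(X, ⊤)) (g : ι → Γ(X, ⊤))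
    (L : List ι) (hL : Ideal.span {x | x ∈ L.map g} = J)
    (M : DerivedCategory (ModuleCat.{u} Γ(X, ⊤))) (hM : FinH M) :
    ∃ (M' C : DerivedCategory (ModSite.Mod X.sheaf)) (f : (phiD X).obj M ⟶ M') (b : M' ⟶ C)
      (d : C ⟶ ((phiD X).obj M)⟦(1 : ℤ)⟧),
      Triangle.mk f b d ∈ distTriang (DerivedCategory (ModSite.Mod X.sheaf)) ∧
        LOrth (L.map fun i => secOf X (g i)) C ∧
        ∀ q : ℤ, IsCplMap (J.map (secOf X))
          (Linear.rightComp (DerComp.GSec X.sheaf) (SiteCmp.inD X.sheaf (ModSite.unit X.sheaf)) (f⟦q⟧')) := by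
  obtain ⟨C, b, d, hT⟩ := distinguished_cocone_triangle (etaApp (cplUnitD J) M)
  refine ⟨_, _, (phiD X).map (etaApp (cplUnitD J) M), _, _, (phiD X).map_distinguished _ hT,
    (lOrth_cone_cplUnitD J hL hM hT).map (phiD X) g (fun i => secOf X (g i))
      fun i Y => phiD_smul X (g i) Y, fun q => ?_⟩
  obtain ⟨ε, hε, hεs, hεn⟩ := exists_homEquiv_single (phiM X) (secOf X) (phiM_smul X)
    (U := ModuleCat.of Γ(X, ⊤) Γ(X, ⊤)) (V := ModSite.unit X.sheaf) (nonempty_phiM_unit X).some q
  exact IsCplMap.of_semi (secOf X) (secOf_bijective X).2 (ε _) (hε _) (hεs _) rfl (ε _) (hε _) (hεs _)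
    (fun x => hεn _ x) (isCplMap_rightComp J M hM q)

end Groth.Agent.DerCompLib
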