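import Groth.Agent.DerCompLib.Nilp

/-!
# Natural transformations inverted by complete objects

If a natural transformation `η : 𝟭 ⟶ B` to a linear triangulated endofunctor is an isomorphism at
objects on which finitely many scalars are nilpotent, then on a class of objects stable by cones its
cones are left orthogonal to the objects complete for these scalars.
-/

set_option autoImplicit false
set_option linter.style.haveILetI false
set_option linter.unusedSectionVars false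

universe w v u

open CategoryTheory CategoryTheory.Limits CategoryTheory.Pretriangulated

noncomputable section

namespace Groth.Agent.DerCompLib

open Groth.Agent.ProEtDCLib

variable {R : Type w} [CommRing R] {T : Type u} [Category.{v} T] [Preadditive T] [HasZeroObject T]
  [HasShift T ℤ] [∀ n : ℤ, (shiftFunctor T n).Additive] [Pretriangulated T] [Linear R T]
  [∀ n : ℤ, (shiftFunctor T n).Linear R] {B : T ⥤ T} [B.CommShift ℤ] [B.IsTriangulated] [B.Linear R]
  (η : 𝟭 T ⟶ B) {P : T → Prop} {L : List R}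
  (hshift : ∀ (X : T) (n : ℤ), P X → P (X⟦n⟧))
  (hcone : ∀ D : Triangle T, D ∈ distTriang T → P D.obj₁ → P D.obj₂ → P D.obj₃)
  (hbase : ∀ X, P X → NilpAll L X → IsIso (η.app X))

/-- The component of `η`, between the objects themselves. -/
abbrev etaApp (X : T) : X ⟶ B.obj X := η.app X

/-- Maps out of `B X` into complete objects are maps out of `X`. -/
def EtaBij (L : List R) (X : T) : Prop :=
  ∀ Z : T, (∀ r ∈ L, Compl r Z) → Function.Bijective fun φ : B.obj X ⟶ Z => etaApp η X ≫ φ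

theorem etaApp_natural {X Y : T} (f : X ⟶ Y) : f ≫ etaApp η Y = etaApp η X ≫ B.map f := η.naturality f

theorem EtaBij.of_iso {X Y : T} (h : EtaBij η L X) (e : X ≅ Y) : EtaBij η L Y := fun Z hZ => by
  have he : (fun ψ : B.obj Y ⟶ Z => etaApp η Y ≫ ψ) =
      (fun ψ => e.inv ≫ ψ) ∘ (fun ψ => etaApp η X ≫ ψ) ∘ fun ψ => B.map e.hom ≫ ψ :=
    funext fun ψ => by
      simp only [Function.comp_apply]
      rw [← Category.assoc (etaApp η X), ← etaApp_natural, Category.assoc, e.inv_hom_id_assoc]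
  rw [he]
  exact e.homFromEquiv.bijective.comp ((h Z hZ).comp (B.mapIso e).symm.homFromEquiv.bijective)

include hshift hcone hbase in
theorem etaBij_aux : ∀ (l : List R) (X : T), P X → (∀ r ∈ L, r ∈ l ∨ Nilp r X) → (∀ r ∈ l, r ∈ L) →
    EtaBij η L X
  | [], X, hX, hc, _, Z, _ => by
    haveI := hbase X hX fun r hr => (hc r hr).resolve_left List.not_mem_nil
    exact (asIso (η.app X)).symm.homFromEquiv.bijective
  | r :: l, X, hX, hc, hl, Z, hZ => by
    have hrZ : ∀ Y, DBij (hs r Y Z) := (hZ r (hl r List.mem_cons_self)).dBij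
    have nat : ∀ {Y Y' : T} (f : Y ⟶ Y'), f ≫ etaApp η Y' = etaApp η Y ≫ B.map f := fun f => etaApp_natural η f
    have hBr : ∀ (Y : T) (w : B.obj Y ⟶ Z), B.map (r • 𝟙 Y) ≫ w = r • w := fun Y w => by
      rw [Functor.map_smul, CategoryTheory.Functor.map_id, Linear.smul_comp, Category.id_comp]
    have hr1 : ∀ (Y : T) (w : Y ⟶ Z), (r • 𝟙 Y) ≫ w = r • w := fun Y w => by
      rw [Linear.smul_comp, Category.id_comp]
    have hcone' : ∀ {Y C : T} {g : Y ⟶ C} {h : C ⟶ Y⟦(1 : ℤ)⟧}, Triangle.mk (r • 𝟙 Y) g h ∈ distTriang T →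
        P Y → (∀ s ∈ L, s ∈ r :: l ∨ Nilp s Y) → ∀ n : ℤ, EtaBij η L (C⟦n⟧) := by
      intro Y C g h hT hY hcY n
      refine etaBij_aux l _ (hshift _ n (hcone _ hT hY hY)) (fun s hs => ?_) fun s hs => hl s (List.mem_cons_of_mem r hs)
      rcases hcY s hs with hs' | hs'
      · rcases List.mem_cons.1 hs' with rfl | hs'
        · exact Or.inr ((nilp_cone hT).shift n)
        · exact Or.inl hs'
      · exact Or.inr ((nilp_obj₃ _ hT hs' hs').shift n)
    have inj : ∀ Y : T, P Y → (∀ s ∈ L, s ∈ r :: l ∨ Nilp s Y) →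
        ∀ φ : B.obj Y ⟶ Z, etaApp η Y ≫ φ = 0 → φ = 0 := by
      intro Y hY hcY φ hφ
      obtain ⟨C, g, h, hT⟩ := distinguished_cocone_triangle (r • 𝟙 Y)
      have hC0 : EtaBij η L C := (hcone' hT hY hcY 0).of_iso η ((shiftFunctorZero T ℤ).app C)
      let h' : C⟦(-1 : ℤ)⟧ ⟶ Y := (Triangle.mk (r • 𝟙 Y) g h).invRotate.mor₁
      have hdiv : ∀ φ : B.obj Y ⟶ Z, etaApp η Y ≫ φ = 0 →
          ∃ ψ : B.obj Y ⟶ Z, etaApp η Y ≫ ψ = 0 ∧ φ = r • ψ := by
        intro φ hφ
        have h0 : B.map h' ≫ φ = 0 := (hcone' hT hY hcY (-1) Z hZ).1 (by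
          show etaApp η _ ≫ B.map h' ≫ φ = etaApp η _ ≫ 0
          rw [← Category.assoc, ← nat, Category.assoc, hφ, comp_zero, comp_zero])
        obtain ⟨y, hy⟩ : ∃ y : B.obj Y ⟶ Z, φ = B.map (r • 𝟙 Y) ≫ y :=
          Triangle.yoneda_exact₂ _ (B.map_distinguished _ (inv_rot_of_distTriang _ hT)) φ h0
        obtain ⟨y₁, hy₁⟩ : ∃ y₁ : C ⟶ Z, etaApp η Y ≫ y = g ≫ y₁ :=
          Triangle.yoneda_exact₂ _ hT (etaApp η Y ≫ y) (by
            show (r • 𝟙 Y) ≫ etaApp η Y ≫ y = 0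
            rw [← Category.assoc, nat, Category.assoc, ← hy, hφ])
        obtain ⟨w, rfl⟩ := (hC0 Z hZ).2 y₁
        refine ⟨y - B.map g ≫ w, ?_, ?_⟩
        · rw [Preadditive.comp_sub, hy₁, ← Category.assoc, ← Category.assoc, nat, sub_self]
        · have h12 : B.map (r • 𝟙 Y) ≫ B.map g = 0 := by
            rw [← B.map_comp, show (r • 𝟙 Y) ≫ g = 0 from comp_distTriang_mor_zero₁₂ _ hT, B.map_zero]
          rw [← hBr, Preadditive.comp_sub, ← Category.assoc, h12, zero_comp, sub_zero, hy]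
      choose f hf0 hf using hdiv
      let x : ℕ → {ψ : B.obj Y ⟶ Z // etaApp η Y ≫ ψ = 0} := fun n =>
        Nat.rec ⟨φ, hφ⟩ (fun _ p => ⟨f p.1 p.2, hf0 p.1 p.2⟩) n
      exact congrFun ((hrZ _).eq_zero (x := fun n => (x n).1) fun n => hf (x n).1 (x n).2) 0
    refine ⟨fun a b e => sub_eq_zero.1 (inj X hX hc _ ?_), fun u => ?_⟩
    · rw [Preadditive.comp_sub, sub_eq_zero]
      exact e
    obtain ⟨C, g, h, hT⟩ := distinguished_cocone_triangle (r • 𝟙 X)
    let D := (Triangle.mk (r • 𝟙 X) g h).invRotate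
    have hD : D ∈ distTriang T := inv_rot_of_distTriang _ hT
    have hD' := inv_rot_of_distTriang _ hD
    let h' : C⟦(-1 : ℤ)⟧ ⟶ X := D.mor₁
    let g' : X⟦(-1 : ℤ)⟧ ⟶ C⟦(-1 : ℤ)⟧ := D.invRotate.mor₁
    have hdiv : ∀ u : X ⟶ Z, ∃ (u' : X ⟶ Z) (v : B.obj X ⟶ Z), u = r • u' + etaApp η X ≫ v := by
      intro u
      obtain ⟨w, hw⟩ := (hcone' hT hX hc (-1) Z hZ).2 (h' ≫ u)
      replace hw : etaApp η _ ≫ w = h' ≫ u := hw
      have h0 : B.map g' ≫ w = 0 := inj _ (hshift _ (-1) hX)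
        (fun s hs => (hc s hs).imp id fun h => h.shift (-1)) _ (by
          rw [← Category.assoc, ← nat, Category.assoc, hw, ← Category.assoc]
          exact (congrArg (· ≫ u) (comp_distTriang_mor_zero₁₂ _ hD')).trans zero_comp)
      obtain ⟨v, hv⟩ : ∃ v : B.obj X ⟶ Z, w = B.map h' ≫ v :=
        Triangle.yoneda_exact₂ _ (B.map_distinguished _ hD') w h0
      obtain ⟨u', hu'⟩ : ∃ u' : X ⟶ Z, u - etaApp η X ≫ v = (r • 𝟙 X) ≫ u' :=
        Triangle.yoneda_exact₂ _ hD (u - etaApp η X ≫ v) (by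
          show h' ≫ (u - etaApp η X ≫ v) = 0
          rw [Preadditive.comp_sub, ← hw, hv, sub_eq_zero, ← Category.assoc, ← Category.assoc, nat])
      exact ⟨u', v, sub_eq_iff_eq_add.1 (hu'.trans (hr1 X u'))⟩
    choose f v hfg using hdiv
    let x : ℕ → (X ⟶ Z) := fun n => f^[n] u
    obtain ⟨y, hy⟩ := (hrZ (B.obj X)).exists_solution fun n => v (x n)
    refine ⟨y 0, sub_eq_zero.1 ?_⟩
    have he : (fun n => etaApp η X ≫ y n - x n) = 0 := (hrZ X).eq_zero fun n => by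
      show etaApp η X ≫ y n - x n = r • (etaApp η X ≫ y (n + 1) - x (n + 1))
      have h1 : etaApp η X ≫ y n = etaApp η X ≫ v (x n) + r • (etaApp η X ≫ y (n + 1)) := by
        rw [← hy n, Preadditive.comp_sub, ← Linear.comp_smul]
        exact (sub_add_cancel _ _).symm
      have h2 : x n = r • x (n + 1) + etaApp η X ≫ v (x n) := by
        show x n = r • f^[n + 1] u + _
        rw [Function.iterate_succ_apply']
        exact hfg (x n)
      rw [smul_sub, h1]
      conv_lhs => arg 2; rw [h2]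
      abel
    exact congrFun he 0

include hshift hcone hbase in
/-- The cones of `η` are left orthogonal to complete objects. -/
theorem lOrth_cone_eta {X C : T} (hX : P X) {b : B.obj X ⟶ C} {d : C ⟶ X⟦(1 : ℤ)⟧}
    (hT : Triangle.mk (etaApp η X) b d ∈ distTriang T) : LOrth L C := fun Z hZ u => by
  have hb := etaBij_aux η hshift hcone hbase L X hX (fun _ hr => Or.inl hr) fun _ h => h
  obtain ⟨x, hx⟩ : ∃ x : X⟦(1 : ℤ)⟧ ⟶ Z, u = d ≫ x := Triangle.yoneda_exact₃ _ hT u ((hb Z hZ).1 (by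
    show etaApp η X ≫ b ≫ u = etaApp η X ≫ 0
    rw [← Category.assoc, show etaApp η X ≫ b = 0 from comp_distTriang_mor_zero₁₂ _ hT, zero_comp, comp_zero]))
  let e : (Z⟦(-1 : ℤ)⟧)⟦(1 : ℤ)⟧ ≅ Z := (shiftFunctorCompIsoId T (-1 : ℤ) 1 (by norm_num)).app Z
  obtain ⟨x₀, hx₀⟩ := (shiftFunctor T (1 : ℤ)).map_surjective (x ≫ e.inv)
  obtain ⟨y, hy⟩ := (hb (Z⟦(-1 : ℤ)⟧) fun r hr => (hZ r hr).shift (-1)).2 x₀
  replace hy : etaApp η X ≫ y = x₀ := hy
  have h31 : d ≫ (etaApp η X)⟦(1 : ℤ)⟧' = 0 := comp_distTriang_mor_zero₃₁ _ hT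
  rw [hx, ← cancel_mono e.inv, zero_comp, Category.assoc, ← hx₀, ← hy, Functor.map_comp, ← Category.assoc, h31,
    zero_comp]

end Groth.Agent.DerCompLib
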