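import Groth.Agent.DerCompLib.CplMap
import Groth.Agent.DerCompLib.EtaOrth
import Groth.Agent.TildeD.Main
import Mathlib.RingTheory.Flat.CategoryTheory
import Mathlib.Algebra.Category.ModuleCat.Monoidal.Closed

/-!
# Completion of complexes with finite cohomology over a Noetherian ring

The derived tensor product with the completion of a Noetherian ring has a cone left orthogonal to
complete objects, and on cohomology it is the completion.
-/

set_option autoImplicit false
set_option linter.style.haveILetI false
set_option linter.unusedSectionVars false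
set_option backward.isDefEq.respectTransparency false
set_option backward.isDefEq.respectTransparency.types false

universe u

open CategoryTheory CategoryTheory.Limits CategoryTheory.Pretriangulated MonoidalCategory
open Groth.Agent.RlimCrit (sgl)

attribute [local instance] HasDerivedCategory.standard

noncomputable section

namespace Groth.Agent.DerCompLib

variable {R : Type u} [CommRing R]

section Homology

instance linear_homologyFunctor (q : ℤ) :
    (DerivedCategory.homologyFunctor (ModuleCat.{u} R) q).Linear R := by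
  letI : Localization.Lifting DerivedCategory.Q (HomologicalComplex.quasiIso (ModuleCat.{u} R) (ComplexShape.up ℤ))
      (HomologicalComplex.homologyFunctor (ModuleCat.{u} R) (ComplexShape.up ℤ) q)
      (DerivedCategory.homologyFunctor (ModuleCat.{u} R) q) :=
    ⟨DerivedCategory.homologyFunctorFactors _ q⟩
  haveI : (HomologicalComplex.homologyFunctor (ModuleCat.{u} R) (ComplexShape.up ℤ) q).Linear R :=
    { map_smul := fun {K L} f r => by
        show HomologicalComplex.homologyMap (r • f) q = r • HomologicalComplex.homologyMap f q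
        exact ShortComplex.homologyMap_smul ((HomologicalComplex.shortComplexFunctor _ _ q).map f) r }
  exact (Localization.functor_linear_iff DerivedCategory.Q
    (HomologicalComplex.quasiIso (ModuleCat.{u} R) (ComplexShape.up ℤ)) R
    (HomologicalComplex.homologyFunctor (ModuleCat.{u} R) (ComplexShape.up ℤ) q) _).1 inferInstance

/-- Finite cohomology in every degree. -/
def FinH (M : DerivedCategory (ModuleCat.{u} R)) : Prop :=
  ∀ q : ℤ, Module.Finite R ((DerivedCategory.homologyFunctor (ModuleCat.{u} R) q).obj M)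

theorem FinH.shift {M : DerivedCategory (ModuleCat.{u} R)} (h : FinH M) (n : ℤ) : FinH (M⟦n⟧) := fun q =>
  haveI : Module.Finite R (((DerivedCategory.homologyFunctor (ModuleCat.{u} R) 0).shift (n + q)).obj M) := h (n + q)
  Module.Finite.equiv
    (((DerivedCategory.homologyFunctor (ModuleCat.{u} R) 0).shiftIso n q (n + q) rfl).app M).toLinearEquiv.symm

theorem finite_of_exact [IsNoetherianRing R] {S : ShortComplex (ModuleCat.{u} R)} (hS : S.Exact)
    [Module.Finite R S.X₁] [Module.Finite R S.X₃] : Module.Finite R S.X₂ :=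
  ⟨Submodule.fg_of_fg_map_of_fg_inf_ker S.g.hom (IsNoetherian.noetherian _) (by
    rw [top_inf_eq, ← hS.moduleCat_range_eq_ker, LinearMap.range_eq_map]
    exact (Module.Finite.fg_top).map _)⟩

theorem FinH.obj₃ [IsNoetherianRing R] (D : Triangle (DerivedCategory (ModuleCat.{u} R)))
    (hT : D ∈ distTriang _) (h₁ : FinH D.obj₁) (h₂ : FinH D.obj₂) : FinH D.obj₃ := fun q =>
  haveI := h₂ q
  haveI := h₁ (q + 1)
  finite_of_exact (DerivedCategory.HomologySequence.exact₃ D hT q (q + 1) rfl)

end Homology

section Tensor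

variable (I : Ideal R)

/-- Tensor product with the completion of the ring. -/
abbrev cplTensor : ModuleCat.{u} R ⥤ ModuleCat.{u} R := tensorLeft (ModuleCat.of R (AdicCompletion I R))

/-- The map to the tensor product with the completion. -/
def cplUnit : 𝟭 (ModuleCat.{u} R) ⟶ cplTensor I where
  app H := ModuleCat.ofHom (TensorProduct.mk R (AdicCompletion I R) H 1)
  naturality _ _ _ := rfl

instance : PreservesFiniteColimits (cplTensor I) := by
  haveI : PreservesColimitsOfSize.{0, 0} (cplTensor I) :=
    (ihom.adjunction (ModuleCat.of R (AdicCompletion I R))).leftAdjoint_preservesColimits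
  infer_instance

variable [IsNoetherianRing R]

/-- The derived tensor product with the completion. -/
abbrev cplD : DerivedCategory (ModuleCat.{u} R) ⥤ DerivedCategory (ModuleCat.{u} R) :=
  (cplTensor I).mapDerivedCategory

/-- The map of complexes to the tensor product with the completion. -/
def cplUnitC : DerivedCategory.Q ⟶
    (cplTensor I).mapHomologicalComplex (ComplexShape.up ℤ) ⋙ DerivedCategory.Q (C := ModuleCat.{u} R) where
  app K := DerivedCategory.Q.map
    { f := fun i => (cplUnit I).app (K.X i)
      comm' := fun i j _ => ((cplUnit I).naturality (K.d i j)).symm }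
  naturality K L φ := by
    show DerivedCategory.Q.map φ ≫ DerivedCategory.Q.map _ =
      DerivedCategory.Q.map _ ≫ DerivedCategory.Q.map (((cplTensor I).mapHomologicalComplex _).map φ)
    rw [← Functor.map_comp, ← Functor.map_comp]
    exact congrArg _ (HomologicalComplex.hom_ext _ _ fun i => (cplUnit I).naturality (φ.f i))

/-- The map to the derived tensor product with the completion. -/
def cplUnitD : 𝟭 (DerivedCategory (ModuleCat.{u} R)) ⟶ cplD I :=
  Localization.liftNatTrans DerivedCategory.Q (HomologicalComplex.quasiIso (ModuleCat.{u} R) (ComplexShape.up ℤ))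
    DerivedCategory.Q ((cplTensor I).mapHomologicalComplex (ComplexShape.up ℤ) ⋙ DerivedCategory.Q) _ _
    (cplUnitC I)

/-- On cohomology the map is the map of modules. -/
theorem exists_homology_cplUnitD (X : DerivedCategory (ModuleCat.{u} R)) (q : ℤ) :
    ∃ (H : ModuleCat.{u} R) (a : (DerivedCategory.homologyFunctor _ q).obj X ≅ H)
      (b : (DerivedCategory.homologyFunctor _ q).obj ((cplD I).obj X) ≅ (cplTensor I).obj H),
      (DerivedCategory.homologyFunctor _ q).map ((cplUnitD I).app X) = a.hom ≫ (cplUnit I).app H ≫ b.inv := by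
  let K := DerivedCategory.Q.objPreimage X
  let e : DerivedCategory.Q.obj K ≅ X := DerivedCategory.Q.objObjPreimageIso X
  let Hq := DerivedCategory.homologyFunctor (ModuleCat.{u} R) q
  let F := cplTensor I
  let ν := DerivedCategory.homologyFunctorFactors (ModuleCat.{u} R) q
  let φ : K ⟶ (F.mapHomologicalComplex (ComplexShape.up ℤ)).obj K :=
    { f := fun i => (cplUnit I).app (K.X i)
      comm' := fun i j _ => ((cplUnit I).naturality (K.d i j)).symm }
  let c : (K.sc q).homology ≅ ((K.sc q).map (𝟭 (ModuleCat.{u} R))).homology :=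
    ((K.sc q).mapHomologyIso (𝟭 _)).symm
  let a' : Hq.obj (DerivedCategory.Q.obj K) ≅ (K.sc q).homology := ν.app K
  let b' : Hq.obj ((cplD I).obj (DerivedCategory.Q.obj K)) ≅ F.obj (K.sc q).homology :=
    Hq.mapIso (F.mapDerivedCategoryFactors.app K) ≪≫ ν.app _ ≪≫ (K.sc q).mapHomologyIso F
  have hτ := NatTrans.app_homology (cplUnit I) (K.sc q)
  have hφ : HomologicalComplex.homologyMap φ q = ShortComplex.homologyMap ((K.sc q).mapNatTrans (cplUnit I)) :=
    rfl
  have key : ∃ (d : (K.sc q).homology ≅ (K.sc q).homology),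
      Hq.map ((cplUnitD I).app (DerivedCategory.Q.obj K)) = (a' ≪≫ d).hom ≫ (cplUnit I).app _ ≫ b'.inv := by
    refine ⟨Iso.refl (K.sc q).homology ≪≫ (K.sc q).mapHomologyIso (𝟭 _), ?_⟩
    rw [cplUnitD, Localization.liftNatTrans_app]
    have h1 : ∀ (x : DerivedCategory.Q.obj K ⟶ DerivedCategory.Q.obj ((F.mapHomologicalComplex _).obj K)),
        Hq.map ((Localization.Lifting.iso DerivedCategory.Q (HomologicalComplex.quasiIso _ _) DerivedCategory.Q
          (𝟭 _)).hom.app K ≫ x ≫ (Localization.Lifting.iso DerivedCategory.Q (HomologicalComplex.quasiIso _ _)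
          ((F.mapHomologicalComplex _) ⋙ DerivedCategory.Q) (cplD I)).inv.app K) =
        Hq.map x ≫ Hq.map (F.mapDerivedCategoryFactors.inv.app K) := fun x => by
      rw [← Functor.map_comp]
      exact congrArg _ (Category.id_comp _)
    refine (h1 (DerivedCategory.Q.map φ)).trans ?_
    have h2 : Hq.map (DerivedCategory.Q.map φ) =
        ν.hom.app K ≫ HomologicalComplex.homologyMap φ q ≫ ν.inv.app _ :=
      ((Iso.eq_comp_inv (ν.app _)).2 (ν.hom.naturality φ)).trans (Category.assoc _ _ _)
    have hm : ShortComplex.homologyMap ((K.sc q).mapNatTrans (cplUnit I)) =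
        ((K.sc q).mapHomologyIso (𝟭 _)).hom ≫ (cplUnit I).app (K.sc q).homology ≫
          ((K.sc q).mapHomologyIso F).inv := by
      rw [hτ, Category.assoc, Category.assoc, Iso.hom_inv_id, Category.comp_id, Iso.hom_inv_id_assoc]
    rw [h2, hφ, hm]
    simp only [a', b', Iso.trans_hom, Iso.trans_inv, Iso.app_hom, Iso.app_inv, Iso.refl_hom, Category.id_comp,
      Category.assoc, Functor.mapIso_inv]
    rfl
  obtain ⟨d, hd⟩ := key
  refine ⟨_, Hq.mapIso e.symm ≪≫ a' ≪≫ d, Hq.mapIso ((cplD I).mapIso e.symm) ≪≫ b', ?_⟩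
  have hn : e.hom ≫ (cplUnitD I).app X = (cplUnitD I).app (DerivedCategory.Q.obj K) ≫ (cplD I).map e.hom :=
    (cplUnitD I).naturality e.hom
  have : (cplUnitD I).app X = e.inv ≫ (cplUnitD I).app (DerivedCategory.Q.obj K) ≫ (cplD I).map e.hom := by
    rw [← hn, e.inv_hom_id_assoc]
  rw [this, Functor.map_comp, Functor.map_comp, hd]
  simp only [Iso.trans_hom, Iso.trans_inv, Functor.mapIso_hom, Functor.mapIso_inv, Iso.symm_hom, Iso.symm_inv,
    Category.assoc]
  rfl

theorem isIso_cplUnitD {L : List R} (hL : Ideal.span {r | r ∈ L} = I) (X : DerivedCategory (ModuleCat.{u} R))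
    (hX : FinH X) (hn : NilpAll L X) : IsIso ((cplUnitD I).app X) := by
  rw [DerivedCategory.isIso_iff]
  intro q
  obtain ⟨H, a, b, e⟩ := exists_homology_cplUnitD I X q
  rw [e]
  haveI := hX q
  haveI : Module.Finite R H := Module.Finite.equiv a.toLinearEquiv
  haveI : IsIso ((cplUnit I).app H) := by
    refine (ConcreteCategory.isIso_iff_bijective _).2 (bijective_tensor_of_nilp I H hL fun r hr => ?_)
    obtain ⟨k, hk⟩ := hn r hr
    refine ⟨k, fun x => ?_⟩
    have h0 := congrArg (DerivedCategory.homologyFunctor (ModuleCat.{u} R) q).map hk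
    rw [Functor.map_smul, CategoryTheory.Functor.map_id, Functor.map_zero] at h0
    obtain ⟨y, rfl⟩ := a.toLinearEquiv.surjective x
    rw [← map_smul a.toLinearEquiv, show r ^ k • y = 0 from ConcreteCategory.congr_hom h0 y, map_zero]
  infer_instance

/-- The cone of the map to the derived tensor product is left orthogonal to complete objects. -/
theorem lOrth_cone_cplUnitD {L : List R} (hL : Ideal.span {r | r ∈ L} = I)
    {X C : DerivedCategory (ModuleCat.{u} R)} (hX : FinH X) {b : (cplD I).obj X ⟶ C} {d : C ⟶ X⟦(1 : ℤ)⟧}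
    (hT : Triangle.mk (etaApp (cplUnitD I) X) b d ∈ distTriang _) : LOrth L C :=
  lOrth_cone_eta (cplUnitD I) (P := FinH) (fun _ n h => h.shift n) (fun D hD h₁ h₂ => h₁.obj₃ D hD h₂)
    (isIso_cplUnitD I hL) hX hT

variable (R) in
/-- The value at the unit of the ring of a morphism out of the ring in degree zero, in cohomology. -/
def evOne (M : DerivedCategory (ModuleCat.{u} R)) :
    (sgl 0 (ModuleCat.of R R) ⟶ M) →ₗ[R] (DerivedCategory.homologyFunctor (ModuleCat.{u} R) 0).obj M where
  toFun g := ((DerivedCategory.homologyFunctor _ 0).map g).hom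
    ((((HomologicalComplex.singleObjHomologySelfIso (ComplexShape.up ℤ) (0 : ℤ) (ModuleCat.of R R)).symm ≪≫
      ((DerivedCategory.homologyFunctorFactors (ModuleCat.{u} R) 0).app _).symm)).hom.hom (1 : R))
  map_add' g g' := by
    rw [Functor.map_add]
    rfl
  map_smul' r g := by
    rw [Functor.map_smul]
    rfl

theorem evOne_bijective (M : DerivedCategory (ModuleCat.{u} R)) : Function.Bijective (evOne R M) := by
  let c : ModuleCat.of R R ≅ (DerivedCategory.homologyFunctor (ModuleCat.{u} R) 0).obj (sgl 0 (ModuleCat.of R R)) :=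
    (HomologicalComplex.singleObjHomologySelfIso (ComplexShape.up ℤ) (0 : ℤ) (ModuleCat.of R R)).symm ≪≫
      ((DerivedCategory.homologyFunctorFactors (ModuleCat.{u} R) 0).app _).symm
  let N := (DerivedCategory.homologyFunctor (ModuleCat.{u} R) 0).obj M
  have h1 : Function.Bijective fun x : ModuleCat.of R R ⟶ N => x.hom (1 : R) :=
    ((ModuleCat.homEquiv (M := ModuleCat.of R R) (N := N)).trans
      (LinearMap.ringLmapEquivSelf R R N).toEquiv).bijective
  exact h1.comp (c.symm.homFromEquiv.bijective.comp
    (TildeD.homology_map_bijective_module (CommRingCat.of R) 0 M))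

/-- On morphisms out of shifts of the ring the map is a completion map. -/
theorem isCplMap_rightComp (X : DerivedCategory (ModuleCat.{u} R)) (hX : FinH X) (p : ℤ) :
    IsCplMap I (Linear.rightComp R (sgl 0 (ModuleCat.of R R)) (((cplUnitD I).app X)⟦p⟧')) := by
  obtain ⟨H, a, b, e⟩ := exists_homology_cplUnitD I X p
  haveI := hX p
  haveI : Module.Finite R H := Module.Finite.equiv a.toLinearEquiv
  let sI := (DerivedCategory.homologyFunctor (ModuleCat.{u} R) 0).shiftIso p 0 p (add_zero p)
  let α : (sgl 0 (ModuleCat.of R R) ⟶ X⟦p⟧) ≃ₗ[R] H :=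
    LinearEquiv.ofBijective (evOne R _) (evOne_bijective _) ≪≫ₗ (sI.app X).toLinearEquiv ≪≫ₗ a.toLinearEquiv
  let β : (sgl 0 (ModuleCat.of R R) ⟶ ((cplD I).obj X)⟦p⟧) ≃ₗ[R] (cplTensor I).obj H :=
    LinearEquiv.ofBijective (evOne R _) (evOne_bijective _) ≪≫ₗ (sI.app _).toLinearEquiv ≪≫ₗ b.toLinearEquiv
  refine IsCplMap.of_semi (RingHom.id R) Function.surjective_id α.symm.toAddEquiv.toAddMonoidHom α.symm.bijective
    (fun r x => map_smul α.symm r x) (Ideal.map_id I) β.symm.toAddEquiv.toAddMonoidHom β.symm.bijective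
    (fun r x => map_smul β.symm r x) (fun x => ?_) (isCplMap_tensor I H)
  show β.symm _ = Linear.rightComp R _ _ (α.symm x)
  rw [LinearEquiv.symm_apply_eq]
  obtain ⟨g, rfl⟩ := α.surjective x
  rw [LinearEquiv.symm_apply_apply]
  have h1 := ConcreteCategory.congr_hom (sI.hom.naturality ((cplUnitD I).app X)) (evOne R _ g)
  have h2 : (evOne R _) (g ≫ ((cplUnitD I).app X)⟦p⟧') =
      ((DerivedCategory.homologyFunctor (ModuleCat.{u} R) 0).map (((cplUnitD I).app X)⟦p⟧')).hom (evOne R _ g) := by
    show (((DerivedCategory.homologyFunctor _ 0).map (g ≫ _)).hom _ : _) = _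
    rw [Functor.map_comp]
    rfl
  show (cplUnit I).app H (a.hom ((sI.hom.app X) (evOne R _ g))) =
    b.hom ((sI.hom.app _) ((evOne R _) (g ≫ ((cplUnitD I).app X)⟦p⟧')))
  rw [h2]
  refine Eq.trans ?_ (congrArg b.hom h1.symm)
  show (a.hom ≫ (cplUnit I).app H) _ = ((DerivedCategory.homologyFunctor _ p).map _ ≫ b.hom) _
  rw [e, Category.assoc, Category.assoc, b.inv_hom_id, Category.comp_id]
  rfl

end Tensor

end Groth.Agent.DerCompLib
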