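import Groth.Agent.DerCompLib.AdicFin
import Mathlib.RingTheory.AdicCompletion.AsTensorProduct
import Mathlib.RingTheory.AdicCompletion.Completeness

/-!
# Completion maps of modules

A linear map `M → N` is a completion map for `I` if `N` is `I`-adically complete and the map is
bijective modulo every power of `I`.
-/

set_option autoImplicit false
set_option linter.style.haveILetI false

universe u v v' w w'

namespace Groth.Agent.DerCompLib

open Groth.Agent.ProEtDCLib

variable {R : Type u} [CommRing R]

/-- The map presents `N` as the `I`-adic completion of `M`. -/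
def IsCplMap {M : Type v} {N : Type v'} [AddCommGroup M] [Module R M] [AddCommGroup N] [Module R N]
    (I : Ideal R) (f : M →ₗ[R] N) : Prop :=
  IsAdicComplete I N ∧ ∀ n : ℕ, (∀ y : N, ∃ x : M, f x - y ∈ (I ^ n • ⊤ : Submodule R N)) ∧
    ∀ x : M, f x ∈ (I ^ n • ⊤ : Submodule R N) → x ∈ (I ^ n • ⊤ : Submodule R M)

/-- The completion map is a completion map. -/
theorem isCplMap_of {I : Ideal R} (hI : I.FG) (M : Type v) [AddCommGroup M] [Module R M] :
    IsCplMap I (AdicCompletion.of I M) := by
  refine ⟨AdicCompletion.isAdicComplete hI, fun n => ⟨fun y => ?_, fun x hx => ?_⟩⟩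
  · obtain ⟨x, hx⟩ := Submodule.Quotient.mk_surjective _ (AdicCompletion.eval I M n y)
    refine ⟨x, ?_⟩
    rw [AdicCompletion.pow_smul_top_eq_ker_eval hI, LinearMap.mem_ker, map_sub, sub_eq_zero]
    exact hx
  · rw [AdicCompletion.pow_smul_top_eq_ker_eval hI, LinearMap.mem_ker] at hx
    exact (Submodule.Quotient.mk_eq_zero _).1 hx

section Semi

variable {R' : Type w} [CommRing R'] {M : Type v} [AddCommGroup M] [Module R M] {M' : Type w'} [AddCommGroup M']
  [Module R' M'] (σ : R →+* R') (hσ : Function.Surjective σ) (α : M →+ M') (hb : Function.Bijective α)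
  (hα : ∀ r x, α (r • x) = σ r • α x)

include hσ hb hα in
theorem mem_smul_top_iff_of_semi (J : Ideal R) (x : M) :
    x ∈ (J • ⊤ : Submodule R M) ↔ α x ∈ (J.map σ • ⊤ : Submodule R' M') := by
  constructor
  · intro hx
    refine Submodule.smul_induction_on hx (fun r hr m _ => ?_) fun a b ha hb' => ?_
    · rw [hα]
      exact Submodule.smul_mem_smul (Ideal.mem_map_of_mem σ hr) Submodule.mem_top
    · rw [map_add]
      exact add_mem ha hb'
  · intro hx
    suffices h : ∀ y ∈ (J.map σ • ⊤ : Submodule R' M'), ∃ x ∈ (J • ⊤ : Submodule R M), α x = y by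
      obtain ⟨x', hx', e⟩ := h _ hx
      rwa [← hb.1 e]
    intro y hy
    refine Submodule.smul_induction_on hy (fun r hr m _ => ?_) fun a b ha hb' => ?_
    · obtain ⟨r, hr', rfl⟩ := (Ideal.mem_map_iff_of_surjective σ hσ).1 hr
      obtain ⟨m, rfl⟩ := hb.2 m
      exact ⟨r • m, Submodule.smul_mem_smul hr' Submodule.mem_top, hα r m⟩
    · obtain ⟨a', ha', rfl⟩ := ha
      obtain ⟨b', hb'', rfl⟩ := hb'
      exact ⟨a' + b', add_mem ha' hb'', map_add α a' b'⟩

include hσ hb hα in
theorem mem_pow_smul_top_iff_of_semi {I : Ideal R} {I' : Ideal R'} (hI : I.map σ = I') (n : ℕ) (x : M) :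
    x ∈ (I ^ n • ⊤ : Submodule R M) ↔ α x ∈ (I' ^ n • ⊤ : Submodule R' M') := by
  rw [mem_smul_top_iff_of_semi σ hσ α hb hα (I ^ n) x, Ideal.map_pow, hI]

include hσ hb hα in
theorem isAdicComplete_of_semi {I : Ideal R} {I' : Ideal R'} (hI : I.map σ = I') [IsAdicComplete I M] :
    IsAdicComplete I' M' where
  haus' := fun y hy => by
    obtain ⟨x, rfl⟩ := hb.2 y
    rw [IsHausdorff.haus' (I := I) x fun n => SModEq.zero.2
      ((mem_pow_smul_top_iff_of_semi σ hσ α hb hα hI n x).2 (SModEq.zero.1 (hy n))), map_zero]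
  prec' := fun f hf => by
    choose g hg using fun n => hb.2 (f n)
    obtain ⟨L, hL⟩ := IsPrecomplete.prec' (I := I) g fun {m n} hmn => SModEq.sub_mem.2
      ((mem_pow_smul_top_iff_of_semi σ hσ α hb hα hI m _).2 (by
        rw [map_sub, hg, hg]
        exact SModEq.sub_mem.1 (hf hmn)))
    refine ⟨α L, fun n => SModEq.sub_mem.2 ?_⟩
    rw [← hg, ← map_sub]
    exact (mem_pow_smul_top_iff_of_semi σ hσ α hb hα hI n _).1 (SModEq.sub_mem.1 (hL n))

include hσ hb hα in
/-- Completion maps are transported along semilinear bijections. -/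
theorem IsCplMap.of_semi {I : Ideal R} {I' : Ideal R'} (hI : I.map σ = I') {N : Type v'} [AddCommGroup N]
    [Module R N] {N' : Type*} [AddCommGroup N'] [Module R' N'] (β : N →+ N') (hb' : Function.Bijective β)
    (hβ : ∀ r y, β (r • y) = σ r • β y) {f : M →ₗ[R] N} {f' : M' →ₗ[R'] N'} (hc : ∀ x, β (f x) = f' (α x))
    (h : IsCplMap I f) : IsCplMap I' f' := by
  haveI := h.1
  refine ⟨isAdicComplete_of_semi σ hσ β hb' hβ hI, fun n => ⟨fun y => ?_, fun x hx => ?_⟩⟩
  · obtain ⟨y, rfl⟩ := hb'.2 y
    obtain ⟨x, hx⟩ := (h.2 n).1 y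
    refine ⟨α x, ?_⟩
    rw [← hc, ← map_sub]
    exact (mem_pow_smul_top_iff_of_semi σ hσ β hb' hβ hI n _).1 hx
  · obtain ⟨x, rfl⟩ := hb.2 x
    rw [← hc] at hx
    exact (mem_pow_smul_top_iff_of_semi σ hσ α hb hα hI n x).1
      ((h.2 n).2 x ((mem_pow_smul_top_iff_of_semi σ hσ β hb' hβ hI n _).2 hx))

end Semi

/-- The canonical map to the tensor product with the completion of the ring is a completion map. -/
theorem isCplMap_tensor [IsNoetherianRing R] (I : Ideal R) (M : Type u) [AddCommGroup M] [Module R M]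
    [Module.Finite R M] : IsCplMap I (TensorProduct.mk R (AdicCompletion I R) M 1) := by
  let e := AdicCompletion.ofTensorProductEquivOfFiniteNoetherian I M
  refine IsCplMap.of_semi (RingHom.id R) Function.surjective_id (AddMonoidHom.id M) Function.bijective_id
    (fun _ _ => rfl) (Ideal.map_id I) (e.restrictScalars R).symm.toAddEquiv.toAddMonoidHom
    (e.restrictScalars R).symm.bijective (fun r y => map_smul (e.restrictScalars R).symm r y)
    (fun x => AdicCompletion.ofTensorProductEquivOfFiniteNoetherian_symm_of I M x)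
    (isCplMap_of (IsNoetherian.noetherian I) M)

/-- For a module killed by a power of each element of `I`, the map to the tensor product is bijective. -/
theorem bijective_tensor_of_nilp [IsNoetherianRing R] (I : Ideal R) (M : Type u) [AddCommGroup M] [Module R M]
    [Module.Finite R M] {L : List R} (hL : Ideal.span {r | r ∈ L} = I)
    (h : ∀ r ∈ L, ∃ k : ℕ, ∀ x : M, r ^ k • x = 0) :
    Function.Bijective (TensorProduct.mk R (AdicCompletion I R) M 1) := by
  have hle : I ≤ (Module.annihilator R M).radical := by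
    rw [← hL, Ideal.span_le]
    intro r hr
    obtain ⟨k, hk⟩ := h r hr
    exact ⟨k, Module.mem_annihilator.2 hk⟩
  obtain ⟨k, hk⟩ := Ideal.exists_pow_le_of_le_radical_of_fg_radical hle (IsNoetherian.noetherian _)
  have hbot : (I ^ k • ⊤ : Submodule R M) = ⊥ := by
    rw [eq_bot_iff, Submodule.smul_le]
    intro r hr x _
    exact (Submodule.mem_bot R).2 (Module.mem_annihilator.1 (hk hr) x)
  haveI : IsAdicComplete I M :=
    { haus' := fun x hx => (Submodule.mem_bot R).1 (hbot ▸ SModEq.zero.1 (hx k))
      prec' := fun f hf => ⟨f k, fun n => by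
        rcases le_total n k with hn | hn
        · exact hf hn
        · have : f k = f n := sub_eq_zero.1 ((Submodule.mem_bot R).1 (hbot ▸ SModEq.sub_mem.1 (hf hn)))
          rw [this]⟩ }
  let e := AdicCompletion.ofTensorProductEquivOfFiniteNoetherian I M
  have he : ⇑(TensorProduct.mk R (AdicCompletion I R) M 1) = e.symm ∘ AdicCompletion.of I M :=
    funext fun x => (AdicCompletion.ofTensorProductEquivOfFiniteNoetherian_symm_of I M x).symm
  rw [he]
  exact e.symm.bijective.comp (AdicCompletion.of_bijective I M)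

/-- Adically complete modules are derived complete. -/
theorem dBij_of_isAdicComplete (I : Ideal R) (M : Type v) [AddCommGroup M] [Module R M] [IsAdicComplete I M]
    {a : R} (ha : a ∈ I) : DBij (Groth.Agent.ProEtDCLib.smulEnd M a) := by
  have h0 : ∀ x : M, (∀ n : ℕ, x ∈ (I ^ n • ⊤ : Submodule R M)) → x = 0 := fun x hx =>
    IsHausdorff.haus' (I := I) x fun n => SModEq.zero.2 (hx n)
  have hak : ∀ k, a ^ k ∈ I ^ k := fun k => Ideal.pow_mem_pow ha k
  have hmul : ∀ (k : ℕ) (x : M), x ∈ (I ^ k • ⊤ : Submodule R M) → a • x ∈ (I ^ (k + 1) • ⊤ : Submodule R M) :=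
    fun k x hx => by
      rw [pow_succ', mul_smul]
      exact Submodule.smul_mem_smul ha hx
  refine dBij_mk (fun x hx => funext fun n => h0 _ fun k => ?_) fun y => ?_
  · induction k generalizing n with
    | zero => simp
    | succ k ih =>
      rw [hx n]
      exact hmul k _ (ih (n + 1))
  · let S : ℕ → ℕ → M := fun n N => ∑ k ∈ Finset.range N, a ^ k • y (n + k)
    have hc : ∀ n, ∃ L, ∀ N, S n N - L ∈ (I ^ N • ⊤ : Submodule R M) := fun n => by
      obtain ⟨L, hL⟩ := IsPrecomplete.prec (I := I) (M := M) inferInstance (f := S n) fun {m N} hmN => by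
        rw [SModEq.sub_mem]
        show S n m - S n N ∈ (I ^ m • ⊤ : Submodule R M)
        rw [← neg_sub, neg_mem_iff, ← Finset.sum_Ico_eq_sub _ hmN]
        exact Submodule.sum_mem _ fun k hk => Submodule.smul_mem_smul
          (Ideal.pow_le_pow_right (Finset.mem_Ico.1 hk).1 (hak k)) Submodule.mem_top
      exact ⟨L, fun N => SModEq.sub_mem.1 (hL N)⟩
    choose L hL using hc
    refine ⟨L, fun n => sub_eq_zero.1 (h0 _ fun N => ?_)⟩
    show L n - a • L (n + 1) - y n ∈ (I ^ N • ⊤ : Submodule R M)
    have e : L n - a • L (n + 1) - y n =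
        -(S n (N + 1) - L n) + a • (S (n + 1) N - L (n + 1)) := by
      have hS : S n (N + 1) = y n + a • S (n + 1) N := by
        simp only [S, Finset.sum_range_succ', Finset.smul_sum, pow_zero, one_smul, add_zero]
        rw [add_comm (y n)]
        congr 1
        refine Finset.sum_congr rfl fun k _ => ?_
        rw [pow_succ', mul_smul, add_right_comm, add_assoc n k 1]
      rw [hS, smul_sub]
      abel
    rw [e]
    exact add_mem (neg_mem (Submodule.smul_mono_left (Ideal.pow_le_pow_right (Nat.le_succ N)) (hL n (N + 1))))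
      (Submodule.smul_mem _ _ (hL (n + 1) N))

end Groth.Agent.DerCompLib
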