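import Groth.Agent.DerCompLib.CplMap
import Groth.Agent.DerCompLib.HomOrth

/-!
# Completion maps from maps with left orthogonal cones
-/

set_option autoImplicit false
set_option linter.style.haveILetI false
set_option linter.unusedSectionVars false

universe w v u

open CategoryTheory CategoryTheory.Limits CategoryTheory.Pretriangulated

noncomputable section

namespace Groth.Agent.DerCompLib

open Groth.Agent.ProEtDCLib

variable {R : Type w} [CommRing R] {T : Type u} [Category.{v} T] [Preadditive T] [HasZeroObject T]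
  [HasShift T ℤ] [∀ n : ℤ, (shiftFunctor T n).Additive] [Pretriangulated T] [IsTriangulated T] [Linear R T]
  [∀ n : ℤ, (shiftFunctor T n).Linear R]

/-- If `f : M ⟶ M'` has a left orthogonal cone and gives completions on all `Hom(U, -⟦q⟧)`, and
`u : K ⟶ K'` is a completion with `M ≅ K`, then so does `u`. -/
theorem isCplMap_of_completion {I : Ideal R} {l : List R} (hl : ∀ s ∈ l, s ∈ I) {U M M' C K K' N : T}
    {f : M ⟶ M'} {b : M' ⟶ C} {d : C ⟶ M⟦(1 : ℤ)⟧} (hT : Triangle.mk f b d ∈ distTriang T) (hC : LOrth l C)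
    (hcpl : ∀ q : ℤ, IsCplMap I (Linear.rightComp R U (f⟦q⟧'))) (e : M ≅ K) {a : N ⟶ K} {u : K ⟶ K'}
    {c : K' ⟶ N⟦(1 : ℤ)⟧} (hTu : Triangle.mk a u c ∈ distTriang T) (hN : LOrth l N)
    (hK' : ∀ s ∈ l, Compl s K') (p : ℤ) : IsCplMap I (Linear.rightComp R U (u⟦p⟧')) := by
  let t : M ⟶ K' := e.hom ≫ u
  have hTt : Triangle.mk (a ≫ e.inv) t c ∈ distTriang T :=
    isomorphic_distinguished _ hTu _ (Triangle.isoMk _ _ (Iso.refl _) e (Iso.refl _)
      (by
        show (a ≫ e.inv) ≫ e.hom = 𝟙 _ ≫ a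
        rw [Category.assoc, e.inv_hom_id, Category.comp_id, Category.id_comp])
      (by
        show t ≫ 𝟙 _ = e.hom ≫ u
        rw [Category.comp_id])
      (by
        show c ≫ (𝟙 N)⟦(1 : ℤ)⟧' = 𝟙 _ ≫ c
        rw [CategoryTheory.Functor.map_id, Category.comp_id, Category.id_comp]))
  obtain ⟨ψ, hψ⟩ : ∃ ψ, t = f ≫ ψ :=
    Triangle.yoneda_exact₂ _ (inv_rot_of_distTriang _ hT) t ((hC.shift (-1)) _ hK' _)
  obtain ⟨D, v, w, hTψ⟩ := distinguished_cocone_triangle ψ
  have hD : LOrth l D := LOrth.obj₃ _ (Triangulated.someOctahedron hψ.symm hT hTψ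
    (rot_of_distTriang _ hTt)).mem hC (hN.shift 1)
  have hH : ∀ s ∈ l, HCompl s U M' := fun s hs q => by
    haveI := (hcpl q).1
    exact dBij_of_isAdicComplete I _ (hl s hs)
  have hTp := Triangle.shift_distinguished _ (inv_rot_of_distTriang _ hTψ) p
  have hb0 := bijective_comp_of_lOrth (F := U) (l := l) hTp ((hD.shift (-1)).shift p)
    (fun s hs => (hH s hs).shift p) (fun s hs => (hK' s hs).shift p)
  have hb1 : Function.Bijective fun x : U ⟶ M'⟦p⟧ => x ≫ (p.negOnePow • ψ⟦p⟧') := hb0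
  have hb : Function.Bijective fun x : U ⟶ M'⟦p⟧ => x ≫ ψ⟦p⟧' := by
    rcases Int.units_eq_one_or p.negOnePow with hp | hp
    · simpa [hp] using hb1
    · have h1 := neg_involutive.bijective.comp hb1
      refine (congrArg Function.Bijective (funext fun x => ?_)).mp h1
      show -(x ≫ (p.negOnePow • ψ⟦p⟧')) = x ≫ ψ⟦p⟧'
      rw [hp]
      simp
  refine IsCplMap.of_semi (RingHom.id _) Function.surjective_id
    (Preadditive.rightComp _ (e.hom⟦p⟧')) ((shiftFunctor _ p).mapIso e).homToEquiv.bijective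
    (fun r x => Linear.smul_comp _ _ _ r x _) (Ideal.map_id I)
    (Preadditive.rightComp _ (ψ⟦p⟧')) hb (fun r x => Linear.smul_comp _ _ _ r x _)
    (fun x => ?_) (hcpl p)
  show (x ≫ f⟦p⟧') ≫ ψ⟦p⟧' = (x ≫ e.hom⟦p⟧') ≫ u⟦p⟧'
  rw [Category.assoc, Category.assoc, ← Functor.map_comp, ← Functor.map_comp, ← hψ]

end Groth.Agent.DerCompLib
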