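import Groth.Agent.DerCompLib.FlatUnit

/-!
# The derived adjunction between extension and restriction of scalars along a flat map
-/

set_option autoImplicit false
set_option linter.style.haveILetI false
set_option linter.unusedSectionVars false
set_option backward.isDefEq.respectTransparency false
set_option backward.isDefEq.respectTransparency.types false
set_option maxRecDepth 2000

universe u v v' u₁ u₂

open CategoryTheory CategoryTheory.Limits CategoryTheory.Pretriangulated Opposite

attribute [local instance] HasDerivedCategory.standard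

noncomputable section

namespace Groth.Agent.DerCompLib

section Adjunction

variable {A : Type u₁} [Category.{v} A] [Abelian A] {B : Type u₂} [Category.{v'} B] [Abelian B]
  {F : A ⥤ B} {G : B ⥤ A} (adj : F ⊣ G) [F.Additive] [G.Additive]

/-- The unit on complexes. -/
def unitCx : 𝟭 (CochainComplex A ℤ) ⟶
    F.mapHomologicalComplex (ComplexShape.up ℤ) ⋙ G.mapHomologicalComplex (ComplexShape.up ℤ) where
  app K := { f := fun n => adj.unit.app (K.X n), comm' := fun i j _ => (adj.unit.naturality (K.d i j)).symm }
  naturality K L f := by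
    ext n : 1
    exact adj.unit.naturality (f.f n)

/-- The counit on complexes. -/
def counitCx : G.mapHomologicalComplex (ComplexShape.up ℤ) ⋙ F.mapHomologicalComplex (ComplexShape.up ℤ) ⟶
    𝟭 (CochainComplex B ℤ) where
  app K := { f := fun n => adj.counit.app (K.X n), comm' := fun i j _ => (adj.counit.naturality (K.d i j)).symm }
  naturality K L f := by
    ext n : 1
    exact adj.counit.naturality (f.f n)

/-- The adjunction on complexes. -/
def adjCx : F.mapHomologicalComplex (ComplexShape.up ℤ) ⊣ G.mapHomologicalComplex (ComplexShape.up ℤ) :=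
  Adjunction.mkOfUnitCounit
    { unit := unitCx adj
      counit := counitCx adj
      left_triangle := by
        ext K n : 3
        show F.map (adj.unit.app (K.X n)) ≫ 𝟙 _ ≫ adj.counit.app (F.obj (K.X n)) = 𝟙 _
        rw [Category.id_comp]
        exact adj.left_triangle_components _
      right_triangle := by
        ext K n : 3
        show adj.unit.app (G.obj (K.X n)) ≫ 𝟙 _ ≫ G.map (adj.counit.app (K.X n)) = 𝟙 _
        rw [Category.id_comp]
        exact adj.right_triangle_components _ }

variable [PreservesFiniteLimits F] [PreservesFiniteColimits F] [PreservesFiniteLimits G]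
  [PreservesFiniteColimits G]

/-- The adjunction on derived categories. -/
def derAdj : F.mapDerivedCategory ⊣ G.mapDerivedCategory :=
  letI : CatCommSq (F.mapHomologicalComplex (ComplexShape.up ℤ)) DerivedCategory.Q DerivedCategory.Q
      F.mapDerivedCategory := ⟨F.mapDerivedCategoryFactors.symm⟩
  letI : CatCommSq (G.mapHomologicalComplex (ComplexShape.up ℤ)) DerivedCategory.Q DerivedCategory.Q
      G.mapDerivedCategory := ⟨G.mapDerivedCategoryFactors.symm⟩
  (adjCx adj).localization DerivedCategory.Q (HomologicalComplex.quasiIso A (ComplexShape.up ℤ))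
    DerivedCategory.Q (HomologicalComplex.quasiIso B (ComplexShape.up ℤ)) F.mapDerivedCategory G.mapDerivedCategory

/-- The comparison at a complex. -/
def derAdjIso (K : CochainComplex A ℤ) :
    DerivedCategory.Q.obj ((G.mapHomologicalComplex (ComplexShape.up ℤ)).obj
        ((F.mapHomologicalComplex (ComplexShape.up ℤ)).obj K)) ≅
      G.mapDerivedCategory.obj (F.mapDerivedCategory.obj (DerivedCategory.Q.obj K)) :=
  (G.mapDerivedCategoryFactors.app _).symm ≪≫ G.mapDerivedCategory.mapIso (F.mapDerivedCategoryFactors.app K).symm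

theorem derAdj_unit_app (K : CochainComplex A ℤ) :
    (derAdj adj).unit.app (DerivedCategory.Q.obj K) =
      DerivedCategory.Q.map ((unitCx adj).app K) ≫ (derAdjIso (F := F) (G := G) K).hom := by
  letI : CatCommSq (F.mapHomologicalComplex (ComplexShape.up ℤ)) DerivedCategory.Q DerivedCategory.Q
      F.mapDerivedCategory := ⟨F.mapDerivedCategoryFactors.symm⟩
  letI : CatCommSq (G.mapHomologicalComplex (ComplexShape.up ℤ)) DerivedCategory.Q DerivedCategory.Q
      G.mapDerivedCategory := ⟨G.mapDerivedCategoryFactors.symm⟩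
  exact (adjCx adj).localization_unit_app DerivedCategory.Q (HomologicalComplex.quasiIso A (ComplexShape.up ℤ))
    DerivedCategory.Q (HomologicalComplex.quasiIso B (ComplexShape.up ℤ)) F.mapDerivedCategory G.mapDerivedCategory K

end Adjunction

open Groth.Agent.ModTensor Groth.Agent.PullFlat

variable {C : Type u} [SmallCategory C] {J : GrothendieckTopology C} {O O' : Sheaf J CommRingCat.{u}}
  {φ : O ⟶ O'} {l : List (DerComp.GSec O)} {P : ModSite.Mod O ⥤ ModSite.Mod O'} (adj : P ⊣ resF φ)
  [P.Additive] [(resF φ).Additive] [PreservesFiniteLimits P] [PreservesFiniteColimits P]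
  [PreservesFiniteLimits (resF φ)] [PreservesFiniteColimits (resF φ)]

theorem isIso_unit_of_ext {S : ShortComplex (ModSite.Mod O)} (hS : S.ShortExact)
    (h₁ : IsIso (adj.unit.app S.X₁)) (h₃ : IsIso (adj.unit.app S.X₃)) : IsIso (adj.unit.app S.X₂) := by
  let ψ : S ⟶ S.map (P ⋙ resF φ) :=
    ShortComplex.homMk (adj.unit.app S.X₁) (adj.unit.app S.X₂) (adj.unit.app S.X₃)
      (adj.unit.naturality S.f).symm (adj.unit.naturality S.g).symm
  haveI : IsIso ψ.τ₁ := h₁
  haveI : IsIso ψ.τ₃ := h₃
  exact ShortComplex.isIso₂_of_shortExact_of_isIso₁₃ ψ hS (hS.map_of_exact (P ⋙ resF φ))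

/-- The unit is an isomorphism at modules on which the scalars are nilpotent. -/
theorem QuotIso.isIso_unit_nilp (h : QuotIso φ l) : ∀ (L : List (DerComp.GSec O)) (M : ModSite.Mod O),
    (∀ s ∈ l, ∃ k : ℕ, s ^ k • 𝟙 M = 0) → (∀ s ∈ l, s ∉ L → s • 𝟙 M = 0) → IsIso (adj.unit.app M)
  | [], M, _, h1 => h.isIso_unit adj fun s hs => by
      have := h1 s hs List.not_mem_nil
      change DerComp.smulEnd s M ≫ 𝟙 M = 0 at this
      rwa [Category.comp_id] at this
  | r :: L, M, hn, h1 => by
    by_cases hr : r ∈ l
    swap
    · exact h.isIso_unit_nilp L M hn fun s hs hs' => h1 s hs fun h' =>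
        (List.mem_cons.1 h').elim (fun e => hr (e ▸ hs)) hs'
    obtain ⟨k, hk⟩ := hn r hr
    induction k generalizing M with
    | zero =>
      rw [pow_zero, one_smul] at hk
      exact h.isIso_unit_nilp L M hn fun s _ _ => by rw [hk, smul_zero]
    | succ k ih =>
      let ι := kernel.ι (r • 𝟙 M)
      let q := cokernel.π ι
      have hK : ∀ (t : DerComp.GSec O), t • 𝟙 M = 0 → t • 𝟙 (kernel (r • 𝟙 M)) = 0 := fun t ht => by
        rw [← cancel_mono ι, Linear.smul_comp, Category.id_comp, ← Category.comp_id ι, ← Linear.comp_smul, ht,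
          comp_zero, zero_comp]
      have hQ : ∀ (t : DerComp.GSec O), t • 𝟙 M = 0 → t • 𝟙 (cokernel ι) = 0 := fun t ht => by
        rw [← cancel_epi q, Linear.comp_smul, Category.comp_id, ← Category.id_comp q, ← Linear.smul_comp, ht,
          zero_comp, comp_zero]
      have hKr : r • 𝟙 (kernel (r • 𝟙 M)) = 0 := by
        rw [← cancel_mono ι, Linear.smul_comp, Category.id_comp, ← Category.comp_id ι, ← Linear.comp_smul,
          kernel.condition, zero_comp]
      have hQr : r ^ k • 𝟙 (cokernel ι) = 0 := by
        have h2 : (r ^ k • 𝟙 M) ≫ (r • 𝟙 M) = 0 := by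
          rw [Linear.comp_smul, Category.comp_id, smul_smul, ← pow_succ', hk]
        rw [← cancel_epi q, Linear.comp_smul, Category.comp_id, ← Category.id_comp q, ← Linear.smul_comp,
          ← kernel.lift_ι (r • 𝟙 M) _ h2, Category.assoc, cokernel.condition, comp_zero, comp_zero]
      refine isIso_unit_of_ext adj (S := ShortComplex.mk ι q (cokernel.condition ι)) ?_
        (h.isIso_unit_nilp L _ (fun s hs => (hn s hs).imp fun j hj => hK _ hj) fun s hs hs' => ?_)
        (ih _ (fun s hs => (hn s hs).imp fun j hj => hQ _ hj) (fun s hs hs' => hQ _ (h1 s hs hs')) hQr)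
      · exact { exact := ShortComplex.exact_cokernel ι }
      · by_cases e : s = r
        · rw [e]; exact hKr
        · exact hK _ (h1 s hs fun h' => (List.mem_cons.1 h').elim e hs')

/-- The derived unit is an isomorphism at nilpotent objects. -/
theorem QuotIso.isIso_derUnit (h : QuotIso φ l) (Z : DerivedCategory (ModSite.Mod O)) (hZ : NilpAll l Z) :
    IsIso ((derAdj adj).unit.app Z) := by
  let K := DerivedCategory.Q.objPreimage Z
  let e : DerivedCategory.Q.obj K ≅ Z := DerivedCategory.Q.objObjPreimageIso Z
  suffices IsIso ((derAdj adj).unit.app (DerivedCategory.Q.obj K)) from (NatTrans.isIso_app_iff_of_iso _ e).1 this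
  rw [derAdj_unit_app]
  haveI : QuasiIso ((unitCx adj).app K) := by
    refine ⟨fun n => (quasiIsoAt_iff ((unitCx adj).app K) n).2 ⟨?_⟩⟩
    have hM : IsIso (adj.unit.app (K.sc n).homology) := by
      refine h.isIso_unit_nilp adj l _ (fun s hs => ?_) fun s hs hs' => absurd hs hs'
      obtain ⟨k, hk⟩ := (hZ s hs).of_iso e.symm
      refine ⟨k, ?_⟩
      have h1 : DerivedCategory.Q.map (s ^ k • 𝟙 K) = 0 := by
        rw [Functor.map_smul, CategoryTheory.Functor.map_id, hk]
      have h2 : HomologicalComplex.homologyMap (s ^ k • 𝟙 K) n = 0 := by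
        refine (cancel_epi ((DerivedCategory.homologyFunctorFactors (ModSite.Mod O) n).hom.app K)).1 ?_
        refine ((DerivedCategory.homologyFunctorFactors (ModSite.Mod O) n).hom.naturality (s ^ k • 𝟙 K)).symm.trans ?_
        show (DerivedCategory.homologyFunctor _ n).map (DerivedCategory.Q.map _) ≫ _ = _
        rw [h1, Functor.map_zero, zero_comp, comp_zero]
      have h3 := ShortComplex.homologyMap_smul (S₁ := K.sc n) (S₂ := K.sc n) (s ^ k) (φ := 𝟙 _)
      rw [ShortComplex.homologyMap_id] at h3
      exact h3.symm.trans h2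
    haveI hiso := hM
    rw [NatTrans.app_homology adj.unit (K.sc n)] at hiso
    exact (isIso_comp_right_iff _ _).1 ((isIso_comp_left_iff _ _).1 hiso)
  infer_instance

include adj in
theorem map_pow_smul_id (s : DerComp.GSec O) (k : ℕ) (X : DerivedCategory (ModSite.Mod O)) :
    (P.mapDerivedCategory ⋙ (resF φ).mapDerivedCategory).map (s ^ k • 𝟙 X) = s ^ k • 𝟙 _ := by
  rw [Functor.comp_map, mapDerivedCategory_map_smul P (s ^ k) (gsMap φ (s ^ k))
      (fun M => pull_map_smulEnd adj _ M),
    mapDerivedCategory_map_smul (resF φ) (gsMap φ (s ^ k)) (s ^ k) (fun N => resF_map_smulEnd _ N)]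
  rfl

/-- The derived unit does not change maps from nilpotent objects, on complexes. -/
theorem QuotIso.bijective_unitCx (h : QuotIso φ l) (K : CochainComplex (ModSite.Mod O) ℤ)
    (Y : DerivedCategory (ModSite.Mod O)) (hY : NilpAll l Y) :
    Function.Bijective fun u : Y ⟶ DerivedCategory.Q.obj K => u ≫ DerivedCategory.Q.map ((unitCx adj).app K) := by
  have hb := bijective_of_nilp (T := DerivedCategory (ModSite.Mod O)) (derAdj adj).unit l
    (fun r _ k X => map_pow_smul_id adj r k X) (fun Z hZ => h.isIso_derUnit adj Z hZ) (DerivedCategory.Q.obj K) Y hY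
  simp only [derAdj_unit_app] at hb
  refine ⟨fun a b hab => hb.1 ?_, fun u => ?_⟩
  · exact (Category.assoc _ _ _).symm.trans ((congrArg (· ≫ _) hab).trans (Category.assoc _ _ _))
  · obtain ⟨w, hw⟩ := hb.2 (u ≫ (derAdjIso K).hom)
    exact ⟨w, (cancel_mono (derAdjIso (F := P) (G := resF φ) K).hom).1 ((Category.assoc _ _ _).trans hw)⟩

end Groth.Agent.DerCompLib
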