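import Groth.Agent.DerCompLib.Nilp

/-!
# Natural maps which are isomorphisms at nilpotent objects
-/

set_option autoImplicit false
set_option linter.style.haveILetI false
set_option linter.unusedSectionVars false
set_option backward.isDefEq.respectTransparency false
set_option backward.isDefEq.respectTransparency.types false
set_option maxRecDepth 2000

universe w v u

open CategoryTheory CategoryTheory.Limits CategoryTheory.Pretriangulated Opposite MonoidalCategory

attribute [local instance] HasDerivedCategory.standard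

noncomputable section

namespace Groth.Agent.DerCompLib

section General

variable {R : Type w} [CommRing R] {T : Type u} [Category.{v} T] [Preadditive T] [HasZeroObject T]
  [HasShift T ℤ] [∀ n : ℤ, (shiftFunctor T n).Additive] [Pretriangulated T] [Linear R T]
  [∀ n : ℤ, (shiftFunctor T n).Linear R]

theorem Nilp.of_iso {r : R} {X X' : T} (h : Nilp r X) (e : X ≅ X') : Nilp r X' := by
  obtain ⟨k, hk⟩ := h
  refine ⟨k, ?_⟩
  rw [← e.inv_hom_id, ← Category.id_comp e.hom, ← Linear.comp_smul, ← Linear.smul_comp, hk, zero_comp,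
    comp_zero]

theorem Nilp.of_pow {r : R} {k : ℕ} {X : T} (h : Nilp (r ^ k) X) : Nilp r X := by
  obtain ⟨m, hm⟩ := h
  exact ⟨k * m, by rw [pow_mul, hm]⟩

variable {F : T ⥤ T} [F.CommShift ℤ] [F.IsTriangulated] (η : 𝟭 T ⟶ F)

/-- A natural map to a triangulated functor which is an isomorphism at nilpotent objects does not
change maps from nilpotent objects. -/
theorem bijective_of_nilp_aux (L : List R) (hF : ∀ r ∈ L, ∀ (k : ℕ) (X : T), F.map (r ^ k • 𝟙 X) = r ^ k • 𝟙 (F.obj X))
    (hη : ∀ Z : T, NilpAll L Z → IsIso (η.app Z)) :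
    ∀ (l : List R) (X : T), (∀ r ∈ L, r ∈ l ∨ Nilp r X) → ∀ Y : T, NilpAll L Y →
      Function.Bijective fun u : Y ⟶ X => u ≫ η.app X
  | [], X, hc, Y, _ => by
    haveI := hη X fun r hr => (hc r hr).resolve_left List.not_mem_nil
    exact ⟨fun a b hab => (cancel_mono (η.app X)).1 hab, fun u => ⟨u ≫ inv (η.app X), by simp⟩⟩
  | r :: l, X, hc, Y, hY => by
    by_cases hr : r ∈ L
    swap
    · exact bijective_of_nilp_aux L hF hη l X (fun s hs => by
        rcases hc s hs with h | h
        · rcases List.mem_cons.1 h with rfl | h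
          · exact absurd hs hr
          · exact Or.inl h
        · exact Or.inr h) Y hY
    obtain ⟨k, hk⟩ := hY r hr
    obtain ⟨C, g, h, hT⟩ := distinguished_cocone_triangle (r ^ k • 𝟙 X)
    have hcC : ∀ s ∈ L, s ∈ l ∨ Nilp s C := fun s hs => by
      rcases hc s hs with h' | h'
      · rcases List.mem_cons.1 h' with rfl | h'
        · exact Or.inr (nilp_cone hT).of_pow
        · exact Or.inl h'
      · exact Or.inr (nilp_obj₃ _ hT h' h')
    have hzero : ∀ {X' : T} (u : Y ⟶ X'), r ^ k • u = 0 := fun u => by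
      rw [← Category.id_comp u, ← Linear.smul_comp, hk, zero_comp]
    refine ⟨(injective_iff_map_eq_zero (Preadditive.rightComp Y (η.app X))).2 fun u hu => ?_, fun u => ?_⟩
    · have h1 : u ≫ g = 0 := (bijective_of_nilp_aux L hF hη l C hcC Y hY).1 (by
        show (u ≫ g) ≫ η.app C = 0 ≫ η.app C
        rw [Category.assoc, show g ≫ η.app C = η.app X ≫ F.map g from η.naturality g, ← Category.assoc,
          show u ≫ η.app X = 0 from hu, zero_comp, zero_comp])
      obtain ⟨v, hv⟩ := Triangle.coyoneda_exact₂ _ hT u h1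
      refine hv.trans ?_
      exact ((Linear.comp_smul _ _ _ v _ (𝟙 X)).trans (congrArg (_ • ·) (Category.comp_id v))).trans (hzero v)
    · obtain ⟨K, p, d, hK⟩ := distinguished_cocone_triangle₁ (r ^ k • 𝟙 X)
      have hcK : ∀ s ∈ L, s ∈ l ∨ Nilp s K := fun s hs => by
        have hi : Nilp s (K⟦(1 : ℤ)⟧) → Nilp s K := fun h' =>
          (h'.shift (-1)).of_iso ((shiftFunctorCompIsoId T (1 : ℤ) (-1) (by norm_num)).app K)
        rcases hc s hs with h' | h'
        · rcases List.mem_cons.1 h' with rfl | h'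
          · exact Or.inr (hi (nilp_cone (rot_of_distTriang _ hK)).of_pow)
          · exact Or.inl h'
        · exact Or.inr (hi (nilp_obj₃ _ (rot_of_distTriang _ hK) h' h'))
      have h1 : u ≫ F.map (r ^ k • 𝟙 X) = 0 := by
        rw [hF r hr k X, Linear.comp_smul, Category.comp_id]
        exact hzero u
      obtain ⟨v, hv⟩ := Triangle.coyoneda_exact₂ _ (F.map_distinguished _ hK) u h1
      obtain ⟨w, hw⟩ := (bijective_of_nilp_aux L hF hη l K hcK Y hY).2 v
      refine ⟨w ≫ p, ?_⟩
      rw [hv, ← hw]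
      show (w ≫ p) ≫ η.app X = (w ≫ η.app K) ≫ F.map p
      rw [Category.assoc, Category.assoc, show p ≫ η.app X = η.app K ≫ F.map p from η.naturality p]

theorem bijective_of_nilp (L : List R) (hF : ∀ r ∈ L, ∀ (k : ℕ) (X : T), F.map (r ^ k • 𝟙 X) = r ^ k • 𝟙 (F.obj X))
    (hη : ∀ Z : T, NilpAll L Z → IsIso (η.app Z)) (X Y : T)
    (hY : NilpAll L Y) : Function.Bijective fun u : Y ⟶ X => u ≫ η.app X :=
  bijective_of_nilp_aux η L hF hη L X (fun _ hr => Or.inl hr) Y hY

/-- If composition with a map is bijective on maps from nilpotent objects, its cone is left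
orthogonal to the complete objects. -/
theorem lOrth_of_bijective {L : List R} {X X' C : T} {g : X ⟶ X'} {p : X' ⟶ C} {d : C ⟶ X⟦(1 : ℤ)⟧}
    (hT : Triangle.mk g p d ∈ distTriang T)
    (hb : ∀ Y : T, NilpAll L Y → Function.Bijective fun u : Y ⟶ X => u ≫ g) : LOrth L C := by
  refine lOrth_iff_nilp.2 fun Y hY u => ?_
  let e := shiftFunctorCompIsoId T (1 : ℤ) (-1) (by norm_num)
  have h31 : d ≫ g⟦(1 : ℤ)⟧' = 0 := comp_distTriang_mor_zero₃₁ _ hT
  have h0 : u ≫ d = 0 := by
    have h2 : (u ≫ d)⟦(-1 : ℤ)⟧' ≫ e.hom.app X = 0 := (hb _ fun r hr => (hY r hr).shift (-1)).1 (by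
      have hn : (g⟦(1 : ℤ)⟧')⟦(-1 : ℤ)⟧' ≫ e.hom.app X' = e.hom.app X ≫ g := e.hom.naturality g
      show ((u ≫ d)⟦(-1 : ℤ)⟧' ≫ e.hom.app X) ≫ g = 0 ≫ g
      rw [Category.assoc, ← hn, ← Category.assoc, ← Functor.map_comp, Category.assoc, h31, comp_zero,
        Functor.map_zero, zero_comp, zero_comp])
    apply (shiftFunctor T (-1 : ℤ)).map_injective
    rw [← cancel_mono (e.hom.app X), h2, Functor.map_zero, zero_comp]
  obtain ⟨v, hv⟩ := Triangle.coyoneda_exact₃ _ hT u h0
  obtain ⟨w, hw⟩ := (hb Y hY).2 v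
  refine hv.trans ?_
  show v ≫ p = 0
  rw [← hw]
  show (w ≫ g) ≫ p = 0
  rw [Category.assoc, show g ≫ p = 0 from comp_distTriang_mor_zero₁₂ _ hT, comp_zero]

end General

end Groth.Agent.DerCompLib
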