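import Groth.Agent.KInj.Lifting
import Mathlib.Algebra.Homology.DerivedCategory.KInjective
import Mathlib.Algebra.Homology.HomotopyCategory.DegreewiseSplit
import Mathlib.Algebra.Homology.HomologicalComplexAbelian

/-!
# Reflection onto the right orthogonal of a small set of objects of a derived category

For a Grothendieck abelian category `A` and a small family of complexes `T a`, the objects of `D(A)` receiving no
nonzero map from a shift of some `T a` form a reflective subcategory (small object argument).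
-/

set_option autoImplicit false
set_option linter.style.haveILetI false
set_option backward.isDefEq.respectTransparency false
set_option backward.isDefEq.respectTransparency.types false
set_option maxHeartbeats 800000

universe v u

open CategoryTheory CategoryTheory.Limits CochainComplex CochainComplex.HomComplex MorphismProperty
open scoped ZeroObject

attribute [local instance] HasDerivedCategory.standard

noncomputable section

namespace Groth.Agent.DerCompLib

variable {A : Type u} [Category.{v} A] [Abelian A]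

/-! ### Contractible cones and path fibrations -/

/-- The cone of an identity is contractible. -/
def coneIdHomotopy (K : CochainComplex A ℤ) : Homotopy (𝟙 (mappingCone (𝟙 K))) 0 :=
  mappingCone.descHomotopy (𝟙 K) _ _ 0 (mappingCone.inl (𝟙 K)) (by simp) (by simp)

instance mono_inr (K : CochainComplex A ℤ) : Mono (mappingCone.inr (𝟙 K)) := by
  haveI : ∀ n, Mono ((mappingCone.inr (𝟙 K)).f n) := fun n =>
    haveI : Mono ((mappingCone.inr (𝟙 K)).f n ≫ (mappingCone.snd (𝟙 K)).v n n (add_zero n)) := by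
      rw [mappingCone.inr_f_snd_v]
      infer_instance
    mono_of_mono ((mappingCone.inr (𝟙 K)).f n) ((mappingCone.snd (𝟙 K)).v n n (add_zero n))
  exact HomologicalComplex.mono_of_mono_f _ inferInstance

/-- The path fibration `cone(𝟙 K) → K[1]` with its kernel. -/
abbrev pathSC (K : CochainComplex A ℤ) : ShortComplex (CochainComplex A ℤ) :=
  mappingCone.triangleRotateShortComplex (𝟙 K)

theorem shortExact_pathSC (K : CochainComplex A ℤ) : (pathSC K).ShortExact :=
  HomologicalComplex.shortExact_of_degreewise_shortExact _ fun n =>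
    (mappingCone.triangleRotateShortComplexSplitting (𝟙 K) n).shortExact

instance injective_cone (K : CochainComplex A ℤ) [∀ n, Injective (K.X n)] (n : ℤ) :
    Injective ((pathSC K).X₂.X n) := by
  let e := (mappingCone.triangleRotateShortComplexSplitting (𝟙 K) n).isoBinaryBiproduct
  haveI : Injective ((pathSC K).map (HomologicalComplex.eval _ _ n)).X₁ := inferInstanceAs (Injective (K.X n))
  haveI : Injective ((pathSC K).map (HomologicalComplex.eval _ _ n)).X₃ :=
    inferInstanceAs (Injective (K.X (n + 1)))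
  exact Injective.of_iso e.symm inferInstance

instance isKInjective_cone (K : CochainComplex A ℤ) : (pathSC K).X₂.IsKInjective :=
  ⟨fun f _ => ⟨((Homotopy.ofEq (Category.comp_id f).symm).trans ((coneIdHomotopy K).compLeft f)).trans
    (Homotopy.ofEq comp_zero)⟩⟩

/-- Null homotopic maps lift along the path fibration. -/
theorem exists_lift_null {K X : CochainComplex A ℤ} (f : X ⟶ (pathSC K).X₃) (h : Homotopy f 0) :
    ∃ l : X ⟶ (pathSC K).X₂, l ≫ (pathSC K).g = f := by
  let σ := fun j => (mappingCone.triangleRotateShortComplexSplitting (𝟙 K) j).s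
  refine ⟨Homotopy.nullHomotopicMap fun i j => h.hom i j ≫ σ j, ?_⟩
  rw [Homotopy.nullHomotopicMap_comp]
  ext n
  have e : (fun i j => (h.hom i j ≫ σ j) ≫ (pathSC K).g.f j) = h.hom := by
    funext i j
    rw [Category.assoc]
    exact (congrArg (h.hom i j ≫ ·) (mappingCone.triangleRotateShortComplexSplitting (𝟙 K) j).s_g).trans
      (Category.comp_id _)
  rw [e]
  have := h.comm n
  rw [HomologicalComplex.zero_f_apply, add_zero] at this
  exact this.symm

/-- Maps out of a complex into a contractible one and back are null. -/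
def homotopyOfFactor {K X Y : CochainComplex A ℤ} (l : X ⟶ mappingCone (𝟙 K)) (g : mappingCone (𝟙 K) ⟶ Y) :
    Homotopy (l ≫ g) 0 :=
  (Homotopy.ofEq (by simp)).trans ((((coneIdHomotopy K).compLeft l).compRight g).trans (Homotopy.ofEq (by simp)))

/-- A null homotopic map extends to the cone of the identity of its source. -/
theorem exists_extend_null {X Y : CochainComplex A ℤ} (f : X ⟶ Y) (h : Homotopy f 0) :
    ∃ d : mappingCone (𝟙 X) ⟶ Y, mappingCone.inr (𝟙 X) ≫ d = f :=
  ⟨mappingCone.desc (𝟙 X) (Cochain.ofHomotopy h) f (by simp [δ_ofHomotopy]), mappingCone.inr_desc _ _ _ _⟩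

/-! ### The generating monomorphisms -/

variable {ι : Type v} (T : ι → CochainComplex A ℤ)

/-- No nonzero homotopy classes of maps from shifts of the `T a`. -/
def NullFrom (Z : CochainComplex A ℤ) : Prop :=
  ∀ (a : ι) (n : ℤ) (f : (T a)⟦n⟧ ⟶ Z), Nonempty (Homotopy f 0)

section Grothendieck

variable [IsGrothendieckAbelian.{v} A]

/-- The index set of the generators. -/
abbrev ReflIdx (_T : ι → CochainComplex A ℤ) : Type v := KInj.GenIdx (separator A) ⊕ (ι × ℤ)

/-- Sources of the generators. -/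
def reflSrc : ReflIdx T → CochainComplex A ℤ
  | Sum.inl a => kernel a.2.1
  | Sum.inr j => (T j.1)⟦j.2⟧

/-- Targets of the generators. -/
def reflTgt : ReflIdx T → CochainComplex A ℤ
  | Sum.inl a => ∐ fun _ : Shrink.{v} (Subobject a.1.cx) => KInj.cxSep
  | Sum.inr j => mappingCone (𝟙 ((T j.1)⟦j.2⟧))

/-- The generators. -/
def reflMap : ∀ a : ReflIdx T, reflSrc T a ⟶ reflTgt T a
  | Sum.inl a => kernel.ι a.2.1
  | Sum.inr j => mappingCone.inr (𝟙 ((T j.1)⟦j.2⟧))

/-- The generating monomorphisms. -/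
def reflGens : MorphismProperty (CochainComplex A ℤ) := MorphismProperty.ofHoms (reflMap T)

theorem reflGens_le : reflGens T ≤ monomorphisms (CochainComplex A ℤ) := by
  rintro X Y _ ⟨a⟩
  rcases a with a | j
  · exact (KInj.genMonos_le _ _ (MorphismProperty.ofHoms.mk
      (f := fun a : KInj.GenIdx (separator A) => kernel.ι a.2.1) a)).1
  · exact mono_inr _

instance reflGens_small : MorphismProperty.IsSmall.{v} (reflGens T) :=
  MorphismProperty.isSmall_ofHoms.{v} (reflMap T)

instance hasSmallObjectArgument_reflGens : HasSmallObjectArgument.{v} (reflGens T) := by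
  obtain ⟨κ, hκ', hκ⟩ := HasCardinalLT.exists_regular_cardinal.{v}
    (Σ a : ReflIdx T, Shrink.{v} (Subobject (reflSrc T a)))
  have : Fact κ.IsRegular := ⟨hκ'⟩
  have : Nonempty κ.ord.ToType := by simpa using hκ'.ne_zero
  have := WellFoundedLT.toOrderBot κ.ord.ToType
  exact ⟨κ, inferInstance, inferInstance,
    { preservesColimit {A' B X Y} i hi f hf := by
        let hf' : (monomorphisms (CochainComplex A ℤ)).TransfiniteCompositionOfShape
            κ.ord.ToType f :=
          { toTransfiniteCompositionOfShape := hf.toTransfiniteCompositionOfShape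
            map_mem j hj := by
              have := (hf.attachCells j hj).pushouts_coproducts
              simp only [ofHoms_homFamily] at this
              refine (?_ : _ ≤ monomorphisms (CochainComplex A ℤ)) _ this
              simp only [pushouts_le_iff, coproducts_le_iff]
              exact fun _ _ g hg => reflGens_le T g hg }
        have (j j' : κ.ord.ToType) (φ : j ⟶ j') : Mono (hf'.F.map φ) := hf'.mem_map φ
        apply IsGrothendieckAbelian.preservesColimit_coyoneda_obj_of_mono (Y := hf'.F) (κ := κ)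
        obtain ⟨a⟩ := hi
        exact hκ.of_injective (fun s => ⟨a, equivShrink _ s⟩)
          fun s t h => (equivShrink _).injective (eq_of_heq (Sigma.mk.inj_iff.1 h).2) }⟩

/-- The path fibrations of orthogonal injective complexes have the lifting property against the generators. -/
theorem rlp_pathSC (K : CochainComplex A ℤ) [K.IsKInjective] [∀ n, Injective (K.X n)] (hK : NullFrom T K) :
    (reflGens T).rlp (pathSC K).g := by
  rintro X Y _ ⟨idx⟩
  refine ⟨fun {a b} sq => ⟨⟨?_⟩⟩⟩
  suffices h : ∃ l : reflTgt T idx ⟶ (pathSC K).X₂, reflMap T idx ≫ l = a ∧ l ≫ (pathSC K).g = b from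
    ⟨h.choose, h.choose_spec.1, h.choose_spec.2⟩
  rcases idx with g | j
  · change kernel g.2.1 ⟶ _ at a
    change (∐ fun _ : Shrink.{v} (Subobject g.1.cx) => KInj.cxSep) ⟶ _ at b
    show ∃ l : (∐ fun _ : Shrink.{v} (Subobject g.1.cx) => KInj.cxSep) ⟶ (pathSC K).X₂,
      kernel.ι g.2.1 ≫ l = a ∧ l ≫ (pathSC K).g = b
    have hm := KInj.genMonos_le _ _ (MorphismProperty.ofHoms.mk
      (f := fun a : KInj.GenIdx (separator A) => kernel.ι a.2.1) g)
    haveI : Mono (kernel.ι g.2.1) := hm.1
    haveI : QuasiIso (kernel.ι g.2.1) := hm.2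
    have hse : (ShortComplex.mk (kernel.ι g.2.1) (cokernel.π _) (cokernel.condition _)).ShortExact :=
      { exact := ShortComplex.exact_cokernel _ }
    have hac := hse.acyclic_X₃ ‹_›
    obtain ⟨b', hb'⟩ := KInj.liftingProperty_of_isKInjective (pathSC K).X₂ hse hac a
    have hw : kernel.ι g.2.1 ≫ (b - b' ≫ (pathSC K).g) = 0 := by
      rw [Preadditive.comp_sub, ← Category.assoc, show kernel.ι g.2.1 ≫ b' = a from hb']
      exact sub_eq_zero.2 sq.w.symm
    haveI : (pathSC K).X₃.IsKInjective := inferInstanceAs ((K⟦(1 : ℤ)⟧).IsKInjective)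
    let c := hse.exact.desc (b - b' ≫ (pathSC K).g) hw
    obtain ⟨c', hc'⟩ := exists_lift_null c (IsKInjective.homotopyZero c hac)
    refine ⟨b' + cokernel.π (kernel.ι g.2.1) ≫ c', ?_, ?_⟩
    · show kernel.ι g.2.1 ≫ _ = a
      rw [Preadditive.comp_add, cokernel.condition_assoc, zero_comp, add_zero]
      exact hb'
    · rw [Preadditive.add_comp, Category.assoc, hc']
      exact (congrArg (b' ≫ (pathSC K).g + ·) (hse.exact.g_desc _ hw)).trans (add_sub_cancel _ _)
  · change (T j.1)⟦j.2⟧ ⟶ _ at a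
    change mappingCone (𝟙 ((T j.1)⟦j.2⟧)) ⟶ _ at b
    show ∃ l : mappingCone (𝟙 ((T j.1)⟦j.2⟧)) ⟶ (pathSC K).X₂,
      mappingCone.inr (𝟙 ((T j.1)⟦j.2⟧)) ≫ l = a ∧ l ≫ (pathSC K).g = b
    obtain ⟨b₀, hb₀⟩ := exists_lift_null b
      ((Homotopy.ofEq (Category.id_comp b).symm).trans (((coneIdHomotopy _).compRight b).trans (Homotopy.ofEq zero_comp)))
    let x : (T j.1)⟦j.2⟧ ⟶ (pathSC K).X₂ := a - mappingCone.inr (𝟙 ((T j.1)⟦j.2⟧)) ≫ b₀
    have hw : x ≫ (pathSC K).g = 0 := by
      rw [Preadditive.sub_comp, Category.assoc, hb₀]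
      exact sub_eq_zero.2 sq.w
    haveI := (shortExact_pathSC K).mono_f
    let d₀ := (shortExact_pathSC K).exact.lift x hw
    obtain ⟨h⟩ := hK j.1 j.2 d₀
    obtain ⟨d, hd⟩ := exists_extend_null d₀ h
    refine ⟨b₀ + d ≫ (pathSC K).f, ?_, ?_⟩
    · show mappingCone.inr (𝟙 ((T j.1)⟦j.2⟧)) ≫ _ = a
      rw [Preadditive.comp_add, ← Category.assoc, hd, (shortExact_pathSC K).exact.lift_f]
      exact add_sub_cancel _ _
    · rw [Preadditive.add_comp, Category.assoc, (pathSC K).zero, comp_zero, add_zero]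
      exact hb₀

/-- Orthogonal injective complexes have the lifting property against the generators. -/
theorem rlp_zero (Z : CochainComplex A ℤ) [Z.IsKInjective] [∀ n, Injective (Z.X n)] (hZ : NullFrom T Z) :
    (reflGens T).rlp (0 : Z ⟶ 0) := by
  rintro X Y _ ⟨idx⟩
  refine ⟨fun {a b} sq => ⟨⟨?_⟩⟩⟩
  suffices h : ∃ l : reflTgt T idx ⟶ Z, reflMap T idx ≫ l = a from
    ⟨h.choose, h.choose_spec, (isZero_zero _).eq_of_tgt _ _⟩
  rcases idx with g | j
  · have hm := KInj.genMonos_le _ _ (MorphismProperty.ofHoms.mk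
      (f := fun a : KInj.GenIdx (separator A) => kernel.ι a.2.1) g)
    haveI : Mono (kernel.ι g.2.1) := hm.1
    haveI : QuasiIso (kernel.ι g.2.1) := hm.2
    have hse : (ShortComplex.mk (kernel.ι g.2.1) (cokernel.π _) (cokernel.condition _)).ShortExact :=
      { exact := ShortComplex.exact_cokernel _ }
    exact KInj.liftingProperty_of_isKInjective Z hse (hse.acyclic_X₃ ‹_›) a
  · obtain ⟨h⟩ := hZ j.1 j.2 a
    exact exists_extend_null a h

/-- The reflection on complexes. -/
theorem exists_reflection_cx (M : CochainComplex A ℤ) :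
    ∃ (J : CochainComplex A ℤ) (i : M ⟶ J), J.IsKInjective ∧ (∀ n, Injective (J.X n)) ∧ NullFrom T J ∧
      (reflGens T).rlp.llp i := by
  let fac := MorphismProperty.factorizationData (reflGens T).rlp.llp (reflGens T).rlp (0 : M ⟶ 0)
  have hp : (reflGens T).rlp (0 : fac.Z ⟶ 0) := by
    have := fac.hp
    rwa [(isZero_zero (CochainComplex A ℤ)).eq_of_tgt fac.p 0] at this
  have hgen : (KInj.genMonos (separator A)).rlp (0 : fac.Z ⟶ 0) := by
    rintro X Y _ ⟨a⟩
    exact hp _ (MorphismProperty.ofHoms.mk (f := reflMap T) (Sum.inl a))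
  obtain ⟨h₁, h₂⟩ := KInj.isKInjective_and_injective_of_liftingProperty fac.Z
    fun S hS h φ => KInj.exists_lift_of_orth (KInj.orth_of_rlp hgen) hS h φ
  refine ⟨fac.Z, fac.i, h₁, h₂, fun a n f => ?_, fac.hi⟩
  have := hp _ (MorphismProperty.ofHoms.mk (f := reflMap T) (Sum.inr (a, n)))
  have sq : CommSq f (reflMap T (Sum.inr (a, n))) (0 : fac.Z ⟶ 0) 0 := ⟨by simp⟩
  have hl : mappingCone.inr (𝟙 ((T a)⟦n⟧)) ≫ sq.lift = f := sq.fac_left
  exact ⟨(Homotopy.ofEq hl.symm).trans (homotopyOfFactor _ _)⟩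

/-! ### Passage to the derived category -/

end Grothendieck

theorem Q_map_eq_zero_iff {X Z : CochainComplex A ℤ} [Z.IsKInjective] (f : X ⟶ Z) :
    DerivedCategory.Q.map f = 0 ↔ Nonempty (Homotopy f 0) := by
  rw [← HomotopyCategory.quotient_map_eq_zero_iff,
    ← (CochainComplex.IsKInjective.Qh_map_bijective ((HomotopyCategory.quotient _ _).obj X) Z).injective.eq_iff,
    Functor.map_zero]
  have hn := (DerivedCategory.quotientCompQhIso A).hom.naturality f
  constructor <;> intro h
  · rw [← cancel_mono ((DerivedCategory.quotientCompQhIso A).hom.app Z), zero_comp]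
    exact hn.trans (by rw [h, comp_zero])
  · rw [← cancel_epi ((DerivedCategory.quotientCompQhIso A).hom.app X), comp_zero]
    refine hn.symm.trans ?_
    show DerivedCategory.Qh.map ((HomotopyCategory.quotient _ _).map f) ≫ _ = 0
    rw [h, zero_comp]

theorem Q_map_surjective (X Z : CochainComplex A ℤ) [Z.IsKInjective] :
    Function.Surjective
      (DerivedCategory.Q.map : (X ⟶ Z) → (DerivedCategory.Q.obj X ⟶ DerivedCategory.Q.obj Z)) := fun g => by
  let e := DerivedCategory.quotientCompQhIso A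
  obtain ⟨h, hh⟩ := (CochainComplex.IsKInjective.Qh_map_bijective ((HomotopyCategory.quotient _ _).obj X) Z).2
    (e.hom.app X ≫ g ≫ e.inv.app Z)
  obtain ⟨f, rfl⟩ := (HomotopyCategory.quotient A (ComplexShape.up ℤ)).map_surjective h
  refine ⟨f, ?_⟩
  refine (cancel_epi (e.hom.app X)).1 ((e.hom.naturality f).symm.trans ?_)
  rw [Functor.comp_map]
  rw [hh, Category.assoc, Category.assoc, Iso.inv_hom_id_app]
  exact congrArg (e.hom.app X ≫ ·) (Category.comp_id g)

/-- The right orthogonal of the `T a` and their shifts. -/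
def RightOrth : ObjectProperty (DerivedCategory A) := fun Y =>
  ∀ (a : ι) (n : ℤ), Subsingleton (DerivedCategory.Q.obj (T a) ⟶ Y⟦n⟧)

theorem rightOrth_of_iso {Y Y' : DerivedCategory A} (e : Y ≅ Y') (h : RightOrth T Y) : RightOrth T Y' :=
  fun a n => (((CategoryTheory.shiftFunctor (DerivedCategory A) n).mapIso e).homToEquiv (Z := DerivedCategory.Q.obj (T a))).symm.subsingleton_congr.2
    (h a n)

theorem rightOrth_shift {Y : DerivedCategory A} (h : RightOrth T Y) (m : ℤ) : RightOrth T (Y⟦m⟧) :=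
  fun a n => (((shiftFunctorAdd (DerivedCategory A) m n).app Y).homToEquiv
    (Z := DerivedCategory.Q.obj (T a))).subsingleton_congr.1 (h a (m + n))

theorem nullFrom_of_rightOrth (Z : CochainComplex A ℤ) [Z.IsKInjective]
    (h : RightOrth T (DerivedCategory.Q.obj Z)) : NullFrom T Z := fun a n f => by
  rw [← Q_map_eq_zero_iff]
  let e := (DerivedCategory.Q.commShiftIso n).app (T a)
  haveI := h a (-n)
  rw [← cancel_epi e.inv, comp_zero]
  apply (CategoryTheory.shiftFunctor (DerivedCategory A) (-n)).map_injective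
  rw [Functor.map_zero, ← cancel_epi (shiftShiftNeg (DerivedCategory.Q.obj (T a)) n).inv, comp_zero]
  exact Subsingleton.elim _ _

theorem rightOrth_of_nullFrom (Z : CochainComplex A ℤ) [Z.IsKInjective] (h : NullFrom T Z) :
    RightOrth T (DerivedCategory.Q.obj Z) := fun a m => by
  refine subsingleton_of_forall_eq 0 fun g => ?_
  apply (CategoryTheory.shiftFunctor (DerivedCategory A) (-m)).map_injective
  rw [Functor.map_zero]
  rw [← cancel_mono (shiftShiftNeg (DerivedCategory.Q.obj Z) m).hom,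
    ← cancel_epi ((DerivedCategory.Q.commShiftIso (-m)).app (T a)).hom, zero_comp, comp_zero]
  obtain ⟨f, hf⟩ := Q_map_surjective ((T a)⟦-m⟧) Z (((DerivedCategory.Q.commShiftIso (-m)).app (T a)).hom ≫
    g⟦-m⟧' ≫ (shiftShiftNeg (DerivedCategory.Q.obj Z) m).hom)
  rw [← hf]
  exact (Q_map_eq_zero_iff f).2 (h a _ f)

variable [IsGrothendieckAbelian.{v} A]

/-- Every object has a reflection onto the right orthogonal. -/
theorem exists_reflection (M : DerivedCategory A) :
    ∃ (L : DerivedCategory A) (g : M ⟶ L), RightOrth T L ∧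
      ∀ Y, RightOrth T Y → Function.Bijective fun k : L ⟶ Y => g ≫ k := by
  let M₀ := DerivedCategory.Q.objPreimage M
  let eM : DerivedCategory.Q.obj M₀ ≅ M := DerivedCategory.Q.objObjPreimageIso M
  obtain ⟨J, i, hJ, hJinj, hJnull, hi⟩ := exists_reflection_cx T M₀
  haveI := hJ
  refine ⟨DerivedCategory.Q.obj J, eM.inv ≫ DerivedCategory.Q.map i, rightOrth_of_nullFrom T J hJnull,
    fun Y hY => ?_⟩
  let Y₀ := DerivedCategory.Q.objPreimage Y
  obtain ⟨Z, φ, hZ, hφ, -, hZinj⟩ := KInj.exists_isKInjective_resolution Y₀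
  haveI := hZ
  haveI := hφ
  haveI : IsIso (DerivedCategory.Q.map φ) := (DerivedCategory.isIso_Q_map_iff_quasiIso _ _).2 hφ
  let K := Z⟦(-1 : ℤ)⟧
  haveI : K.IsKInjective := inferInstanceAs ((Z⟦(-1 : ℤ)⟧).IsKInjective)
  haveI : ∀ n, Injective (K.X n) := fun n => hZinj (n + -1)
  haveI : ∀ n, Injective ((K⟦(1 : ℤ)⟧).X n) := fun n => hZinj (n + 1 + -1)
  let eY : DerivedCategory.Q.obj (K⟦(1 : ℤ)⟧) ≅ Y :=
    DerivedCategory.Q.mapIso (shiftNegShift Z 1) ≪≫ (asIso (DerivedCategory.Q.map φ)).symm ≪≫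
      DerivedCategory.Q.objObjPreimageIso Y
  have hYZ : RightOrth T (DerivedCategory.Q.obj (K⟦(1 : ℤ)⟧)) := rightOrth_of_iso T eY.symm hY
  have hK : NullFrom T K := by
    refine nullFrom_of_rightOrth T K (rightOrth_of_iso T ?_ (rightOrth_shift T hYZ (-1)))
    exact ((DerivedCategory.Q.commShiftIso (-1 : ℤ)).app _).symm ≪≫
      DerivedCategory.Q.mapIso (shiftShiftNeg K (1 : ℤ))
  have hK1 : NullFrom T (K⟦(1 : ℤ)⟧) := nullFrom_of_rightOrth T _ hYZ
  haveI : HasLiftingProperty i (0 : K⟦(1 : ℤ)⟧ ⟶ 0) := hi _ (rlp_zero T _ hK1)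
  haveI : HasLiftingProperty i (pathSC K).g := hi _ (rlp_pathSC T K hK)
  have key : Function.Bijective fun k : DerivedCategory.Q.obj J ⟶ DerivedCategory.Q.obj (K⟦(1 : ℤ)⟧) =>
      DerivedCategory.Q.map i ≫ k := by
    constructor
    · intro k₁ k₂ hk
      dsimp at hk
      rw [← sub_eq_zero] at hk ⊢
      rw [← Preadditive.comp_sub] at hk
      obtain ⟨ψ, hψ⟩ := Q_map_surjective J (K⟦(1 : ℤ)⟧) (k₁ - k₂)
      rw [← hψ, ← Functor.map_comp, Q_map_eq_zero_iff] at hk
      obtain ⟨h⟩ := hk
      obtain ⟨l, hl⟩ := exists_lift_null (K := K) (i ≫ ψ) h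
      have sq : CommSq l i (pathSC K).g ψ := ⟨hl⟩
      rw [← hψ, Q_map_eq_zero_iff]
      exact ⟨(Homotopy.ofEq sq.fac_right.symm).trans (homotopyOfFactor sq.lift (pathSC K).g)⟩
    · intro k
      obtain ⟨φ₀, rfl⟩ := Q_map_surjective M₀ (K⟦(1 : ℤ)⟧) k
      have sq : CommSq φ₀ i (0 : K⟦(1 : ℤ)⟧ ⟶ 0) 0 := ⟨by simp⟩
      exact ⟨DerivedCategory.Q.map sq.lift,
        (Functor.map_comp _ _ _).symm.trans (congrArg DerivedCategory.Q.map sq.fac_left)⟩
  constructor
  · intro k₁ k₂ hk
    simp only [Category.assoc, cancel_epi eM.inv] at hk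
    rw [← cancel_mono eY.inv]
    exact key.1 (by simp only [← Category.assoc, hk])
  · intro k
    obtain ⟨x, hx⟩ := key.2 (eM.hom ≫ k ≫ eY.inv)
    exact ⟨x ≫ eY.hom, by simp [reassoc_of% hx]⟩

/-- The inclusion of the right orthogonal of a small set has a left adjoint. -/
theorem isRightAdjoint_rightOrth (P : ObjectProperty (DerivedCategory A)) (hP : ∀ Y, P Y ↔ RightOrth T Y) :
    P.ι.IsRightAdjoint := by
  choose L g hL hg using exists_reflection T
  let e : ∀ (M : DerivedCategory A) (Y : P.FullSubcategory),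
      ((⟨L M, (hP _).2 (hL M)⟩ : P.FullSubcategory) ⟶ Y) ≃ (M ⟶ P.ι.obj Y) := fun M Y =>
    P.fullyFaithfulι.homEquiv.trans (Equiv.ofBijective _ (hg M Y.obj ((hP _).1 Y.property)))
  exact ⟨_, ⟨Adjunction.adjunctionOfEquivLeft e fun M Y Y' h k => (Category.assoc (g M) k.hom h.hom).symm⟩⟩

end Groth.Agent.DerCompLib
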