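import Groth.Agent.DerCompLib.FlatSlice
import Groth.Agent.DerCompLib.Universal
import Groth.Agent.S13483

/-!
# Derived complete objects and flat maps which do not change the quotient
-/

set_option autoImplicit false
set_option linter.style.haveILetI false
set_option linter.unusedSectionVars false
set_option backward.isDefEq.respectTransparency false
set_option backward.isDefEq.respectTransparency.types false
set_option maxRecDepth 2000

universe u

open CategoryTheory CategoryTheory.Limits CategoryTheory.Pretriangulated Opposite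
open scoped ZeroObject

attribute [local instance] HasDerivedCategory.standard

noncomputable section

namespace Groth.Agent.DerCompLib

open Groth.Agent.ModTensor Groth.Agent.PullFlat

variable {C : Type u} [SmallCategory C] {J : GrothendieckTopology C} {O O' : Sheaf J CommRingCat.{u}}
  {φ : O ⟶ O'}

/-- The comparison for complexes over an object. -/
theorem exists_unitCx_restr [(resF φ).Additive] [(rmorOfHom φ).pull.Additive] (V : C)
    [(resF (φV φ V)).Additive] [(pullX (rmorOfHom φ) V).Additive] (K : CochainComplex (ModSite.Mod O) ℤ) :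
    ∃ κ, IsIso κ ∧ (show ((ModSite.restr O V).mapHomologicalComplex (ComplexShape.up ℤ)).obj K ⟶
        ((resF (φV φ V)).mapHomologicalComplex (ComplexShape.up ℤ)).obj
          (((ModSite.restr O' V).mapHomologicalComplex (ComplexShape.up ℤ)).obj
            (((rmorOfHom φ).pull.mapHomologicalComplex (ComplexShape.up ℤ)).obj K)) from
        ((ModSite.restr O V).mapHomologicalComplex (ComplexShape.up ℤ)).map ((unitCx (rmorAdj φ)).app K)) =
      (unitCx (adjV φ V)).app (((ModSite.restr O V).mapHomologicalComplex (ComplexShape.up ℤ)).obj K) ≫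
        ((resF (φV φ V)).mapHomologicalComplex (ComplexShape.up ℤ)).map κ := by
  let g : ((ModSite.restr O V).mapHomologicalComplex (ComplexShape.up ℤ)).obj K ⟶
      ((resF (φV φ V)).mapHomologicalComplex (ComplexShape.up ℤ)).obj
        (((ModSite.restr O' V).mapHomologicalComplex (ComplexShape.up ℤ)).obj
          (((rmorOfHom φ).pull.mapHomologicalComplex (ComplexShape.up ℤ)).obj K)) :=
    ((ModSite.restr O V).mapHomologicalComplex (ComplexShape.up ℤ)).map ((unitCx (rmorAdj φ)).app K)
  let κ := ((adjCx (adjV φ V)).homEquiv _ _).symm g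
  have hg : (unitCx (adjV φ V)).app _ ≫ ((resF (φV φ V)).mapHomologicalComplex (ComplexShape.up ℤ)).map κ = g :=
    ((adjCx (adjV φ V)).homEquiv_unit _ _ κ).symm.trans (Equiv.apply_symm_apply _ _)
  haveI : ∀ n, IsIso (κ.f n) := fun n => by
    have h1 : (adjC (Over.post (X := V) (rmorOfHom φ).fn) (σX (rmorOfHom φ) V)).unit.app (overMod (K.X n) V) ≫
        (pushV (rmorOfHom φ) V).map (overCmp (rmorOfHom φ) V (K.X n)) = overUnit (rmorOfHom φ) V (K.X n) :=
      (Adjunction.homEquiv_unit _ _ _ _).symm.trans (Equiv.apply_symm_apply _ _)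
    have h2 : κ.f n = overCmp (rmorOfHom φ) V (K.X n) := by
      refine ((adjV φ V).homEquiv _ _).injective ?_
      rw [(adjV φ V).homEquiv_unit, (adjV φ V).homEquiv_unit]
      refine (congrArg (fun t => HomologicalComplex.Hom.f t n) hg).trans ?_
      ext X x
      exact congr(($h1.symm).val.app X x)
    rw [h2]
    exact isIso_overCmp (rmorOfHom φ) V (K.X n)
  exact ⟨κ, HomologicalComplex.Hom.isIso_of_components κ, hg.symm⟩

/-- Generators on an object give an isomorphism modulo them. -/
theorem quotIso_genList {I : DerComp.IdealSh O} {I' : DerComp.IdealSh O'} (hI' : DerComp.IsIdealExt φ I I')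
    (hinj : ∀ (U : C) (f : O.obj.obj (op U)), (φ.hom.app (op U)).hom f ∈ I'.ideal U → f ∈ I.ideal U)
    (hsurj : ∀ (U : C) (f' : O'.obj.obj (op U)), ∃ S ∈ J U, ∀ ⦃V : C⦄ (g : V ⟶ U), S g →
      ∃ a : O.obj.obj (op V), (O'.obj.map g.op).hom f' - (φ.hom.app (op V)).hom a ∈ I'.ideal V)
    {V : C} {r : ℕ} (a : Fin r → O.obj.obj (op V))
    (ha : (I.over V).IsGenBy fun i => DerComp.GSec.ofSect O V (a i)) :
    QuotIso (φV φ V) (genList V a) := by
  have hgen' := isGenBy_over_ext (rmorOfHom φ) V I I' hI' a ha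
  have himg : ∀ W : Over V, spanFam (genList (O := O') V fun i => (φ.hom.app (op V)).hom (a i)) W ≤
      imgSpan (φV φ V) (genList V a) W := fun W => by
    refine Ideal.span_le.2 ?_
    rintro _ ⟨s, hs, rfl⟩
    obtain ⟨i, rfl⟩ := List.mem_ofFn.1 hs
    show ores O' W.hom.op (φAt φ V (a i)) ∈ imgSpan (φV φ V) (genList V a) W
    rw [ores_φAt]
    exact Ideal.mem_map_of_mem _ (Ideal.subset_span ⟨_, List.mem_ofFn.2 ⟨i, rfl⟩, rfl⟩)
  refine ⟨fun W c => ?_, fun W f hf => ?_⟩
  · obtain ⟨S, hS, hS'⟩ := hsurj W.left c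
    refine Loc.bind (J := J.over V)
      ⟨(Sieve.overEquiv W).symm S, J.overEquiv_symm_mem_over W S hS, fun W' g hg => hS' g.left hg⟩ fun W' g hg => ?_
    obtain ⟨b, hb⟩ := hg
    refine loc_mono (locGen (O := O'.over V) _ _ (fun i => List.mem_ofFn.2 ⟨i, rfl⟩) hgen' W' _ hb) fun W'' k hk => ?_
    refine ⟨ores O k.left.op b, ?_⟩
    have h1 : ores O' (k ≫ g).left.op c - φAt φ W''.left (ores O k.left.op b) =
        ores O' k.left.op (ores O' g.left.op c - φAt φ W'.left b) := by
      rw [map_sub, ores_φAt, show (k ≫ g).left.op = g.left.op ≫ k.left.op from rfl, ores_comp]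
    show ores O' (k ≫ g).left.op c - φAt φ W''.left (ores O k.left.op b) ∈ imgSpan (φV φ V) (genList V a) W''
    rw [h1]
    exact himg W'' hk
  · refine locGen (O := O.over V) _ _ (fun i => List.mem_ofFn.2 ⟨i, rfl⟩) ha W f (hinj W.left f ?_)
    refine (Ideal.map_le_iff_le_comap.2 ?_ : imgSpan (φV φ V) (genList V a) W ≤ (I'.over V).ideal W) hf
    refine Ideal.span_le.2 ?_
    rintro _ ⟨s, hs, rfl⟩
    obtain ⟨i, rfl⟩ := List.mem_ofFn.1 hs
    exact hI'.1 W.left _ (ha.1 i W)

theorem bijective_of_iso {T : Type*} [Category T] {Y X X' Z Z' : T} (g : X ⟶ Z) (g' : X' ⟶ Z') (i : X ≅ X')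
    (j : Z ≅ Z') (h : i.hom ≫ g' = g ≫ j.hom) (hb : Function.Bijective fun u : Y ⟶ X' => u ≫ g') :
    Function.Bijective fun u : Y ⟶ X => u ≫ g := by
  have e : (fun u : Y ⟶ X => u ≫ g) = (fun u : Y ⟶ Z' => u ≫ j.inv) ∘ (fun u : Y ⟶ X' => u ≫ g') ∘ fun u => u ≫ i.hom := by
    funext u
    simp only [Function.comp_apply, Category.assoc]
    rw [reassoc_of% h, Iso.hom_inv_id, Category.comp_id]
  rw [e]
  exact j.symm.homToEquiv.bijective.comp (hb.comp i.homToEquiv.bijective)

theorem LeftOrth.of_iso {I : DerComp.IdealSh O} {X X' : DerivedCategory (ModSite.Mod O)} (h : LeftOrth O I X)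
    (e : X ≅ X') : LeftOrth O I X' := fun Z hZ u =>
  (cancel_epi e.hom).1 ((h Z hZ _).trans comp_zero.symm)

section Orth

variable {I : DerComp.IdealSh O} {X Y N : DerivedCategory (ModSite.Mod O)}

/-- A map with left orthogonal fibre does not change maps to complete objects. -/
theorem bijective_of_leftOrth_fibre {a : N ⟶ X} {g : X ⟶ Y} {d : Y ⟶ N⟦(1 : ℤ)⟧}
    (hT : Triangle.mk a g d ∈ distTriang (DerivedCategory (ModSite.Mod O))) (hN : LeftOrth O I N)
    (Z : DerivedCategory (ModSite.Mod O)) (hZ : DerComp.IsDerComp O I Z) :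
    Function.Bijective fun v : Y ⟶ Z => g ≫ v := by
  refine ⟨(injective_iff_map_eq_zero (Preadditive.leftComp Z g)).2 fun v hv => ?_, fun u => ?_⟩
  · obtain ⟨w, hw⟩ := Triangle.yoneda_exact₃ _ hT v hv
    rw [hw, hN.shift 1 Z hZ w]
    exact comp_zero
  · obtain ⟨w, hw⟩ := Triangle.yoneda_exact₂ _ hT u (hN Z hZ _)
    exact ⟨w, hw.symm⟩

/-- A map with left orthogonal cone does not change maps to complete objects. -/
theorem bijective_of_leftOrth_cone {g : X ⟶ Y} {p : Y ⟶ N} {d : N ⟶ X⟦(1 : ℤ)⟧}
    (hT : Triangle.mk g p d ∈ distTriang (DerivedCategory (ModSite.Mod O))) (hN : LeftOrth O I N)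
    (Z : DerivedCategory (ModSite.Mod O)) (hZ : DerComp.IsDerComp O I Z) :
    Function.Bijective fun v : Y ⟶ Z => g ≫ v :=
  bijective_of_leftOrth_fibre (inv_rot_of_distTriang _ hT) (hN.shift (-1)) Z hZ

end Orth

theorem isIso_of_bijective_comp {T : Type*} [Category T] (p : ObjectProperty T) {X Y : T} (hX : p X) (hY : p Y)
    (g : X ⟶ Y) (hb : ∀ Z, p Z → Function.Bijective fun v : Y ⟶ Z => g ≫ v) : IsIso g := by
  obtain ⟨k, hk⟩ := (hb X hX).2 (𝟙 X)
  refine ⟨k, hk, (hb Y hY).1 ?_⟩
  show g ≫ k ≫ g = g ≫ 𝟙 Y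
  rw [← Category.assoc, show g ≫ k = 𝟙 X from hk, Category.id_comp, Category.comp_id]

variable (φ)

theorem additive_of_adj {P : ModSite.Mod O ⥤ ModSite.Mod O'} (adj : P ⊣ resF φ) :
    P.Additive ∧ (resF φ).Additive := by
  haveI := adj.rightAdjoint_preservesLimits
  haveI : (resF φ).Additive := Functor.additive_of_preserves_binary_products _
  exact ⟨adj.left_adjoint_additive, inferInstance⟩

instance faithful_resF : (resF φ).Faithful where
  map_injective {X Y} f g h := by
    ext U x
    exact congr(($h).val.app U x)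

instance additive_resF : (resF φ).Additive := (additive_of_adj φ (rmorAdj φ)).2

instance additive_pull_rmorOfHom : (rmorOfHom φ).pull.Additive := (additive_of_adj φ (rmorAdj φ)).1

instance additive_pullX_rmorOfHom (V : C) : (pullX (rmorOfHom φ) V).Additive :=
  (additive_of_adj (φV φ V) (adjV φ V)).1

variable [PreservesFiniteLimits (resF φ)] [PreservesFiniteColimits (resF φ)]
  [PreservesFiniteLimits (rmorOfHom φ).pull] [PreservesFiniteColimits (rmorOfHom φ).pull]

variable {φ} {I : DerComp.IdealSh O} {I' : DerComp.IdealSh O'}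

/-- Restriction of scalars is a derived direct image. -/
theorem LeftOrth.resF_obj (hI : I.IsFiniteType) (hI' : DerComp.IsIdealExt φ I I') [DerComp.HasDerCompletion O I]
    {X : DerivedCategory (ModSite.Mod O')} (hX : LeftOrth O' I' X) :
    LeftOrth O I ((resF φ).mapDerivedCategory.obj X) := by
  let f := rmorOfHom φ
  let e : f.push ≅ resF φ := NatIso.ofComponents (fun M => Iso.refl _) (fun g => by ext X x; rfl)
  haveI : PreservesFiniteLimits f.push := preservesFiniteLimits_of_natIso e.symm
  haveI : PreservesFiniteColimits f.push := preservesFiniteColimits_of_natIso e.symm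
  let W := HomotopyCategory.quasiIso (ModSite.Mod O') (ComplexShape.up ℤ)
  let eh : (resF φ).mapHomotopyCategory (ComplexShape.up ℤ) ≅ f.push.mapHomotopyCategory (ComplexShape.up ℤ) :=
    NatIso.ofComponents (fun K => Iso.refl _) fun {K L} g => by
      obtain ⟨g, rfl⟩ := (HomotopyCategory.quotient (ModSite.Mod O') (ComplexShape.up ℤ)).map_surjective g
      rw [Iso.refl_hom, Iso.refl_hom, Category.comp_id, Category.id_comp]
      rfl
  let α : DerivedCategory.Qh ⋙ (resF φ).mapDerivedCategory ≅ SiteCmp.pushKh f :=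
    (resF φ).mapDerivedCategoryFactorsh ≪≫ Functor.isoWhiskerRight eh DerivedCategory.Qh
  haveI h1 : ((resF φ).mapDerivedCategory).IsRightDerivedFunctor α.inv W :=
    Functor.isRightDerivedFunctor_of_inverts W _ α
  haveI : SiteCmp.HasRpushD f := Functor.HasRightDerivedFunctor.mk' (resF φ).mapDerivedCategory α.inv
  let i := Functor.rightDerivedUnique ((resF φ).mapDerivedCategory) (SiteCmp.RpushD f) α.inv
    (SiteCmpLib.rpushUnit f) W
  exact (hX.rpushD f I hI I' hI').of_iso (i.app X).symm

/-- Restriction of scalars reflects zero objects. -/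
theorem isZero_of_isZero_resF (X : DerivedCategory (ModSite.Mod O'))
    (h : IsZero ((resF φ).mapDerivedCategory.obj X)) : IsZero X := by
  let K := DerivedCategory.Q.objPreimage X
  let e : DerivedCategory.Q.obj K ≅ X := DerivedCategory.Q.objObjPreimageIso X
  refine IsZero.of_iso ?_ e.symm
  let GK := ((resF φ).mapHomologicalComplex (ComplexShape.up ℤ)).obj K
  have h1 : IsZero (DerivedCategory.Q.obj GK) :=
    h.of_iso (((resF φ).mapDerivedCategoryFactors.app K).symm ≪≫ (resF φ).mapDerivedCategory.mapIso e)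
  have h2 : ∀ n, IsZero (K.homology n) := fun n => by
    have h3 : IsZero (GK.homology n) :=
      ((DerivedCategory.homologyFunctor _ n).map_isZero h1).of_iso
        ((DerivedCategory.homologyFunctorFactors _ n).app GK).symm
    have h4 : IsZero ((resF φ).obj (K.homology n)) := h3.of_iso ((K.sc n).mapHomologyIso (resF φ)).symm
    rw [IsZero.iff_id_eq_zero]
    refine (resF φ).map_injective ?_
    exact h4.eq_of_src _ _
  haveI : QuasiIso (0 : (0 : CochainComplex (ModSite.Mod O') ℤ) ⟶ K) := ⟨fun n => by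
    rw [quasiIsoAt_iff_isIso_homologyMap]
    exact ⟨0, ((HomologicalComplex.homologyFunctor _ _ n).map_isZero (isZero_zero _)).eq_of_src _ _,
      (h2 n).eq_of_src _ _⟩⟩
  exact ((DerivedCategory.Q (C := ModSite.Mod O')).map_isZero (isZero_zero _)).of_iso
    (asIso (DerivedCategory.Q.map (0 : (0 : CochainComplex (ModSite.Mod O') ℤ) ⟶ K))).symm

variable (hI : I.IsFiniteType) (hI' : DerComp.IsIdealExt φ I I')
  (hflat : ModSite.IsFlat (algMod φ))
  (hinj : ∀ (U : C) (f : O.obj.obj (op U)), (φ.hom.app (op U)).hom f ∈ I'.ideal U → f ∈ I.ideal U)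
  (hsurj : ∀ (U : C) (f' : O'.obj.obj (op U)), ∃ S ∈ J U, ∀ ⦃V : C⦄ (g : V ⟶ U), S g →
    ∃ a : O.obj.obj (op V), (O'.obj.map g.op).hom f' - (φ.hom.app (op V)).hom a ∈ I'.ideal V)

include hI hI' hflat hinj hsurj

/-- The cone of the derived unit is left orthogonal. -/
theorem leftOrth_cone_unit (X : DerivedCategory (ModSite.Mod O)) {N : DerivedCategory (ModSite.Mod O)}
    {p : (resF φ).mapDerivedCategory.obj ((rmorOfHom φ).pull.mapDerivedCategory.obj X) ⟶ N}
    {d : N ⟶ X⟦(1 : ℤ)⟧}
    (hT : Triangle.mk ((derAdj (rmorAdj φ)).unit.app X) p d ∈ distTriang (DerivedCategory (ModSite.Mod O))) :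
    LeftOrth O I N := by
  haveI := S13483.result O I hI
  refine leftOrth_of_local O {V : C | ∃ (r : ℕ) (a : Fin r → O.obj.obj (op V)),
      (I.over V).IsGenBy fun i => DerComp.GSec.ofSect O V (a i)} hI _ fun V hV => ?_
  obtain ⟨r, a, ha⟩ := hV
  refine ⟨r, a, ha, lOrth_of_bijective ((restrD O V).map_distinguished _ hT) fun Y hY => ?_⟩
  haveI := preservesFiniteLimits_resF (φV φ V)
  haveI := preservesFiniteColimits_resF (φV φ V)
  haveI := preservesFiniteLimits_of_leftAdjoint (φV φ V) (adjV φ V) (isFlat_algMod_φV φ V hflat)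
  haveI : PreservesFiniteColimits (pullX (rmorOfHom φ) V) := by
    haveI := (adjV φ V).leftAdjoint_preservesColimits
    infer_instance
  let K := DerivedCategory.Q.objPreimage X
  let e : DerivedCategory.Q.obj K ≅ X := DerivedCategory.Q.objObjPreimageIso X
  let R := (ModSite.restr O V)
  let η := (derAdj (rmorAdj φ)).unit
  let F := (rmorOfHom φ).pull.mapDerivedCategory ⋙ (resF φ).mapDerivedCategory
  haveI := additive_pullX_rmorOfHom φ V
  obtain ⟨κ, hκ, hfac⟩ := exists_unitCx_restr (φ := φ) V K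
  have hb : Function.Bijective fun u : Y ⟶ DerivedCategory.Q.obj ((R.mapHomologicalComplex (ComplexShape.up ℤ)).obj K) =>
      u ≫ DerivedCategory.Q.map ((R.mapHomologicalComplex (ComplexShape.up ℤ)).map ((unitCx (rmorAdj φ)).app K)) := by
    have h1 := (quotIso_genList hI' hinj hsurj a ha).bijective_unitCx (adjV φ V)
      ((R.mapHomologicalComplex (ComplexShape.up ℤ)).obj K) Y hY
    refine bijective_of_iso _ _ (Iso.refl _)
      (asIso (DerivedCategory.Q.map (((resF (φV φ V)).mapHomologicalComplex (ComplexShape.up ℤ)).map κ))).symm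
      ?_ h1
    rw [Iso.refl_hom, Category.id_comp, Iso.symm_hom, asIso_inv, IsIso.eq_comp_inv, ← Functor.map_comp]
    exact congrArg DerivedCategory.Q.map hfac.symm
  refine bijective_of_iso ((restrD O V).map (η.app X)) _
    ((restrD O V).mapIso e.symm ≪≫ R.mapDerivedCategoryFactors.app K)
    ((restrD O V).mapIso (F.mapIso e.symm ≪≫ (derAdjIso (F := (rmorOfHom φ).pull) (G := resF φ) K).symm) ≪≫
      R.mapDerivedCategoryFactors.app _) ?_ hb
  show ((restrD O V).map e.inv ≫ R.mapDerivedCategoryFactors.hom.app K) ≫ _ =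
    (restrD O V).map (η.app X) ≫ (restrD O V).map (F.map e.inv ≫ _) ≫ _
  rw [Category.assoc, ← Functor.mapDerivedCategoryFactors_hom_naturality, ← Functor.map_comp_assoc,
    ← Functor.map_comp_assoc]
  congr 2
  have h2 : η.app X ≫ F.map e.inv = e.inv ≫ η.app (DerivedCategory.Q.obj K) := (η.naturality e.inv).symm
  rw [← Category.assoc, h2, Category.assoc]
  congr 1
  rw [derAdj_unit_app]
  exact ((Category.assoc _ _ _).trans ((congrArg (_ ≫ ·) (Iso.hom_inv_id _)).trans (Category.comp_id _))).symm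

theorem isFiniteType_ext : I'.IsFiniteType := fun U => by
  obtain ⟨S, hS, h⟩ := hI U
  refine ⟨S, hS, fun V g hg => ?_⟩
  obtain ⟨r, a, ha⟩ := h g hg
  exact ⟨r, _, isGenBy_over_ext (rmorOfHom φ) V I I' hI' a ha⟩

/-- The fibre of the derived counit is left orthogonal. -/
theorem leftOrth_fibre_counit (X : DerivedCategory (ModSite.Mod O')) {N : DerivedCategory (ModSite.Mod O')}
    {b : N ⟶ (rmorOfHom φ).pull.mapDerivedCategory.obj ((resF φ).mapDerivedCategory.obj X)}
    {d : X ⟶ N⟦(1 : ℤ)⟧}
    (hT : Triangle.mk b ((derAdj (rmorAdj φ)).counit.app X) d ∈ distTriang (DerivedCategory (ModSite.Mod O'))) :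
    LeftOrth O' I' N := by
  haveI := S13483.result O I hI
  haveI := S13483.result O' I' (isFiniteType_ext hI hI' hflat hinj hsurj)
  let R := (resF φ).mapDerivedCategory
  let adj := derAdj (rmorAdj φ)
  obtain ⟨N', p, d', hT'⟩ := distinguished_cocone_triangle (adj.unit.app (R.obj X))
  have hN' := leftOrth_cone_unit hI hI' hflat hinj hsurj (R.obj X) hT'
  have hR := R.map_distinguished _ hT
  have hη : adj.unit.app (R.obj X) ≫ R.map (adj.counit.app X) = 𝟙 _ := adj.right_triangle_components X
  have hRN : LeftOrth O I (R.obj N) := fun Z hZ u => by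
    obtain ⟨v, hv⟩ := Triangle.yoneda_exact₂ _ (inv_rot_of_distTriang _ hR) u (by
      have h0 : R.map d ≫ (R.commShiftIso (1 : ℤ)).hom.app N = 0 := by
        refine (Category.id_comp _).symm.trans ?_
        refine (congrArg (· ≫ _) hη.symm).trans ?_
        refine (Category.assoc _ _ _).trans ?_
        have h23 : R.map (adj.counit.app X) ≫ R.map d ≫ (R.commShiftIso (1 : ℤ)).hom.app N = 0 :=
          comp_distTriang_mor_zero₂₃ _ hR
        exact (congrArg (_ ≫ ·) h23).trans comp_zero
      have hm : (R.mapTriangle.obj (Triangle.mk b (adj.counit.app X) d)).invRotate.mor₁ = 0 := by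
        show -((R.map d ≫ (R.commShiftIso (1 : ℤ)).hom.app N)⟦(-1 : ℤ)⟧') ≫ _ = 0
        have key : ∀ {A B D : DerivedCategory (ModSite.Mod O)} (f : A ⟶ B) (g : B ⟶ D), f = 0 → -(f ≫ g) = 0 := by
          rintro A B D f g rfl
          rw [zero_comp, neg_zero]
        exact key ((R.map d ≫ (R.commShiftIso (1 : ℤ)).hom.app N)⟦(-1 : ℤ)⟧') ((shiftEquiv (DerivedCategory (ModSite.Mod O)) (1 : ℤ)).unitIso.inv.app (R.obj N)) (by rw [h0, Functor.map_zero])
      exact (congrArg (· ≫ u) hm).trans zero_comp)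
    have h12 : R.map b ≫ R.map (adj.counit.app X) = 0 := by
      rw [← Functor.map_comp, show b ≫ adj.counit.app X = 0 from comp_distTriang_mor_zero₁₂ _ hT, Functor.map_zero]
    have hv' : v = R.map (adj.counit.app X) ≫ adj.unit.app (R.obj X) ≫ v := by
      refine (bijective_of_leftOrth_cone hT' hN' Z hZ).1 ?_
      show adj.unit.app (R.obj X) ≫ v = adj.unit.app (R.obj X) ≫ _
      rw [← Category.assoc, hη]
      exact (Category.id_comp _).symm
    refine hv.trans ?_
    show R.map b ≫ v = 0
    rw [hv', ← Category.assoc, h12, zero_comp]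
  obtain ⟨N₀, a, c, hT₀⟩ := distinguished_cocone_triangle₁ (DerComp.toDerCompletion I' N)
  have hN₀ := leftOrth_fibre O' hT₀
  have hc : DerComp.IsDerComp O I (R.obj ((DerComp.derCompletion O' I').obj N).obj) :=
    (isDerComp_restrictScalars_iff φ I I' hI' _).1 ((DerComp.derCompletion O' I').obj N).property
  have hz : IsZero ((DerComp.derCompletion O' I').obj N).obj := by
    refine isZero_of_isZero_resF (φ := φ) _ ((IsZero.iff_id_eq_zero _).2 ?_)
    exact (bijective_of_leftOrth_fibre (R.map_distinguished _ hT₀) (hN₀.resF_obj hI hI') _ hc).1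
      ((hRN _ hc _).trans (hRN _ hc _).symm)
  intro Z hZ u
  obtain ⟨y, hy⟩ := ((DerComp.derCompletionAdj O' I').homEquiv N ⟨Z, hZ⟩).surjective u
  rw [← hy, Adjunction.homEquiv_unit]
  show DerComp.toDerCompletion I' N ≫ y.hom = 0
  rw [hz.eq_of_src y.hom 0, comp_zero]

/-- Fully faithfulness on complete objects. -/
theorem bijective_resF_map (K' L' : DerivedCategory (ModSite.Mod O')) (hL : DerComp.IsDerComp O' I' L') :
    Function.Bijective fun ψ : K' ⟶ L' => (resF φ).mapDerivedCategory.map ψ := by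
  let adj := derAdj (rmorAdj φ)
  obtain ⟨N, b, d, hT⟩ := distinguished_cocone_triangle₁ (adj.counit.app K')
  have hN := leftOrth_fibre_counit hI hI' hflat hinj hsurj K' hT
  have hb := bijective_of_leftOrth_fibre hT hN L' hL
  have e : (fun ψ : K' ⟶ L' => (resF φ).mapDerivedCategory.map ψ) =
      (adj.homEquiv _ _) ∘ fun ψ => adj.counit.app K' ≫ ψ := funext fun ψ => by
    refine Eq.trans ?_ (adj.homEquiv_unit _ _ _).symm
    rw [Functor.map_comp, ← Category.assoc, adj.right_triangle_components]
    exact (Category.id_comp _).symm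
  rw [e]
  exact (Equiv.bijective _).comp hb

/-- Essential surjectivity on complete objects. -/
theorem exists_iso_resF (E : DerivedCategory (ModSite.Mod O)) (hE : DerComp.IsDerComp O I E) :
    ∃ K' : DerivedCategory (ModSite.Mod O'), DerComp.IsDerComp O' I' K' ∧
      Nonempty ((resF φ).mapDerivedCategory.obj K' ≅ E) := by
  haveI := S13483.result O I hI
  haveI := S13483.result O' I' (isFiniteType_ext hI hI' hflat hinj hsurj)
  let R := (resF φ).mapDerivedCategory
  let adj := derAdj (rmorAdj φ)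
  let PE := (rmorOfHom φ).pull.mapDerivedCategory.obj E
  let K' := (DerComp.derCompletion O' I').obj PE
  obtain ⟨N₀, a, c, hT₀⟩ := distinguished_cocone_triangle₁ (DerComp.toDerCompletion I' PE)
  have hN₀ := leftOrth_fibre O' hT₀
  obtain ⟨N, p, d, hT⟩ := distinguished_cocone_triangle (adj.unit.app E)
  have hN := leftOrth_cone_unit hI hI' hflat hinj hsurj E hT
  have hc : DerComp.IsDerComp O I (R.obj K'.obj) := (isDerComp_restrictScalars_iff φ I I' hI' _).1 K'.property
  let g : E ⟶ R.obj K'.obj := adj.unit.app E ≫ R.map (DerComp.toDerCompletion I' PE)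
  haveI : IsIso g := isIso_of_bijective_comp (DerComp.IsDerComp O I) hE hc g fun Z hZ => by
    have h1 := bijective_of_leftOrth_cone hT hN Z hZ
    have h2 := bijective_of_leftOrth_fibre (R.map_distinguished _ hT₀) (hN₀.resF_obj hI hI') Z hZ
    have e : (fun v : R.obj K'.obj ⟶ Z => g ≫ v) = (fun v => adj.unit.app E ≫ v) ∘
        fun v => R.map (DerComp.toDerCompletion I' PE) ≫ v := funext fun v => Category.assoc _ _ _
    rw [e]
    exact h1.comp h2
  exact ⟨K'.obj, K'.property, ⟨(asIso g).symm⟩⟩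

end Groth.Agent.DerCompLib
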