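import Groth.Agent.ModTensor.Basic
import Groth.Prelude.Def_DerComp

/-!
# Multiplication by a global section on a tensor product
-/

set_option autoImplicit false
set_option linter.style.haveILetI false
set_option linter.unusedSectionVars false
set_option backward.isDefEq.respectTransparency false
set_option backward.isDefEq.respectTransparency.types false

universe u

open CategoryTheory CategoryTheory.Limits Opposite MonoidalCategory

noncomputable section

namespace Groth.Agent.DerCompLib

open Groth.Agent.ModTensor

variable {C : Type u} [SmallCategory C] {J : GrothendieckTopology C} (O : Sheaf J CommRingCat.{u})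

theorem tensor_smulEnd (s : DerComp.GSec O) (M N : ModSite.Mod O) :
    ((ModSite.tensorBi O).map (DerComp.smulEnd s M)).app N =
      DerComp.smulEnd s (((ModSite.tensorBi O).obj M).obj N) := by
  let adj := PresheafOfModules.sheafificationAdjunction (𝟙 (ModSite.ringSh O).obj)
  show (shF O).map ((preFunctor O).map (DerComp.smulEnd s M) ▷ pre O N) =
    DerComp.smulEnd s ((shF O).obj (pre O M ⊗ pre O N))
  refine (adj.homEquiv _ _).injective ?_
  rw [Adjunction.homEquiv_unit, Adjunction.homEquiv_unit]
  refine (shUnit_naturality O ((preFunctor O).map (DerComp.smulEnd s M) ▷ pre O N)).symm.trans ?_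
  refine PresheafOfModules.hom_ext fun X => ModuleCat.hom_ext (LinearMap.ext fun x => ?_)
  induction x using TensorProduct.induction_on with
  | zero => exact ((map_zero _).trans (map_zero _).symm)
  | add a b ha hb => exact (map_add _ a b).trans ((congrArg₂ (· + ·) ha hb).trans (map_add _ a b).symm)
  | tmul a b =>
    letI : Module (O.obj.obj X) ((pre O M).obj X) := inferInstanceAs (Module ((O.obj ⋙ forget₂ CommRingCat.{u} RingCat.{u}).obj X) ((pre O M).obj X))
    letI : Module (O.obj.obj X) ((pre O N).obj X) := inferInstanceAs (Module ((O.obj ⋙ forget₂ CommRingCat.{u} RingCat.{u}).obj X) ((pre O N).obj X))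
    have h := TensorProduct.smul_tmul' (R := O.obj.obj X) (R' := O.obj.obj X) (M := (pre O M).obj X) (N := (pre O N).obj X)
      (s.1 X.unop) a b
    exact (congrArg ((shUnit O (pre O M ⊗ pre O N)).app X).hom h.symm).trans
      (((shUnit O (pre O M ⊗ pre O N)).app X).hom.map_smul _ _)

theorem tensor_smulEnd_right (s : DerComp.GSec O) (M N : ModSite.Mod O) :
    ((ModSite.tensorBi O).obj M).map (DerComp.smulEnd s N) =
      DerComp.smulEnd s (((ModSite.tensorBi O).obj M).obj N) := by
  let adj := PresheafOfModules.sheafificationAdjunction (𝟙 (ModSite.ringSh O).obj)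
  show (shF O).map (pre O M ◁ (preFunctor O).map (DerComp.smulEnd s N)) =
    DerComp.smulEnd s ((shF O).obj (pre O M ⊗ pre O N))
  refine (adj.homEquiv _ _).injective ?_
  rw [Adjunction.homEquiv_unit, Adjunction.homEquiv_unit]
  refine (shUnit_naturality O (pre O M ◁ (preFunctor O).map (DerComp.smulEnd s N))).symm.trans ?_
  refine PresheafOfModules.hom_ext fun X => ModuleCat.hom_ext (LinearMap.ext fun x => ?_)
  induction x using TensorProduct.induction_on with
  | zero => exact ((map_zero _).trans (map_zero _).symm)
  | add a b ha hb => exact (map_add _ a b).trans ((congrArg₂ (· + ·) ha hb).trans (map_add _ a b).symm)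
  | tmul a b =>
    letI : Module (O.obj.obj X) ((pre O M).obj X) := inferInstanceAs (Module ((O.obj ⋙ forget₂ CommRingCat.{u} RingCat.{u}).obj X) ((pre O M).obj X))
    letI : Module (O.obj.obj X) ((pre O N).obj X) := inferInstanceAs (Module ((O.obj ⋙ forget₂ CommRingCat.{u} RingCat.{u}).obj X) ((pre O N).obj X))
    have h := TensorProduct.tmul_smul (R := O.obj.obj X) (R' := O.obj.obj X) (M := (pre O M).obj X) (N := (pre O N).obj X)
      (s.1 X.unop) a b
    exact (congrArg ((shUnit O (pre O M ⊗ pre O N)).app X).hom h).trans
      (((shUnit O (pre O M ⊗ pre O N)).app X).hom.map_smul _ _)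

end Groth.Agent.DerCompLib
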