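import Groth.Agent.DerCompLib.UnitAct
import Groth.Agent.DerCompLib.TensorSmul
import Groth.Agent.PullFlat.TensorNat

/-!
# Tensoring with an algebra which does not change the quotient by an ideal

For a map `φ : O ⟶ O'` of sheaves of rings inducing an isomorphism modulo finitely many global
sections, tensoring with `O'` does not change the modules killed by these sections.
-/

set_option autoImplicit false
set_option linter.style.haveILetI false
set_option linter.unusedSectionVars false
set_option backward.isDefEq.respectTransparency false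
set_option backward.isDefEq.respectTransparency.types false

universe u

open CategoryTheory CategoryTheory.Limits Opposite MonoidalCategory TensorProduct

noncomputable section

namespace Groth.Agent.DerCompLib

open Groth.Agent.ModTensor Groth.Agent.PullFlat

variable {C : Type u} [SmallCategory C] {J : GrothendieckTopology C} {O O' : Sheaf J CommRingCat.{u}}
  (φ : O ⟶ O')

/-- The map of sheaves of rings. -/
abbrev ringMap : ModSite.ringSh O ⟶ ModSite.ringSh O' :=
  (sheafCompose J (forget₂ CommRingCat.{u} RingCat.{u})).map φ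

/-- The algebra as a module. -/
abbrev algMod : ModSite.Mod O :=
  (SheafOfModules.restrictScalars.{u} (ringMap φ)).obj (ModSite.unit O')

/-- A section of the algebra as a section of the module. -/
abbrev toAlg {U : C} (c : O'.obj.obj (op U)) : (pre O (algMod φ)).obj (op U) := c

/-- The component of the ring map. -/
abbrev φAt (U : C) : O.obj.obj (op U) →+* O'.obj.obj (op U) := (φ.hom.app (op U)).hom

theorem ores_φAt {U V : C} (g : V ⟶ U) (r : O.obj.obj (op U)) :
    ores O' g.op (φAt φ U r) = φAt φ V (ores O g.op r) :=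
  congr(($(φ.hom.naturality g.op)).hom r).symm

theorem smul_toAlg {U : C} (r : O.obj.obj (op U)) (c : O'.obj.obj (op U)) :
    r • toAlg φ c = toAlg φ (φAt φ U r * c) := rfl

theorem res_toAlg {U V : C} (g : V ⟶ U) (c : O'.obj.obj (op U)) :
    res (pre O (algMod φ)) g.op (toAlg φ c) = toAlg φ (ores O' g.op c) := rfl

/-- `m ↦ m ⊗ 1`, on presheaves. -/
def algUnitPre (M : ModSite.Mod O) : pre O M ⟶ pre O (tens O M (algMod φ)) where
  app X := ModuleCat.ofHom (X := ((pre O M).obj X : Type u)) (Y := ((pre O (tens O M (algMod φ))).obj X : Type u))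
    { toFun := fun m => pairT O M (algMod φ) (U := X.unop) m (toAlg φ 1)
      map_add' := fun m m' => pairT_add_left O M (algMod φ) m m' _
      map_smul' := fun r m => pairT_smul_left O M (algMod φ) r m _ }
  naturality {X Y} g := by
    refine ModuleCat.hom_ext (LinearMap.ext fun m => ?_)
    show pairT O M (algMod φ) (res (pre O M) g.unop.op m) (toAlg φ 1) =
      res (pre O (tens O M (algMod φ))) g.unop.op (pairT O M (algMod φ) m (toAlg φ 1))
    rw [res_pairT, res_toAlg, map_one]

/-- `m ↦ m ⊗ 1`. -/
def algUnit (M : ModSite.Mod O) : M ⟶ tens O M (algMod φ) := ⟨algUnitPre φ M⟩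

theorem lin_algUnit (M : ModSite.Mod O) {U : C} (m : (pre O M).obj (op U)) :
    lin ((preFunctor O).map (algUnit φ M)) (op U) m = pairT O M (algMod φ) m (toAlg φ 1) := rfl

theorem algUnit_natural {M M' : ModSite.Mod O} (g : M ⟶ M') :
    g ≫ algUnit φ M' = algUnit φ M ≫ ((ModSite.tensorBi O).map g).app (algMod φ) := by
  refine SheafOfModules.hom_ext (PresheafOfModules.hom_ext fun X => ModuleCat.hom_ext (LinearMap.ext fun m => ?_))
  exact (pairT_map g (algMod φ) (U := X.unop) m (toAlg φ 1)).symm

variable (l : List (DerComp.GSec O))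

/-- The ideals generated by the images of the scalars. -/
abbrev imgSpan (U : C) : Ideal (O'.obj.obj (op U)) := Ideal.map (φAt φ U) (spanFam l U)

theorem smul_eq_zero_of_mem {M : ModSite.Mod O} (hM : ∀ s ∈ l, DerComp.smulEnd s M = 0) {U : C}
    {a : O.obj.obj (op U)} (ha : a ∈ spanFam l U) (x : (pre O M).obj (op U)) : a • x = 0 := by
  induction ha using Submodule.span_induction with
  | mem f hf =>
    obtain ⟨s, hs, rfl⟩ := hf
    exact congr(($(hM s hs)).val.app (op U) x)
  | zero => exact zero_smul (O.obj.obj (op U)) x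
  | add a b _ _ ha hb => exact (add_smul a b x).trans (by rw [ha, hb, add_zero])
  | smul r a _ ha => exact (smul_smul r a x).symm.trans (by rw [ha, smul_zero])

theorem pairT_imgSpan {M : ModSite.Mod O} (hM : ∀ s ∈ l, DerComp.smulEnd s M = 0) {U : C}
    {c : O'.obj.obj (op U)} (hc : c ∈ imgSpan φ l U) (m : (pre O M).obj (op U)) :
    pairT O M (algMod φ) m (toAlg φ c) = 0 := by
  suffices h : ∀ d, pairT O M (algMod φ) m (toAlg φ (d * c)) = 0 by
    have := h 1
    rwa [one_mul] at this
  rw [imgSpan, Ideal.map] at hc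
  induction hc using Submodule.span_induction with
  | mem c hc =>
    obtain ⟨a, ha, rfl⟩ := hc
    intro d
    rw [mul_comm, ← smul_toAlg, pairT_smul_right, ← pairT_smul_left, smul_eq_zero_of_mem l hM ha]
    exact ((congrArg _ (TensorProduct.zero_tmul _ _)).trans (map_zero _))
  | zero =>
    intro d
    rw [mul_zero]
    exact (congrArg _ (TensorProduct.tmul_zero _ _)).trans (map_zero _)
  | add a b _ _ ha hb =>
    intro d
    rw [mul_add]
    exact (pairT_add_right O M (algMod φ) m (toAlg φ (d * a)) (toAlg φ (d * b))).trans (by rw [ha, hb, add_zero])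
  | smul r a _ ha =>
    intro d
    rw [smul_eq_mul, ← mul_assoc]
    exact ha _

/-- `φ` is an isomorphism modulo the scalars. -/
structure QuotIso : Prop where
  surj : ∀ (U : C) (c : O'.obj.obj (op U)), Loc J U fun W g =>
    ∃ a : O.obj.obj (op W), ores O' g.op c - φAt φ W a ∈ imgSpan φ l W
  inj : ∀ (U : C) (f : O.obj.obj (op U)), φAt φ U f ∈ imgSpan φ l U →
    Loc J U fun W g => ores O g.op f ∈ spanFam l W

variable {φ l}

theorem QuotIso.isIso_algUnit (h : QuotIso φ l) {M : ModSite.Mod O}
    (hM : ∀ s ∈ l, DerComp.smulEnd s M = 0) : IsIso (algUnit φ M) := by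
  classical
  haveI : Mono (algUnit φ M) := by
    suffices hs : ∀ (U : C) (x : (pre O M).obj (op U)),
        pairT O M (algMod φ) x (toAlg φ 1) = 0 → x = 0 by
      haveI : Mono ((SheafOfModules.forget (ModSite.ringSh O)).map (algUnit φ M)) :=
        PresheafOfModules.mono_of_injective fun {X} a b hab => by
          obtain ⟨U⟩ := X
          refine sub_eq_zero.1 (hs U (a - b) ?_)
          rw [← lin_algUnit, map_sub, sub_eq_zero]
          exact hab
      exact (SheafOfModules.forget (ModSite.ringSh O)).mono_of_mono_map inferInstance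
    intro U x hx
    refine eq_zero_of_loc M x ?_
    refine Loc.bind (loc_of_sum_pairT_eq_zero O M (algMod φ) (fun _ : Fin 1 => x) (fun _ => toAlg φ 1)
      (by rw [Fin.sum_univ_one]; exact hx)) fun W g hg => ?_
    obtain ⟨n, p, t, A, A', y, hm, hy, hA⟩ := hg
    refine Loc.bind (Loc.forall_fintype fun i => h.surj W (t i)) fun W₁ g₁ hg₁ => ?_
    choose b hb using hg₁
    let cc : Fin p → O.obj.obj (op W₁) := fun q => ores O g₁.op (A 0 q) + ∑ i, ores O g₁.op (A' i q) * b i
    have hcc : ∀ q, φAt φ W₁ (cc q) ∈ imgSpan φ l W₁ := fun q => by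
      have h1 : φAt φ W₁ (ores O g₁.op (A 0 q)) + ∑ i, φAt φ W₁ (ores O g₁.op (A' i q)) * ores O' g₁.op (t i) = 0 := by
        have h0 := congrArg (res (pre O (algMod φ)) g₁.op) (hA q)
        simp only [Fin.sum_univ_one, map_add, map_sum, map_zero, res_smul] at h0
        rw [res_toAlg, res_toAlg, map_one, map_one, smul_toAlg, mul_one] at h0
        exact h0
      have h2 : φAt φ W₁ (cc q) =
          -∑ i, φAt φ W₁ (ores O g₁.op (A' i q)) * (ores O' g₁.op (t i) - φAt φ W₁ (b i)) := by
        simp only [cc, map_add, map_sum, map_mul, mul_sub, Finset.sum_sub_distrib, neg_sub]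
        rw [eq_neg_of_add_eq_zero_left h1]
        abel
      rw [h2]
      exact neg_mem (Ideal.sum_mem _ fun i _ => Ideal.mul_mem_left _ _ (hb i))
    refine loc_mono (Loc.forall_fintype fun q => h.inj W₁ (cc q) (hcc q)) fun W₂ k hk => ?_
    have hx' : res (pre O M) ((k ≫ g₁) ≫ g).op x =
        ∑ q, ores O (k ≫ g₁).op (A 0 q) • res (pre O M) (k ≫ g₁).op (y q) := by
      rw [op_comp, res_comp, hm 0, map_sum]
      exact Finset.sum_congr rfl fun q _ => res_smul _ _ _ _
    rw [hx']
    have hz : ∀ q, ores O k.op (cc q) • res (pre O M) (k ≫ g₁).op (y q) = 0 := fun q =>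
      smul_eq_zero_of_mem l hM (hk q) _
    have h3 : ∀ i, ∑ q, ores O (k ≫ g₁).op (A' i q) • res (pre O M) (k ≫ g₁).op (y q) = 0 := fun i => by
      have h4 := congrArg (res (pre O M) (k ≫ g₁).op) (hy i)
      simpa only [map_sum, map_zero, res_smul] using h4
    have h5 : ∀ q, ores O (k ≫ g₁).op (A 0 q) = ores O k.op (cc q) - ∑ i, ores O (k ≫ g₁).op (A' i q) * ores O k.op (b i) :=
      fun q => by simp only [cc, map_add, map_sum, map_mul, op_comp, ores_comp, add_sub_cancel_right]
    simp only [h5, sub_smul, hz, zero_sub, Finset.sum_smul, mul_comm _ (ores O k.op (b _)), mul_smul,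
      Finset.sum_neg_distrib]
    rw [Finset.sum_comm]
    simp only [← Finset.smul_sum, h3, smul_zero, Finset.sum_const_zero, neg_zero]
  haveI : Epi (algUnit φ M) := by
    refine Preadditive.epi_of_cancel_zero _ fun {P} k hk => ?_
    refine SheafOfModules.hom_ext (PresheafOfModules.hom_ext fun X => ModuleCat.hom_ext (LinearMap.ext fun z => ?_))
    obtain ⟨U⟩ := X
    refine eq_zero_of_loc P _ ?_
    refine Loc.bind (loc_sum_pairT O M (algMod φ) (fun _ : Fin 1 => z)) fun W g hg => ?_
    obtain ⟨r, m, n, hmn⟩ := hg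
    refine loc_mono (Loc.forall_fintype fun j => h.surj W (n 0 j)) fun W₁ g₁ hg₁ => ?_
    choose a ha using hg₁
    have hp : ∀ j, pairT O M (algMod φ) (res (pre O M) g₁.op (m 0 j)) (res (pre O (algMod φ)) g₁.op (n 0 j)) =
        lin ((preFunctor O).map (algUnit φ M)) (op W₁) (a j • res (pre O M) g₁.op (m 0 j)) := fun j => by
      have h1 := pairT_imgSpan φ l hM (ha j) (res (pre O M) g₁.op (m 0 j))
      rw [lin_algUnit, pairT_smul_left, ← pairT_smul_right, smul_toAlg, mul_one]
      rw [← sub_eq_zero]
      refine Eq.trans ?_ h1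
      refine (eq_sub_of_add_eq ?_).symm
      rw [← pairT_add_right]
      exact congrArg (pairT O M (algMod φ) (res (pre O M) g₁.op (m 0 j)))
        (show toAlg φ ((ores O' g₁.op (n 0 j) - φAt φ W₁ (a j)) + φAt φ W₁ (a j)) = _ by rw [sub_add_cancel]; rfl)
    show res (pre O P) (g₁ ≫ g).op (lin ((preFunctor O).map k) (op U) z) = 0
    rw [← lin_res, op_comp, res_comp, hmn 0, map_sum, map_sum]
    refine Finset.sum_eq_zero fun j _ => ?_
    rw [res_pairT, hp j]
    exact congr(($hk).val.app (op W₁) _)
  exact isIso_of_mono_of_epi _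

end Groth.Agent.DerCompLib
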