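import Groth.Agent.DerCompLib.PushGen
import Groth.Agent.KInj.Restrict

/-!
# Derived direct images of objects left orthogonal to derived complete objects
-/

set_option autoImplicit false
set_option linter.style.haveILetI false
set_option linter.unusedSectionVars false
set_option backward.isDefEq.respectTransparency false
set_option backward.isDefEq.respectTransparency.types false
set_option maxRecDepth 2000

universe u

open CategoryTheory CategoryTheory.Limits CategoryTheory.Pretriangulated Opposite

attribute [local instance] HasDerivedCategory.standard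

noncomputable section

namespace Groth.Agent.DerCompLib

open Groth.Agent.PullFlat

variable {C : Type u} [SmallCategory C] {J : GrothendieckTopology C} {O : Sheaf J CommRingCat.{u}}

/-- K-injective models are linear. -/
theorem rightAdj_map_smul (s : DerComp.GSec O) (Y : DerivedCategory (ModSite.Mod O)) :
    (KInj.rightAdj (hres O)).map (s • 𝟙 Y) = s • 𝟙 ((KInj.rightAdj (hres O)).obj Y) := by
  let adj := KInj.qhAdjunction (hres O)
  apply (adj.homEquiv _ _).symm.injective
  rw [Adjunction.homEquiv_counit, Adjunction.homEquiv_counit, adj.counit_naturality, Functor.map_smul,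
    CategoryTheory.Functor.map_id, Linear.smul_comp, Category.id_comp, Linear.comp_smul, Category.comp_id]

variable {D : Type u} [SmallCategory D] {K : GrothendieckTopology D} {O_D : Sheaf K CommRingCat.{u}}
  (f : ModSite.RMor O O_D) (V : D)

/-- The direct image over an object. -/
abbrev pushV : ModSite.Mod (O.over (f.fn.obj V)) ⥤ ModSite.Mod (O_D.over V) :=
  pushC (Over.post (X := V) f.fn) (σX f V)

/-- Direct images commute with restriction. -/
def pushRestrIso : f.push ⋙ ModSite.restr O_D V ≅ ModSite.restr O (f.fn.obj V) ⋙ pushV f V :=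
  NatIso.ofComponents (fun _ => Iso.refl _) (fun φ => by
    simp only [Iso.refl_hom]
    exact (Category.comp_id _).trans (Category.id_comp _).symm)

theorem pushV_map_smulEnd (g : O_D.obj.obj (op V)) (M : ModSite.Mod (O.over (f.fn.obj V))) :
    (pushV f V).map (DerComp.smulEnd (DerComp.GSec.ofSect O (f.fn.obj V) ((f.sharp.hom.app (op V)).hom g)) M) =
      DerComp.smulEnd (DerComp.GSec.ofSect O_D V g) ((pushV f V).obj M) := by
  ext X x
  let y : (ModTensor.pre (O.over (f.fn.obj V)) M).obj (op ((Over.post (X := V) f.fn).obj X.unop)) := x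
  exact congrArg (fun t : O.obj.obj (op (f.fn.obj X.unop.left)) =>
      (show (O.over (f.fn.obj V)).obj.obj (op ((Over.post (X := V) f.fn).obj X.unop)) from t) • y)
    (congr(($(f.sharp.hom.naturality X.unop.hom.op)).hom g)).symm

instance additive_pushV : (pushV f V).Additive := by
  haveI := (adjC (Over.post (X := V) f.fn) (σX f V)).rightAdjoint_preservesLimits
  exact Functor.additive_of_preserves_binary_products _

/-- The derived direct image over an object, on models. -/
abbrev rpushV : DerivedCategory (ModSite.Mod (O.over (f.fn.obj V))) ⥤ DerivedCategory (ModSite.Mod (O_D.over V)) :=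
  KInj.rightAdj (hres (O.over (f.fn.obj V))) ⋙
    ((pushV f V).mapHomotopyCategory (ComplexShape.up ℤ) ⋙ DerivedCategory.Qh)

theorem exists_triangulated_rpushV :
    ∃ (_ : (rpushV f V).CommShift ℤ), (rpushV f V).IsTriangulated := by
  let adj := KInj.qhAdjunction (hres (O.over (f.fn.obj V)))
  letI := adj.rightAdjointCommShift ℤ
  haveI := adj.commShift_of_leftAdjoint ℤ
  haveI := adj.isTriangulated_rightAdjoint
  haveI : ((pushV f V).mapHomotopyCategory (ComplexShape.up ℤ)).IsTriangulated := inferInstance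
  haveI : (DerivedCategory.Qh (C := ModSite.Mod (O_D.over V))).IsTriangulated := inferInstance
  haveI h₁ : ((pushV f V).mapHomotopyCategory (ComplexShape.up ℤ) ⋙ DerivedCategory.Qh).IsTriangulated :=
    @Functor.IsTriangulated.instComp _ _ _ _ _ _ _ _ _ _ _ _ _ _ _ _ _ _ _ _ _ _ _ _ _ _ _
  exact ⟨inferInstance, @Functor.IsTriangulated.instComp _ _ _ _ _ _ _ _ _ _ _ _ _ _ _ _ _ _ _ _ _ _ _ _ _ _ _⟩

theorem rpushV_map_smul (g : O_D.obj.obj (op V)) (Y : DerivedCategory (ModSite.Mod (O.over (f.fn.obj V)))) :
    (rpushV f V).map (DerComp.GSec.ofSect O (f.fn.obj V) ((f.sharp.hom.app (op V)).hom g) • 𝟙 Y) =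
      DerComp.GSec.ofSect O_D V g • 𝟙 ((rpushV f V).obj Y) := by
  let s := DerComp.GSec.ofSect O (f.fn.obj V) ((f.sharp.hom.app (op V)).hom g)
  let s' := DerComp.GSec.ofSect O_D V g
  let Φ := (pushV f V).mapHomotopyCategory (ComplexShape.up ℤ)
  have key : ∀ M, Φ.map (s • 𝟙 M) = s' • 𝟙 (Φ.obj M) := fun M => by
    obtain ⟨L, rfl⟩ := HomotopyCategory.quotient_obj_surjective M
    have h1 : ((pushV f V).mapHomologicalComplex (ComplexShape.up ℤ)).map (s • 𝟙 L) =
        s' • 𝟙 (((pushV f V).mapHomologicalComplex (ComplexShape.up ℤ)).obj L) := by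
      refine HomologicalComplex.hom_ext _ _ fun n => ?_
      show (pushV f V).map (s • 𝟙 (L.X n)) = s' • 𝟙 ((pushV f V).obj (L.X n))
      rw [DerComp.smul_def, DerComp.smul_def, Category.comp_id, Category.comp_id]
      exact pushV_map_smulEnd f V g _
    have h2 := congrArg ((HomotopyCategory.quotient _ (ComplexShape.up ℤ)).map) h1
    rw [show s • 𝟙 ((HomotopyCategory.quotient _ (ComplexShape.up ℤ)).obj L) =
      (HomotopyCategory.quotient _ (ComplexShape.up ℤ)).map (s • 𝟙 L) by
        rw [Functor.map_smul, CategoryTheory.Functor.map_id]]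
    refine (h2.trans ((Functor.map_smul _ _ _).trans (congrArg (s' • ·) (CategoryTheory.Functor.map_id _ _))) :)
  show DerivedCategory.Qh.map (Φ.map ((KInj.rightAdj _).map (s • 𝟙 Y))) = s' • 𝟙 _
  rw [rightAdj_map_smul, key, Functor.map_smul, CategoryTheory.Functor.map_id]
  rfl

/-- Derived direct images commute with restriction. -/
theorem nonempty_restrD_rpushD [SiteCmp.HasRpushD f] (X : DerivedCategory (ModSite.Mod O)) :
    Nonempty ((restrD O_D V).obj ((SiteCmp.RpushD f).obj X) ≅ (rpushV f V).obj ((restrD O (f.fn.obj V)).obj X)) := by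
  let M := KInj.model (hres O) X
  let A := ModSite.restr O (f.fn.obj V)
  let B := ModSite.restr O_D V
  let qh {E : Type (u + 1)} [Category.{u} E] [Abelian E] := HomotopyCategory.quotient E (ComplexShape.up ℤ)
  let RM := (A.mapHomologicalComplex (ComplexShape.up ℤ)).obj M
  haveI : CochainComplex.IsKInjective RM := KInj.isKInjective_map_of_adjunction (ModSite.extZeroAdj O (f.fn.obj V)) M
  let Q₁ := DerivedCategory.Qh (C := ModSite.Mod (O_D.over V))
  let e₁ : (restrD O_D V).obj ((SiteCmp.RpushD f).obj X) ≅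
      (restrD O_D V).obj (DerivedCategory.Qh.obj ((f.push.mapHomotopyCategory (ComplexShape.up ℤ)).obj
        ((HomotopyCategory.quotient (ModSite.Mod O) (ComplexShape.up ℤ)).obj M))) :=
    (restrD O_D V).mapIso ((SiteCmpLib.rpushModelIso f).app X)
  let e₂ := B.mapDerivedCategoryFactorsh.app ((f.push.mapHomotopyCategory (ComplexShape.up ℤ)).obj
        ((HomotopyCategory.quotient (ModSite.Mod O) (ComplexShape.up ℤ)).obj M))
  let e₃ : (B.mapHomologicalComplex (ComplexShape.up ℤ)).obj ((f.push.mapHomologicalComplex (ComplexShape.up ℤ)).obj M) ≅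
      ((pushV f V).mapHomologicalComplex (ComplexShape.up ℤ)).obj RM :=
    HomologicalComplex.Hom.isoOfComponents (fun n => (pushRestrIso f V).app (M.X n))
      (fun i j _ => ((pushRestrIso f V).hom.naturality (M.d i j)).symm)
  let eX : (restrD O (f.fn.obj V)).obj X ≅ DerivedCategory.Qh.obj
      ((HomotopyCategory.quotient _ (ComplexShape.up ℤ)).obj RM) :=
    (restrD O (f.fn.obj V)).mapIso (KInj.modelIso (hres O) X).symm ≪≫ A.mapDerivedCategoryFactorsh.app _
  haveI := KInj.isIso_unit_app (hres (O.over (f.fn.obj V))) RM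
  let e₄ := asIso ((KInj.qhAdjunction (hres (O.over (f.fn.obj V)))).unit.app
    ((HomotopyCategory.quotient _ (ComplexShape.up ℤ)).obj RM))
  exact ⟨e₁ ≪≫ e₂ ≪≫ DerivedCategory.Qh.mapIso ((HomotopyCategory.quotient _ (ComplexShape.up ℤ)).mapIso e₃) ≪≫
    DerivedCategory.Qh.mapIso (((pushV f V).mapHomotopyCategory (ComplexShape.up ℤ)).mapIso e₄) ≪≫
    ((rpushV f V).mapIso eX).symm⟩

/-- Derived direct images preserve left orthogonality. -/
theorem LeftOrth.rpushD [SiteCmp.HasRpushD f] (I : DerComp.IdealSh O_D) (hI : I.IsFiniteType)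
    (I' : DerComp.IdealSh O) (hI' : DerComp.RIsIdealExt f I I') [DerComp.HasDerCompletion O_D I]
    {X : DerivedCategory (ModSite.Mod O)} (hX : LeftOrth O I' X) :
    LeftOrth O_D I ((SiteCmp.RpushD f).obj X) := by
  refine leftOrth_of_local O_D {V : D | ∃ (r : ℕ) (a : Fin r → O_D.obj.obj (op V)),
      (I.over V).IsGenBy fun i => DerComp.GSec.ofSect O_D V (a i)} hI _ fun V hV => ?_
  obtain ⟨r, a, ha⟩ := hV
  refine ⟨r, a, ha, ?_⟩
  have h1 := hX.lOrth_restrD _ (isGenBy_over_ext f V I I' hI' a ha)
  obtain ⟨cs, hcs⟩ := exists_triangulated_rpushV f V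
  letI := cs
  haveI := hcs
  obtain ⟨e⟩ := nonempty_restrD_rpushD f V X
  refine LOrth.of_iso ?_ e.symm
  rw [genList, List.ofFn_eq_map] at h1 ⊢
  exact LOrth.map (rpushV f V) _ _ (fun i Y => rpushV_map_smul f V (a i) Y) h1

end Groth.Agent.DerCompLib
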