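import Groth.Agent.DerCompLib.Push
import Groth.Agent.DerCompLib.Ideal

/-!
# Derived completeness and restriction of scalars
-/

set_option autoImplicit false
set_option linter.style.haveILetI false
set_option linter.unusedSectionVars false
set_option backward.isDefEq.respectTransparency false
set_option backward.isDefEq.respectTransparency.types false

universe u

open CategoryTheory CategoryTheory.Limits Opposite

attribute [local instance] HasDerivedCategory.standard

noncomputable section

namespace Groth.Agent.DerCompLib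

variable {C : Type u} [SmallCategory C] {J : GrothendieckTopology C} {O O' : Sheaf J CommRingCat.{u}}
  (φ : O ⟶ O')

/-- A map of sheaves of rings as a morphism of ringed sites. -/
def rmorOfHom : ModSite.RMor O' O where
  fn := 𝟭 C
  isContinuous := SiteCmp.idContinuous le_rfl
  exact := haveI := SiteCmp.idContinuous (le_refl J); ModSite.RMor.exact_of_flat (𝟭 C)
  sharp := ⟨φ.hom⟩

variable [PreservesFiniteLimits (SheafOfModules.restrictScalars.{u} ((sheafCompose J (forget₂ CommRingCat.{u} RingCat.{u})).map φ))]
  [PreservesFiniteColimits (SheafOfModules.restrictScalars.{u} ((sheafCompose J (forget₂ CommRingCat.{u} RingCat.{u})).map φ))]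

theorem cplAt_restrictScalars_iff (U : C) (g : O.obj.obj (op U)) (K' : DerivedCategory (ModSite.Mod O')) :
    CplAt O U g ((SheafOfModules.restrictScalars.{u}
        ((sheafCompose J (forget₂ CommRingCat.{u} RingCat.{u})).map φ)).mapDerivedCategory.obj K') ↔
      CplAt O' U ((φ.hom.app (op U)).hom g) K' := by
  let f := rmorOfHom φ
  let G := SheafOfModules.restrictScalars.{u} ((sheafCompose J (forget₂ CommRingCat.{u} RingCat.{u})).map φ)
  let e : f.push ≅ G := NatIso.ofComponents (fun M => Iso.refl _) (fun g => by ext X x; rfl)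
  haveI : PreservesFiniteLimits f.push := preservesFiniteLimits_of_natIso e.symm
  haveI : PreservesFiniteColimits f.push := preservesFiniteColimits_of_natIso e.symm
  let W := HomotopyCategory.quasiIso (ModSite.Mod O') (ComplexShape.up ℤ)
  let eh : G.mapHomotopyCategory (ComplexShape.up ℤ) ≅ f.push.mapHomotopyCategory (ComplexShape.up ℤ) :=
    NatIso.ofComponents (fun K => Iso.refl _) fun {K L} g => by
      obtain ⟨g, rfl⟩ := (HomotopyCategory.quotient (ModSite.Mod O') (ComplexShape.up ℤ)).map_surjective g
      rw [Iso.refl_hom, Iso.refl_hom, Category.comp_id, Category.id_comp]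
      rfl
  let α : DerivedCategory.Qh ⋙ G.mapDerivedCategory ≅ SiteCmp.pushKh f :=
    G.mapDerivedCategoryFactorsh ≪≫ Functor.isoWhiskerRight eh DerivedCategory.Qh
  haveI h1 : (G.mapDerivedCategory).IsRightDerivedFunctor α.inv W :=
    Functor.isRightDerivedFunctor_of_inverts W _ α
  haveI : SiteCmp.HasRpushD f := Functor.HasRightDerivedFunctor.mk' G.mapDerivedCategory α.inv
  let i := Functor.rightDerivedUnique (G.mapDerivedCategory) (SiteCmp.RpushD f) α.inv
    (SiteCmpLib.rpushUnit f) W
  have h2 : ∀ {X Y : DerivedCategory (ModSite.Mod O)} (_ : X ≅ Y), CplAt O U g X → CplAt O U g Y := fun {X Y} j h n =>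
    (h n).of_bijective (Preadditive.rightComp _ (j.hom⟦n⟧'))
      ((shiftFunctor _ n).mapIso j).homToEquiv.bijective fun a => Category.assoc ((DerivedCategory.singleFunctor (ModSite.Mod O) 0).map (endF O U g)) a (j.hom⟦n⟧')
  exact ⟨fun h => (cplAt_rpushD_iff f U g K').1 (h2 (i.app K') h),
    fun h => h2 (i.app K').symm ((cplAt_rpushD_iff f U g K').2 h)⟩

theorem isDerComp_restrictScalars_iff (I : DerComp.IdealSh O) (I' : DerComp.IdealSh O')
    (hI' : DerComp.IsIdealExt φ I I') (K' : DerivedCategory (ModSite.Mod O')) :
    DerComp.IsDerComp O' I' K' ↔ DerComp.IsDerComp O I ((SheafOfModules.restrictScalars.{u}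
        ((sheafCompose J (forget₂ CommRingCat.{u} RingCat.{u})).map φ)).mapDerivedCategory.obj K') := by
  rw [isDerComp_iff, isDerComp_iff]
  refine ⟨fun h U g hg => (cplAt_restrictScalars_iff φ U g K').2 (h U _ (hI'.1 U g hg)), fun h => ?_⟩
  refine (isDerComp_iff O' I' K').1 (isDerComp_of_le O' (hI'.2 _ fun U g hg V k => ?_))
  have hn : (O'.obj.map k.op).hom ((φ.hom.app (op U)).hom g) = (φ.hom.app (op V)).hom ((O.obj.map k.op).hom g) := by
    rw [← CommRingCat.comp_apply, ← CommRingCat.comp_apply, φ.hom.naturality]
  rw [hn]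
  exact (cplAt_restrictScalars_iff φ V _ K').1 (h V _ (I.map_mem k hg))

end Groth.Agent.DerCompLib
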