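import Groth.Agent.DerCompLib.FlatD
import Groth.Agent.DerCompLib.PushOrth
import Groth.Agent.DerCompLib.RestrictScalars
import Groth.Agent.PullFlat.InvRing
import Groth.Agent.ModTensor.Criterion
import Groth.Agent.S6147

/-!
# Exactness of extension and restriction of scalars along a flat map; localised sites
-/

set_option autoImplicit false
set_option linter.style.haveILetI false
set_option linter.unusedSectionVars false
set_option backward.isDefEq.respectTransparency false
set_option backward.isDefEq.respectTransparency.types false
set_option maxRecDepth 2000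

universe u

open CategoryTheory CategoryTheory.Limits Opposite

attribute [local instance] HasDerivedCategory.standard

noncomputable section

namespace Groth.Agent.DerCompLib

open Groth.Agent.ModTensor Groth.Agent.PullFlat

variable {C : Type u} [SmallCategory C] {J : GrothendieckTopology C} {O O' : Sheaf J CommRingCat.{u}}
  (φ : O ⟶ O')

/-- Inverse image along a map of sheaves of rings, restriction of scalars as the right adjoint. -/
def rmorAdj : (rmorOfHom φ).pull ⊣ resF φ :=
  (rmorOfHom φ).adj.ofNatIsoRight (NatIso.ofComponents (fun _ => Iso.refl _) fun g => by ext X x; rfl)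

theorem preservesFiniteColimits_resF : PreservesFiniteColimits (resF φ) := ⟨fun K _ _ => by
  haveI : PreservesColimitsOfShape K (SheafOfModules.toSheaf (ModSite.ringSh O')) := inferInstance
  haveI : PreservesColimitsOfShape K (resF φ ⋙ SheafOfModules.toSheaf (ModSite.ringSh O)) :=
    inferInstanceAs (PreservesColimitsOfShape K (SheafOfModules.toSheaf (ModSite.ringSh O')))
  haveI : ReflectsColimitsOfShape K (SheafOfModules.toSheaf (ModSite.ringSh O)) :=
    reflectsColimitsOfShape_of_reflectsIsomorphisms
  exact preservesColimitsOfShape_of_reflects_of_preserves _ (SheafOfModules.toSheaf (ModSite.ringSh O))⟩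

theorem preservesFiniteLimits_resF : PreservesFiniteLimits (resF φ) := by
  haveI := (rmorAdj φ).rightAdjoint_preservesLimits
  infer_instance

/-- Flatness of the algebra gives flatness over the inverse image of the sheaf of rings. -/
theorem isFlat_baseMod_rmorOfHom (h : ModSite.IsFlat (algMod φ)) : ModSite.IsFlat (rmorOfHom φ).baseMod := by
  let f := rmorOfHom φ
  let A := f.fn.sheafPushforwardContinuous CommRingCat.{u} J J
  let adj := f.fn.sheafAdjunctionContinuous CommRingCat.{u} J J
  haveI : A.IsEquivalence := Functor.isEquivalence_of_iso (F := 𝟭 _)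
    (NatIso.ofComponents (fun _ => Iso.refl _) fun g => by ext; rfl)
  let η := adj.unit.app O
  haveI : IsIso η := inferInstance
  have hfac : ∀ (U : C) (b : O.obj.obj (op U)),
      (f.invSharp.hom.app (op U)).hom ((η.hom.app (op U)).hom b) = φAt φ U b := fun U b => by
    have h1 : adj.homEquiv O O' f.invSharp = f.sharp := Equiv.apply_symm_apply _ _
    rw [Adjunction.homEquiv_unit] at h1
    exact congr((($h1).hom.app (op U)).hom b)
  have hsurj : ∀ (U : C) (c : f.invRing.obj.obj (op U)),
      c = (η.hom.app (op U)).hom (((inv η).hom.app (op U)).hom c) := fun U c =>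
    (congr((($(IsIso.inv_hom_id η)).hom.app (op U)).hom c)).symm
  rw [isFlat_iff_equational] at h ⊢
  intro U n g s hs
  let b : Fin n → O.obj.obj (op U) := fun j => ((inv η).hom.app (op U)).hom (g j)
  let s' : Fin n → (pre O (algMod φ)).obj (op U) := fun j => toAlg φ (show O'.obj.obj (op U) from s j)
  obtain ⟨S, hS, hS'⟩ := h U n b s' (by
    refine Eq.trans (Finset.sum_congr rfl fun j _ => ?_) hs
    show φAt φ U (b j) * (show O'.obj.obj (op U) from s j) =
      (f.invSharp.hom.app (op U)).hom (g j) * (show O'.obj.obj (op U) from s j)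
    rw [← hfac, ← hsurj])
  refine ⟨S, hS, fun W k hk => ?_⟩
  obtain ⟨m, t, a, h1, h2⟩ := hS' k hk
  refine ⟨m, fun i => (show O'.obj.obj (op W) from t i), fun j i => (η.hom.app (op W)).hom (a j i),
    fun j => ?_, fun i => ?_⟩
  · refine (h1 j).trans (Finset.sum_congr rfl fun i _ => ?_)
    show φAt φ W (a j i) * (show O'.obj.obj (op W) from t i) =
      (f.invSharp.hom.app (op W)).hom ((η.hom.app (op W)).hom (a j i)) * (show O'.obj.obj (op W) from t i)
    rw [hfac]
  · have h3 := congrArg (η.hom.app (op W)).hom (h2 i)
    rw [map_sum, map_zero] at h3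
    refine Eq.trans (Finset.sum_congr rfl fun j _ => ?_) h3
    rw [map_mul]
    congr 1
    have h4 := congr(($(η.hom.naturality k.op)).hom (b j))
    refine Eq.trans ?_ h4.symm
    exact congrArg (ores f.invRing k.op) (hsurj U (g j))

theorem preservesFiniteLimits_of_leftAdjoint {P : ModSite.Mod O ⥤ ModSite.Mod O'} (adj : P ⊣ resF φ)
    (h : ModSite.IsFlat (algMod φ)) : PreservesFiniteLimits P := by
  haveI : PreservesFiniteLimits (rmorOfHom φ).pull :=
    rmor_isFlat (rmorOfHom φ) (isFlat_baseMod_rmorOfHom φ h)
  exact preservesFiniteLimits_of_natIso ((rmorAdj φ).leftAdjointUniq adj)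

/-! ### Localised sites -/

variable (V : C)

/-- The map on the localised site. -/
abbrev φV : O.over V ⟶ O'.over V :=
  ((Over.forget V).sheafPushforwardContinuous CommRingCat.{u} (J.over V) J).map φ

/-- The direct image over an object is restriction of scalars. -/
def pushVIso : pushV (rmorOfHom φ) V ≅ resF (φV φ V) :=
  NatIso.ofComponents (fun _ => Iso.refl _) fun g => by ext X x; rfl

/-- The adjunction over an object. -/
def adjV : pullX (rmorOfHom φ) V ⊣ resF (φV φ V) :=
  (adjC (Over.post (X := V) (rmorOfHom φ).fn) (σX (rmorOfHom φ) V)).ofNatIsoRight (pushVIso φ V)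

theorem isFlat_algMod_φV (h : ModSite.IsFlat (algMod φ)) : ModSite.IsFlat (algMod (φV φ V)) :=
  S6147.result O (algMod φ) h V

end Groth.Agent.DerCompLib
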