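import Groth.Agent.DerCompLib.FlatQuot
import Groth.Agent.DerCompLib.FlatKey
import Groth.Prelude.Def_DerComp

/-!
# Extension of scalars along a flat map which does not change the quotient by an ideal

The unit of the adjunction between extension and restriction of scalars is an isomorphism on the
modules, resp. objects of the derived category, on which the ideal is nilpotent.
-/

set_option autoImplicit false
set_option linter.style.haveILetI false
set_option linter.unusedSectionVars false
set_option backward.isDefEq.respectTransparency false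
set_option backward.isDefEq.respectTransparency.types false
set_option maxRecDepth 2000

universe u

open CategoryTheory CategoryTheory.Limits Opposite

attribute [local instance] HasDerivedCategory.standard

noncomputable section

namespace Groth.Agent.DerCompLib

open Groth.Agent.ModTensor Groth.Agent.PullFlat

variable {C : Type u} [SmallCategory C] {J : GrothendieckTopology C} {O O' : Sheaf J CommRingCat.{u}}

/-- Restriction of scalars. -/
abbrev resF (φ : O ⟶ O') : ModSite.Mod O' ⥤ ModSite.Mod O :=
  SheafOfModules.restrictScalars.{u} (ringMap φ)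

/-- The image of a global section. -/
def gsMap (φ : O ⟶ O') (s : DerComp.GSec O) : DerComp.GSec O' :=
  ⟨fun U => φAt φ U (s.1 U), fun U V g => by
    show ores O' g.op (φAt φ U (s.1 U)) = φAt φ V (s.1 V)
    rw [ores_φAt]
    exact congrArg (φAt φ V) (s.2 g)⟩

theorem gsMap_pow (φ : O ⟶ O') (s : DerComp.GSec O) (k : ℕ) : gsMap φ (s ^ k) = gsMap φ s ^ k :=
  Subtype.ext (funext fun U => map_pow (φAt φ U) (s.1 U) k)

variable {φ : O ⟶ O'}

theorem resF_map_smulEnd (s : DerComp.GSec O) (N : ModSite.Mod O') :
    (resF φ).map (DerComp.smulEnd (gsMap φ s) N) = DerComp.smulEnd s ((resF φ).obj N) := by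
  ext X x
  rfl

/-- An additive functor carrying one scalar to another does so on derived categories. -/
theorem mapDerivedCategory_map_smul {C₁ C₂ : Type u} [SmallCategory C₁] [SmallCategory C₂]
    {J₁ : GrothendieckTopology C₁} {J₂ : GrothendieckTopology C₂} {O₁ : Sheaf J₁ CommRingCat.{u}}
    {O₂ : Sheaf J₂ CommRingCat.{u}} (H : ModSite.Mod O₁ ⥤ ModSite.Mod O₂) [H.Additive]
    [PreservesFiniteLimits H] [PreservesFiniteColimits H] (s : DerComp.GSec O₁) (s' : DerComp.GSec O₂)
    (h : ∀ M, H.map (DerComp.smulEnd s M) = DerComp.smulEnd s' (H.obj M))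
    (X : DerivedCategory (ModSite.Mod O₁)) :
    H.mapDerivedCategory.map (s • 𝟙 X) = s' • 𝟙 (H.mapDerivedCategory.obj X) := by
  let K := DerivedCategory.Q.objPreimage X
  let e : DerivedCategory.Q.obj K ≅ X := DerivedCategory.Q.objObjPreimageIso X
  have h1 : (H.mapHomologicalComplex (ComplexShape.up ℤ)).map (s • 𝟙 K) =
      s' • 𝟙 ((H.mapHomologicalComplex (ComplexShape.up ℤ)).obj K) := by
    refine HomologicalComplex.hom_ext _ _ fun n => ?_
    show H.map (DerComp.smulEnd s (K.X n) ≫ 𝟙 _) = DerComp.smulEnd s' (H.obj (K.X n)) ≫ 𝟙 _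
    rw [Category.comp_id, Category.comp_id]
    exact h _
  have h2 : H.mapDerivedCategory.map (s • 𝟙 (DerivedCategory.Q.obj K)) = s' • 𝟙 _ := by
    rw [← cancel_mono (H.mapDerivedCategoryFactors.hom.app K),
      show s • 𝟙 (DerivedCategory.Q.obj K) = DerivedCategory.Q.map (s • 𝟙 K) by
        rw [Functor.map_smul, CategoryTheory.Functor.map_id],
      Functor.mapDerivedCategoryFactors_hom_naturality, h1, Functor.map_smul, CategoryTheory.Functor.map_id,
      Linear.comp_smul, Linear.smul_comp, Category.id_comp]
    exact congrArg (s' • ·) (Category.comp_id _)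
  have h3 : s • 𝟙 X = e.inv ≫ (s • 𝟙 (DerivedCategory.Q.obj K)) ≫ e.hom := by
    rw [Linear.smul_comp, Category.id_comp, Linear.comp_smul, e.inv_hom_id]
  rw [h3, Functor.map_comp, Functor.map_comp, h2, Linear.smul_comp, Category.id_comp, Linear.comp_smul,
    ← Functor.map_comp, e.inv_hom_id, CategoryTheory.Functor.map_id]

/-! ### Modules killed by the scalars -/

variable {l : List (DerComp.GSec O)}

variable (φ l) in
/-- A module over `O'` killed by the images of the scalars. -/
def KillImg (N : ModSite.Mod O') : Prop := ∀ s ∈ l, DerComp.smulEnd (gsMap φ s) N = 0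

theorem KillImg.smul_eq_zero {N : ModSite.Mod O'} (h : KillImg φ l N) {U : C} {c : O'.obj.obj (op U)}
    (hc : c ∈ imgSpan φ l U) (x : (pre O' N).obj (op U)) : c • x = 0 := by
  have h1 : imgSpan φ l U ≤ LinearMap.ker (LinearMap.toSpanSingleton (O'.obj.obj (op U)) _ x) := by
    rw [imgSpan, spanFam, Ideal.map_span]
    refine Ideal.span_le.2 ?_
    rintro _ ⟨_, ⟨s, hs, rfl⟩, rfl⟩
    exact LinearMap.mem_ker.2 (congr(($(h s hs)).val.app (op U) x))
  exact LinearMap.mem_ker.1 (h1 hc)

theorem KillImg.res_smul_eq {N : ModSite.Mod O'} (h : KillImg φ l N) {U W : C} (g : W ⟶ U)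
    {c : O'.obj.obj (op U)} {a : O.obj.obj (op W)} (ha : ores O' g.op c - φAt φ W a ∈ imgSpan φ l W)
    (x : (pre O' N).obj (op U)) :
    res (pre O' N) g.op (c • x) = φAt φ W a • res (pre O' N) g.op x := by
  have h0 := h.smul_eq_zero ha (res (pre O' N) g.op x)
  rw [sub_smul, sub_eq_zero] at h0
  rw [res_smul]
  exact h0

/-- Restriction of scalars is full on killed modules. -/
theorem QuotIso.exists_map_eq (h : QuotIso φ l) {N N' : ModSite.Mod O'} (hN : KillImg φ l N)
    (hN' : KillImg φ l N') (g : (resF φ).obj N ⟶ (resF φ).obj N') : ∃ g', (resF φ).map g' = g := by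
  let gl : ∀ X, (pre O' N).obj X → (pre O' N').obj X := fun X x => lin ((preFunctor O).map g) X x
  refine ⟨⟨{ app := fun X => ModuleCat.ofHom (X := ((pre O' N).obj X : Type u)) (Y := ((pre O' N').obj X : Type u))
                { toFun := gl X
                  map_add' := fun a b => map_add (lin ((preFunctor O).map g) X) a b
                  map_smul' := fun c x => ?_ }
             naturality := fun {X Y} k => ?_ }⟩, rfl⟩
  · obtain ⟨U⟩ := X
    refine sub_eq_zero.1 (eq_zero_of_loc N' _ (loc_mono (h.surj U c) fun W k hk => ?_))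
    obtain ⟨a, ha⟩ := hk
    rw [map_sub, sub_eq_zero]
    refine Eq.trans ?_ (hN'.res_smul_eq k ha _).symm
    refine (lin_res ((preFunctor O).map g) k.op _).symm.trans ?_
    refine (congrArg (lin ((preFunctor O).map g) (op W)) (hN.res_smul_eq k ha x)).trans ?_
    refine ((lin ((preFunctor O).map g) (op W)).map_smul a (res (pre O' N) k.op x)).trans ?_
    exact congrArg (fun y : (pre O ((resF φ).obj N')).obj (op W) => a • y) (lin_res ((preFunctor O).map g) k.op x)
  · exact ModuleCat.hom_ext (LinearMap.ext fun x => lin_res ((preFunctor O).map g) k x)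

section Structure

variable (h : QuotIso φ l) {M : ModSite.Mod O} (hM : ∀ s ∈ l, DerComp.smulEnd s M = 0)

/-- The action of `O'` on a killed module. -/
def kAct {U : C} (c : O'.obj.obj (op U)) (m : (pre O M).obj (op U)) : (pre O M).obj (op U) :=
  haveI := h.isIso_algUnit hM
  lin ((preFunctor O).map (inv (algUnit φ M))) (op U) (pairT O M (algMod φ) m (toAlg φ c))

theorem kAct_φ {U : C} (a : O.obj.obj (op U)) (m : (pre O M).obj (op U)) :
    kAct h hM (φAt φ U a) m = a • m := by
  haveI := h.isIso_algUnit hM
  have h1 : pairT O M (algMod φ) m (toAlg φ (φAt φ U a)) = a • pairT O M (algMod φ) m (toAlg φ 1) := by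
    rw [← pairT_smul_right, smul_toAlg, mul_one]
  rw [kAct, h1, map_smul, ← lin_algUnit]
  congr 1
  exact congr(($(IsIso.hom_inv_id (algUnit φ M))).val.app (op U) m)

theorem res_kAct {U W : C} (g : W ⟶ U) (c : O'.obj.obj (op U)) (m : (pre O M).obj (op U)) :
    res (pre O M) g.op (kAct h hM c m) = kAct h hM (ores O' g.op c) (res (pre O M) g.op m) := by
  haveI := h.isIso_algUnit hM
  rw [kAct, kAct, ← lin_res, res_pairT, res_toAlg]

theorem kAct_add_left {U : C} (c c' : O'.obj.obj (op U)) (m : (pre O M).obj (op U)) :
    kAct h hM (c + c') m = kAct h hM c m + kAct h hM c' m := by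
  haveI := h.isIso_algUnit hM
  rw [kAct, kAct, kAct, ← map_add]
  exact congrArg _ (pairT_add_right O M (algMod φ) m (toAlg φ c) (toAlg φ c'))

theorem kAct_add_right {U : C} (c : O'.obj.obj (op U)) (m m' : (pre O M).obj (op U)) :
    kAct h hM c (m + m') = kAct h hM c m + kAct h hM c m' := by
  haveI := h.isIso_algUnit hM
  rw [kAct, kAct, kAct, ← map_add, pairT_add_left]

theorem kAct_mul {U : C} (c d : O'.obj.obj (op U)) (m : (pre O M).obj (op U)) :
    kAct h hM (c * d) m = kAct h hM c (kAct h hM d m) := by
  haveI := h.isIso_algUnit hM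
  refine sub_eq_zero.1 (eq_zero_of_loc M _ (Loc.bind (h.surj U d) fun W g hg => ?_))
  obtain ⟨a, ha⟩ := hg
  refine Loc.of_forall fun W' k => ?_
  rw [map_sub, sub_eq_zero, op_comp, res_comp, res_comp, res_kAct h hM g, res_kAct h hM g, res_kAct h hM g,
    map_mul]
  refine congrArg (res (pre O M) k.op) ?_
  have hd : ∀ (x : (pre O M).obj (op W)) (e : O'.obj.obj (op W)),
      kAct h hM (e * ores O' g.op d) x = kAct h hM (e * φAt φ W a) x := fun x e => by
    unfold kAct
    congr 1
    rw [← sub_eq_zero]
    refine Eq.trans ?_ (pairT_imgSpan φ l hM (Ideal.mul_mem_left _ e ha) x)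
    rw [mul_sub, sub_eq_iff_eq_add, ← pairT_add_right]
    exact congrArg (pairT O M (algMod φ) x)
      (show toAlg φ (e * ores O' g.op d) = toAlg φ (e * ores O' g.op d - e * φAt φ W a + e * φAt φ W a) by
        rw [sub_add_cancel])
  rw [hd, ← one_mul (ores O' g.op d), hd, one_mul, kAct_φ]
  unfold kAct
  congr 1
  rw [pairT_smul_left, ← pairT_smul_right, smul_toAlg, mul_comm]

theorem kAct_one {U : C} (m : (pre O M).obj (op U)) : kAct h hM (1 : O'.obj.obj (op U)) m = m := by
  have := kAct_φ h hM (1 : O.obj.obj (op U)) m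
  rwa [map_one, one_smul] at this

/-- The module structure over the algebra. -/
def kModule (X : Cᵒᵖ) : Module ((O'.obj ⋙ forget₂ CommRingCat.{u} RingCat.{u}).obj X)
    ((M.val.presheaf).obj X) where
  smul c m := (show (pre O M).obj (op X.unop) from kAct h hM (show O'.obj.obj (op X.unop) from c) m)
  one_smul m := kAct_one h hM (U := X.unop) m
  mul_smul c d m := kAct_mul h hM (U := X.unop) c d m
  smul_zero c := by
    have e := kAct_add_right h hM (U := X.unop) (show O'.obj.obj (op X.unop) from c) 0 0
    rw [add_zero] at e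
    exact add_left_cancel (e.symm.trans (add_zero _).symm)
  smul_add c m m' := kAct_add_right h hM (U := X.unop) c m m'
  add_smul c d m := kAct_add_left h hM (U := X.unop) c d m
  zero_smul m := by
    have e := kAct_add_left h hM (U := X.unop) (0 : O'.obj.obj (op X.unop)) 0 m
    rw [add_zero] at e
    exact add_left_cancel (e.symm.trans (add_zero _).symm)

/-- A killed module as a module over the algebra. -/
def kMod : ModSite.Mod O' :=
  letI := kModule h hM
  { val := PresheafOfModules.ofPresheaf (R := O'.obj ⋙ forget₂ CommRingCat.{u} RingCat.{u}) M.val.presheaf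
      fun X Y f c m => res_kAct h hM (U := X.unop) (W := Y.unop) f.unop c m
    isSheaf := M.isSheaf }

theorem killImg_kMod : KillImg φ l (kMod h hM) := fun s hs => by
  refine SheafOfModules.hom_ext (PresheafOfModules.hom_ext fun X => ModuleCat.hom_ext (LinearMap.ext fun x => ?_))
  refine (kAct_φ h hM (U := X.unop) (s.1 X.unop) x).trans ?_
  exact congr(($(hM s hs)).val.app X x)

/-- A killed module comes from the algebra. -/
def kIso : M ≅ (resF φ).obj (kMod h hM) where
  hom := ⟨{ app := fun X => ModuleCat.ofHom (X := ((pre O M).obj X : Type u))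
              (Y := ((pre O ((resF φ).obj (kMod h hM))).obj X : Type u))
              { toFun := fun m => m
                map_add' := fun _ _ => rfl
                map_smul' := fun a m => (kAct_φ h hM (U := X.unop) a m).symm }
            naturality := fun _ => rfl }⟩
  inv := ⟨{ app := fun X => ModuleCat.ofHom (X := ((pre O ((resF φ).obj (kMod h hM))).obj X : Type u))
              (Y := ((pre O M).obj X : Type u))
              { toFun := fun m => m
                map_add' := fun _ _ => rfl
                map_smul' := fun a m => kAct_φ h hM (U := X.unop) a m }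
            naturality := fun _ => rfl }⟩

end Structure

/-! ### The unit -/

variable {P : ModSite.Mod O ⥤ ModSite.Mod O'} (adj : P ⊣ resF φ)

include adj

theorem pull_map_smulEnd (s : DerComp.GSec O) (M : ModSite.Mod O) :
    P.map (DerComp.smulEnd s M) = DerComp.smulEnd (gsMap φ s) (P.obj M) := by
  refine (adj.homEquiv _ _).injective ?_
  rw [adj.homEquiv_unit, adj.homEquiv_unit, resF_map_smulEnd]
  exact (adj.unit.naturality (DerComp.smulEnd s M)).symm.trans (DerComp.smulEnd_comm s _)

theorem killImg_pull [P.Additive] {M : ModSite.Mod O} (hM : ∀ s ∈ l, DerComp.smulEnd s M = 0) :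
    KillImg φ l (P.obj M) := fun s hs => by
  rw [← pull_map_smulEnd adj, hM s hs, Functor.map_zero]

/-- The unit is an isomorphism at killed modules. -/
theorem QuotIso.isIso_unit [P.Additive] (h : QuotIso φ l) {M : ModSite.Mod O}
    (hM : ∀ s ∈ l, DerComp.smulEnd s M = 0) : IsIso (adj.unit.app M) := by
  let N := kMod h hM
  let e := kIso h hM
  suffices IsIso (adj.unit.app ((resF φ).obj N)) from (NatTrans.isIso_app_iff_of_iso adj.unit e).2 this
  have hGN : ∀ s ∈ l, DerComp.smulEnd s ((resF φ).obj N) = 0 := fun s hs => by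
    rw [← resF_map_smulEnd, killImg_kMod h hM s hs]
    ext X x
    rfl
  obtain ⟨g, hg⟩ : ∃ g : N ⟶ P.obj ((resF φ).obj N), (resF φ).map g = adj.unit.app _ :=
    h.exists_map_eq (killImg_kMod h hM) (killImg_pull adj hGN) (adj.unit.app _)
  have ht : adj.unit.app ((resF φ).obj N) ≫ (resF φ).map (adj.counit.app N) = 𝟙 _ :=
    adj.right_triangle_components N
  have h1 : adj.counit.app N ≫ g = 𝟙 _ := (adj.homEquiv _ _).injective (by
    rw [adj.homEquiv_unit, adj.homEquiv_unit, Functor.map_comp, ← Category.assoc]
    refine (congrArg (· ≫ (resF φ).map g) ht).trans ((Category.id_comp _).trans (hg.trans ?_))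
    exact ((congrArg (adj.unit.app _ ≫ ·) ((resF φ).map_id _)).trans (Category.comp_id _)).symm)
  refine ⟨(resF φ).map (adj.counit.app N), ht, ?_⟩
  refine (congrArg ((resF φ).map (adj.counit.app N) ≫ ·) hg.symm).trans ?_
  exact ((resF φ).map_comp _ _).symm.trans ((congrArg (resF φ).map h1).trans ((resF φ).map_id _))

end Groth.Agent.DerCompLib
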