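import Groth.Agent.BrownRep.Grothendieck

/-!
# The derived category of a Grothendieck abelian category is generated by a separator
-/

set_option autoImplicit false
set_option linter.style.haveILetI false
set_option backward.isDefEq.respectTransparency false
set_option backward.isDefEq.respectTransparency.types false

universe w v u

open CategoryTheory CategoryTheory.Limits CategoryTheory.Pretriangulated Opposite

noncomputable section

namespace Groth.Agent.DerCompLib

open Groth.Agent.BrownRep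

variable {A : Type u} [Category.{v} A] [Abelian A] [IsGrothendieckAbelian.{v} A] [HasDerivedCategory.{w} A]

/-- A class of objects of `D(A)` which contains a separator and is stable by shifts, sums and cones is everything. -/
theorem prop_of_separator (U : A) (hU : IsSeparator U) (P : ObjectProperty (DerivedCategory A))
    [P.IsClosedUnderIsomorphisms]
    (hsigma : ∀ (κ : Type v) (X : κ → DerivedCategory A) (c : Cofan X), IsColimit c → (∀ k, P (X k)) → P c.pt)
    (hcone : ∀ T ∈ distTriang (DerivedCategory A), P T.obj₁ → P T.obj₂ → P T.obj₃)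
    (hPU : ∀ n : ℤ, P (((DerivedCategory.singleFunctor A 0).obj U)⟦n⟧)) (W : DerivedCategory A) : P W := by
  letI := smallDerivedCategory (ModuleCat.{v} (End U)ᵐᵒᵖ)
  haveI := hasCoproducts_derivedCategory (A := ModuleCat.{v} (End U)ᵐᵒᵖ)
  haveI := hasColimitsOfShape_of_equivalence (C := DerivedCategory (ModuleCat.{v} (End U)ᵐᵒᵖ))
    (Discrete.equivalence (Equiv.ulift.{v} (α := ℕ)))
  let T := IsGrothendieckAbelian.tensorObj U
  let tadj := IsGrothendieckAbelian.tensorObjPreadditiveCoyonedaObjAdjunction U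
  haveI : PreservesFiniteLimits T := IsGrothendieckAbelian.GabrielPopescu.preservesFiniteLimits U hU
  haveI := tadj.isLeftAdjoint
  haveI : PreservesBinaryBiproducts T := preservesBinaryBiproducts_of_preservesBinaryCoproducts T
  haveI : T.Additive := Functor.additive_of_preservesBinaryBiproducts _
  haveI := IsGrothendieckAbelian.GabrielPopescu.full U hU
  haveI := (isSeparator_iff_faithful_preadditiveCoyonedaObj U).1 hU
  let G := (preadditiveCoyonedaObj U).mapHomotopyCategory (ComplexShape.up ℤ) ⋙ DerivedCategory.Qh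
  haveI := KInj.hasRightDerivedFunctor (KInj.hres_of_isGrothendieckAbelian A) G
  obtain ⟨a, ha⟩ := KInj.exists_derived_adjunction (KInj.hres_of_isGrothendieckAbelian A) tadj _
    (G.totalRightDerivedUnit DerivedCategory.Qh (HomotopyCategory.quasiIso A (ComplexShape.up ℤ)))
  haveI := a.isLeftAdjoint
  haveI : T.mapDerivedCategory.IsTriangulated := inferInstance
  let L := T.mapDerivedCategory
  let R' := G.totalRightDerived DerivedCategory.Qh (HomotopyCategory.quasiIso A (ComplexShape.up ℤ))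
  let e0 : ∀ Y : A, (ModuleCat.of (End U)ᵐᵒᵖ (End U)ᵐᵒᵖ ⟶ (preadditiveCoyonedaObj U).obj Y) ≃ (U ⟶ Y) :=
    fun Y =>
      { toFun := fun φ => φ.hom 1
        invFun := fun f => ModuleCat.ofHom (LinearMap.toSpanSingleton (End U)ᵐᵒᵖ ((preadditiveCoyonedaObj U).obj Y) f)
        left_inv := fun φ => ModuleCat.hom_ext (LinearMap.ext_ring (one_smul (End U)ᵐᵒᵖ _))
        right_inv := fun f => one_smul (End U)ᵐᵒᵖ (show ((preadditiveCoyonedaObj U).obj Y : Type v) from f) }
  let e1 : ∀ Y : A, (T.obj (ModuleCat.of (End U)ᵐᵒᵖ (End U)ᵐᵒᵖ) ⟶ Y) ≃ (U ⟶ Y) := fun Y =>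
    (tadj.homEquiv _ Y).trans (e0 Y)
  have he1 : ∀ {Y Y' : A} (φ : T.obj (ModuleCat.of (End U)ᵐᵒᵖ (End U)ᵐᵒᵖ) ⟶ Y) (g : Y ⟶ Y'),
      e1 Y' (φ ≫ g) = e1 Y φ ≫ g := fun φ g => by
    show e0 _ (tadj.homEquiv _ _ (φ ≫ g)) = _
    rw [tadj.homEquiv_naturality_right]
    rfl
  let eU : T.obj (ModuleCat.of (End U)ᵐᵒᵖ (End U)ᵐᵒᵖ) ≅ U :=
    (Coyoneda.fullyFaithful.preimageIso (X := op U)
      (Y := op (T.obj (ModuleCat.of (End U)ᵐᵒᵖ (End U)ᵐᵒᵖ))) (NatIso.ofComponents (fun Y => (e1 Y).symm.toIso)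
        (fun {Y Y'} g => by
          ext f
          apply (e1 Y').injective
          show e1 Y' ((e1 Y').symm (f ≫ g)) = e1 Y' ((e1 Y).symm f ≫ g)
          rw [he1, Equiv.apply_symm_apply, Equiv.apply_symm_apply]))).unop
  have hR : ∀ n : ℤ, P (L.obj ((ringObj (End U)ᵐᵒᵖ)⟦n⟧)) := fun n => by
    refine P.prop_of_iso (((L.commShiftIso n).app _).symm) ?_
    refine P.prop_of_iso ((shiftFunctor _ n).mapIso ?_) (hPU n)
    exact ((DerivedCategory.singleFunctor A 0).mapIso eU).symm ≪≫
      ((T.mapDerivedCategorySingleFunctor 0).app _).symm ≪≫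
        L.mapIso (((DerivedCategory.singleFunctorIsoCompQ _ 0).app _) ≪≫
          ((DerivedCategory.quotientCompQhIso (ModuleCat.{v} (End U)ᵐᵒᵖ)).app (ringComplex (End U)ᵐᵒᵖ)).symm)
  have hb : ∀ Z : DerivedCategory (ModuleCat.{v} (End U)ᵐᵒᵖ), P (L.obj Z) := fun Z => by
    refine BrownRep.built (E := shiftFamily (fun _ : PUnit.{v + 1} => ringObj (End U)ᵐᵒᵖ))
      (perfect_shiftFamily perfect_ringObj) (shiftFamily_shift _) (detects_shiftFamily detects_ringObj) Z
      (P := fun Z => P (L.obj Z)) ⟨fun p => hR _, fun {κ} X hX => ?_, fun X hX => ?_, fun S hS h₁ h₂ => ?_⟩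
      (fun e h => P.prop_of_iso (L.mapIso e) h)
    · exact hsigma κ (fun k => L.obj (X k)) _ (isColimitCofanMkObjOfIsColimit L _ _ (coproductIsCoproduct X)) hX
    · let X' : ULift.{v} ℕ → DerivedCategory (ModuleCat.{v} (End U)ᵐᵒᵖ) := fun k => X k.down
      refine P.prop_of_iso (L.mapIso ?_) (hsigma (ULift.{v} ℕ) (fun k => L.obj (X' k)) _
        (isColimitCofanMkObjOfIsColimit L _ _ (coproductIsCoproduct X')) fun k => hX _)
      exact Sigma.whiskerEquiv Equiv.ulift fun _ => Iso.refl _
    · exact hcone _ (L.map_distinguished _ hS) h₁ h₂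
  exact P.prop_of_iso (asIso (a.counit.app W)) (hb _)

end Groth.Agent.DerCompLib
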