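import Groth.Agent.ProEtDCLib.DBij
import Mathlib.GroupTheory.QuotientGroup.Basic

/-!
# Derived completeness of endomorphisms of abelian groups

Sums and composites of commuting derived complete endomorphisms, and a five term lemma.
-/

set_option autoImplicit false

namespace Groth.Agent.DerCompLib

open Groth.Agent.ProEtDCLib

variable {M A B C D E : Type*} [AddCommGroup M] [AddCommGroup A] [AddCommGroup B] [AddCommGroup C]
  [AddCommGroup D] [AddCommGroup E]

theorem dBij_zero : DBij (0 : M →+ M) := dBij_of_iterate_eq_zero 1 fun _ => rfl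

/-- `1 - φ` is bijective if `φ` is derived complete. -/
theorem id_sub_bijective {φ : M →+ M} (h : DBij φ) : Function.Bijective (AddMonoidHom.id M - φ) := by
  refine ⟨(injective_iff_map_eq_zero _).2 fun a ha => ?_, fun b => ?_⟩
  · exact congrFun (h.eq_zero (x := fun _ => a) fun _ => sub_eq_zero.1 ha) 0
  · obtain ⟨x, hx⟩ := h.exists_solution fun _ => b
    have e : (fun n => x n - x (n + 1)) = 0 := h.eq_zero fun n => by
      have h1 := hx n
      have h2 := hx (n + 1)
      rw [← h2] at h1
      rw [map_sub]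
      exact sub_eq_sub_iff_sub_eq_sub.1 h1
    refine ⟨x 0, ?_⟩
    have h0 : x 0 = x 1 := sub_eq_zero.1 (congrFun e 0)
    show x 0 - φ (x 0) = b
    conv_lhs => arg 2; rw [h0]
    exact hx 0

/-- A composite with a commuting endomorphism is derived complete. -/
theorem dBij_comp_of_comm {f g : M →+ M} (hc : ∀ a, f (g a) = g (f a)) (hf : DBij f) : DBij (f.comp g) := by
  have hk : ∀ k a, f (g^[k] a) = g^[k] (f a) := fun k => by
    induction k with
    | zero => intro a; rfl
    | succ k ih => intro a; rw [Function.iterate_succ_apply', Function.iterate_succ_apply', hc, ih]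
  refine dBij_mk (fun x hx => ?_) fun y => ?_
  · funext m
    refine congrFun (hf.eq_zero (x := fun k => g^[k] (x (m + k))) fun k => ?_) 0
    show g^[k] (x (m + k)) = f (g^[k + 1] (x (m + (k + 1))))
    rw [hx (m + k), hk, Function.iterate_succ_apply, AddMonoidHom.comp_apply, hc, Nat.add_assoc]
  · choose v hv using fun m => hf.exists_solution fun k => g^[k] (y (m + k))
    refine ⟨fun m => v m 0, fun m => ?_⟩
    have e : (fun k => v m (k + 1) - g (v (m + 1) k)) = 0 := hf.eq_zero fun k => by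
      rw [map_sub, hc]
      refine sub_eq_sub_iff_sub_eq_sub.1 ?_
      rw [← map_sub, hv (m + 1) k, hv m (k + 1), Function.iterate_succ_apply',
        show m + (k + 1) = m + 1 + k by omega]
    have h1 : v m 1 = g (v (m + 1) 0) := sub_eq_zero.1 (congrFun e 0)
    show v m 0 - f (g (v (m + 1) 0)) = y m
    rw [← h1]
    exact hv m 0

/-- If `1` is in the ideal generated by two commuting derived complete endomorphisms, the group vanishes. -/
theorem eq_zero_of_add_bijective {f g : M →+ M} (hc : ∀ a, f (g a) = g (f a)) (hf : DBij f) (hg : DBij g)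
    (hb : Function.Bijective (f + g)) (z : M) : z = 0 := by
  let e := AddEquiv.ofBijective (f + g) hb
  have he : ∀ a, e a = f a + g a := fun _ => rfl
  have hfe : ∀ a, f (e.symm a) = e.symm (f a) := fun a => e.injective <| by
    rw [e.apply_symm_apply, he, ← hc, ← map_add, ← he, e.apply_symm_apply]
  have h1 := id_sub_bijective (dBij_comp_of_comm (f := f) (g := e.symm.toAddMonoidHom) hfe hf)
  have hgb : Function.Bijective g := by
    have h2 : (g : M → M) = (AddMonoidHom.id M - f.comp e.symm.toAddMonoidHom : M →+ M) ∘ e := funext fun a => by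
      show g a = e a - f (e.symm (e a))
      rw [e.symm_apply_apply, he, add_sub_cancel_left]
    rw [h2]
    exact h1.comp e.bijective
  let g' := AddEquiv.ofBijective g hgb
  exact congrFun (hg.eq_zero (x := fun n => g'.symm^[n] z) fun n => by
    rw [Function.iterate_succ_apply']
    exact (g'.apply_symm_apply _).symm) 0

/-- Sums of commuting derived complete endomorphisms are derived complete. -/
theorem dBij_add_of_comm {f g : M →+ M} (hc : ∀ a, f (g a) = g (f a)) (hf : DBij f) (hg : DBij g) :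
    DBij (f + g) := by
  let F : (ℕ → M) →+ (ℕ → M) := f.compLeft ℕ
  let G : (ℕ → M) →+ (ℕ → M) := g.compLeft ℕ
  let Δ := delta (f + g)
  have hF : DBij F := dBij_pi (φ := fun _ : ℕ => f) (fun _ _ => rfl) fun _ => hf
  have hG : DBij G := dBij_pi (φ := fun _ : ℕ => g) (fun _ _ => rfl) fun _ => hg
  have hΔ : ∀ (φ : M →+ M), (∀ a, φ (f a + g a) = f (φ a) + g (φ a)) →
      ∀ x, φ.compLeft ℕ (Δ x) = Δ (φ.compLeft ℕ x) := fun φ h x => funext fun n => by
    show φ (Δ x n) = φ (x n) - (f + g) (φ (x (n + 1)))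
    rw [delta_apply, map_sub, AddMonoidHom.add_apply, AddMonoidHom.add_apply, h]
  have hΔF := hΔ f fun a => by rw [map_add, hc]
  have hΔG := hΔ g fun a => by rw [map_add, hc]
  refine dBij_mk (fun x hx => ?_) fun y => ?_
  · have hker : ∀ z : ℕ → M, Δ z = 0 → ∀ φ : (ℕ → M) →+ (ℕ → M), (∀ w, φ (Δ w) = Δ (φ w)) → φ z ∈ Δ.ker :=
      fun z hz φ h => by rw [AddMonoidHom.mem_ker, ← h, hz, map_zero]
    let F' : Δ.ker →+ Δ.ker := (F.comp Δ.ker.subtype).codRestrict _ fun z => hker _ z.2 F hΔF
    let G' : Δ.ker →+ Δ.ker := (G.comp Δ.ker.subtype).codRestrict _ fun z => hker _ z.2 G hΔG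
    have hex : Function.Exact Δ.ker.subtype Δ := fun z => ⟨fun h => ⟨⟨z, h⟩, rfl⟩, by
      rintro ⟨w, rfl⟩
      exact w.2⟩
    have hF' : DBij F' := DBij.ker Δ.ker.subtype Δ (φB := F) (φC := F) (fun _ => rfl)
      (fun b => (hΔF b).symm) Subtype.val_injective hex hF hF
    have hG' : DBij G' := DBij.ker Δ.ker.subtype Δ (φB := G) (φC := G) (fun _ => rfl)
      (fun b => (hΔG b).symm) Subtype.val_injective hex hG hG
    have hxk : x ∈ Δ.ker := funext fun n => sub_eq_zero.2 (hx n)
    refine congrArg Subtype.val (eq_zero_of_add_bijective (fun a => Subtype.ext (funext fun n => hc _))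
      hF' hG' ⟨(injective_iff_map_eq_zero _).2 fun a ha => ?_, fun a => ?_⟩ ⟨x, hxk⟩)
    · ext n
      have h0 : (f + g) (a.1 (n + 1)) = 0 := congrFun (congrArg Subtype.val ha) (n + 1)
      exact (sub_eq_zero.1 (congrFun a.2 n)).trans h0
    · refine ⟨⟨fun n => a.1 (n + 1), funext fun n => congrFun a.2 (n + 1)⟩, Subtype.ext (funext fun n => ?_)⟩
      exact (sub_eq_zero.1 (congrFun a.2 n)).symm
  · let R := Δ.range
    let p := QuotientAddGroup.mk' R
    have hle : ∀ φ : (ℕ → M) →+ (ℕ → M), (∀ w, φ (Δ w) = Δ (φ w)) → R ≤ R.comap φ := fun φ h => by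
      rintro _ ⟨w, rfl⟩
      exact ⟨φ w, (h w).symm⟩
    let F' := QuotientAddGroup.map R R F (hle F hΔF)
    let G' := QuotientAddGroup.map R R G (hle G hΔG)
    have hex : Function.Exact Δ p := fun z => (QuotientAddGroup.eq_zero_iff z).trans Iff.rfl
    have hF' : DBij F' := DBij.coker Δ p (φA := F) (φB := F) (fun a => (hΔF a).symm) (fun _ => rfl)
      (QuotientAddGroup.mk'_surjective R) hex hF hF
    have hG' : DBij G' := DBij.coker Δ p (φA := G) (φB := G) (fun a => (hΔG a).symm) (fun _ => rfl)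
      (QuotientAddGroup.mk'_surjective R) hex hG hG
    let σ : (ℕ → M) → ℕ → M := fun z n => z (n + 1)
    have hσ : ∀ z, F (σ z) + G (σ z) = z - Δ z := fun z => funext fun n => by
      show f (z (n + 1)) + g (z (n + 1)) = z n - (z n - (f + g) (z (n + 1)))
      rw [sub_sub_cancel, AddMonoidHom.add_apply]
    have h0 : p y = 0 := eq_zero_of_add_bijective (f := F') (g := G')
      (fun a => by
        obtain ⟨a, rfl⟩ := QuotientAddGroup.mk'_surjective R a
        exact congrArg p (funext fun n => hc _))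
      hF' hG' ⟨(injective_iff_map_eq_zero _).2 fun a ha => ?_, fun a => ?_⟩ (p y)
    · obtain ⟨w, hw⟩ := (hex y).1 h0
      exact ⟨w, congrFun hw⟩
    · obtain ⟨z, rfl⟩ := QuotientAddGroup.mk'_surjective R a
      obtain ⟨w, hw⟩ : F z + G z ∈ R := (QuotientAddGroup.eq_zero_iff _).1 ha
      refine (QuotientAddGroup.eq_zero_iff z).2 ⟨z + σ w, ?_⟩
      rw [map_add]
      have hσΔ : Δ (σ w) = σ (Δ w) := funext fun n => rfl
      rw [hσΔ, hw]
      show Δ z + σ (F z + G z) = z
      rw [show σ (F z + G z) = F (σ z) + G (σ z) from rfl, hσ, add_sub_cancel]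
    · obtain ⟨z, rfl⟩ := QuotientAddGroup.mk'_surjective R a
      refine ⟨p (σ z), ?_⟩
      show p (F (σ z)) + p (G (σ z)) = p z
      rw [← map_add, hσ, map_sub, hex.apply_apply_eq_zero, sub_zero]

/-- Five term lemma. -/
theorem dBij_five {φA : A →+ A} {φB : B →+ B} {φC : C →+ C} {φD : D →+ D} {φE : E →+ E}
    (i : A →+ B) (j : B →+ C) (k : C →+ D) (l : D →+ E)
    (hi : ∀ a, i (φA a) = φB (i a)) (hj : ∀ a, j (φB a) = φC (j a))
    (hk : ∀ a, k (φC a) = φD (k a)) (hl : ∀ a, l (φD a) = φE (l a))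
    (h1 : Function.Exact i j) (h2 : Function.Exact j k) (h3 : Function.Exact k l)
    (hA : DBij φA) (hB : DBij φB) (hD : DBij φD) (hE : DBij φE) : DBij φC := by
  let φI : j.range →+ j.range := (φC.comp j.range.subtype).codRestrict _ fun z => by
    obtain ⟨b, hb⟩ := z.2
    exact ⟨φB b, by rw [hj, hb]; rfl⟩
  let φJ : k.range →+ k.range := (φD.comp k.range.subtype).codRestrict _ fun z => by
    obtain ⟨b, hb⟩ := z.2
    exact ⟨φC b, by rw [hk, hb]; rfl⟩
  have hI : DBij φI := DBij.coker i j.rangeRestrict (φA := φA) (φB := φB) hi (fun b => Subtype.ext (hj b))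
    j.rangeRestrict_surjective
    (fun b => Subtype.ext_iff.trans (h1 b)) hA hB
  have hJ : DBij φJ := DBij.ker k.range.subtype l (φB := φD) (φC := φE) (fun _ => rfl) hl Subtype.val_injective
    (fun d => (h3 d).trans ⟨fun ⟨c, hc⟩ => ⟨⟨d, c, hc⟩, rfl⟩, fun ⟨z, hz⟩ => hz ▸ z.2⟩) hD hE
  exact DBij.middle j.range.subtype k.rangeRestrict (φA := φI) (φC := φJ) (fun _ => rfl)
    (fun c => Subtype.ext (hk c)) Subtype.val_injective k.rangeRestrict_surjective
    (fun c => (Subtype.ext_iff.trans (h2 c)).trans ⟨fun ⟨b, hb⟩ => ⟨⟨c, b, hb⟩, rfl⟩, fun ⟨z, hz⟩ => hz ▸ z.2⟩)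
    hI hJ

end Groth.Agent.DerCompLib
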