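import Groth.Agent.DerCompLib.Tri

/-!
# Left orthogonality to complete objects through iterated cones

For finitely many scalars, an object is left orthogonal to all objects which are complete for
each of them iff the iterated cone of multiplication by the scalars vanishes. This makes left
orthogonality stable under linear triangulated functors.
-/

set_option autoImplicit false
set_option linter.style.haveILetI false
set_option linter.unusedSectionVars false

universe w w' v v' u u'

open CategoryTheory CategoryTheory.Limits CategoryTheory.Pretriangulated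

noncomputable section

namespace Groth.Agent.DerCompLib

open Groth.Agent.ProEtDCLib

variable {R : Type w} [CommRing R] {T : Type u} [Category.{v} T] [Preadditive T] [HasZeroObject T]
  [HasShift T ℤ] [∀ n : ℤ, (shiftFunctor T n).Additive] [Pretriangulated T] [Linear R T]
  [∀ n : ℤ, (shiftFunctor T n).Linear R]

/-- `X` is left orthogonal to the objects complete for all the scalars of the list. -/
def LOrth (l : List R) (X : T) : Prop :=
  ∀ Z : T, (∀ r ∈ l, Compl r Z) → ∀ u : X ⟶ Z, u = 0

/-- The iterated cone of multiplication by the scalars of the list vanishes. -/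
def KVan : List R → T → Prop
  | [], X => IsZero X
  | r :: l, X => ∃ (C : T) (g : X ⟶ C) (h : C ⟶ X⟦(1 : ℤ)⟧),
      Triangle.mk (r • 𝟙 X) g h ∈ distTriang T ∧ KVan l C

/-- The cone of multiplication by `r` is complete for `r`. -/
theorem compl_cone {r : R} {X C : T} {g : X ⟶ C} {h : C ⟶ X⟦(1 : ℤ)⟧}
    (hT : Triangle.mk (r • 𝟙 X) g h ∈ distTriang T) : Compl r C := by
  refine compl_mk fun Y => dBij_of_iterate_eq_zero 2 fun a => ?_
  show r • r • a = 0
  obtain ⟨b, hb⟩ := Triangle.coyoneda_exact₂ _ (rot_of_distTriang _ hT) (r • a) (by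
    show (r • a) ≫ h = 0
    have h31 : h ≫ (r • 𝟙 X)⟦(1 : ℤ)⟧' = 0 := comp_distTriang_mor_zero₃₁ _ hT
    rw [Functor.map_smul, CategoryTheory.Functor.map_id, Linear.comp_smul, Category.comp_id] at h31
    rw [Linear.smul_comp, ← Linear.comp_smul, h31, comp_zero])
  have h12 : (r • 𝟙 X) ≫ g = 0 := comp_distTriang_mor_zero₁₂ _ hT
  rw [Linear.smul_comp, Category.id_comp] at h12
  rw [hb]
  exact ((Linear.comp_smul _ _ _ b r g).symm.trans (congrArg (b ≫ ·) h12)).trans comp_zero

theorem LOrth.shift {l : List R} {X : T} (hX : LOrth l X) (n : ℤ) : LOrth l (X⟦n⟧) := fun Z hZ u => by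
  apply (shiftFunctor T (-n)).map_injective
  rw [← cancel_epi ((shiftFunctorCompIsoId T n (-n) (add_neg_cancel n)).inv.app X), Functor.map_zero, comp_zero]
  exact hX _ (fun r hr => (hZ r hr).shift (-n)) _

theorem LOrth.of_iso {l : List R} {X X' : T} (hX : LOrth l X) (e : X ≅ X') : LOrth l X' := fun Z hZ u => by
  rw [← cancel_epi e.hom, comp_zero]
  exact hX Z hZ _

theorem LOrth.mono {l l' : List R} {X : T} (hX : LOrth l X) (h : ∀ r ∈ l, r ∈ l') : LOrth l' X :=
  fun Z hZ u => hX Z (fun r hr => hZ r (h r hr)) u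

/-- Left orthogonality of a cone. -/
theorem LOrth.obj₃ {l : List R} (D : Triangle T) (hT : D ∈ distTriang T) (h₁ : LOrth l D.obj₁)
    (h₂ : LOrth l D.obj₂) : LOrth l D.obj₃ := fun Z hZ u => by
  obtain ⟨v, rfl⟩ := Triangle.yoneda_exact₃ D hT u (h₂ Z hZ _)
  rw [h₁.shift 1 Z hZ v]
  exact comp_zero

theorem LOrth.obj₂ {l : List R} (D : Triangle T) (hT : D ∈ distTriang T) (h₁ : LOrth l D.obj₁)
    (h₃ : LOrth l D.obj₃) : LOrth l D.obj₂ := fun Z hZ u => by
  obtain ⟨v, rfl⟩ := Triangle.yoneda_exact₂ D hT u (h₁ Z hZ _)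
  rw [h₃ Z hZ v]
  exact comp_zero

/-- A complete object left orthogonal to complete objects vanishes. -/
theorem LOrth.isZero {l : List R} {X : T} (hX : LOrth l X) (hc : ∀ r ∈ l, Compl r X) : IsZero X :=
  (IsZero.iff_id_eq_zero X).2 (hX X hc _)

theorem KVan.lOrth : ∀ {l : List R} {X : T}, KVan l X → LOrth l X
  | [], _, h, _, _, u => h.eq_of_src u 0
  | r :: l, X, ⟨C, g, h, hT, hC⟩, Z, hZ, u => by
    have ih := hC.lOrth
    have hsurj : ∀ x : X ⟶ Z, ∃ y : X ⟶ Z, x = r • y := fun x => by
      obtain ⟨y, hy⟩ := Triangle.yoneda_exact₂ _ (inv_rot_of_distTriang _ hT) x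
        (ih.shift (-1) Z (fun i hi => hZ i (List.mem_cons_of_mem r hi)) _)
      refine ⟨y, hy.trans ?_⟩
      exact (Linear.smul_comp X X Z r (𝟙 X) y).trans (congrArg (r • ·) (Category.id_comp y))
    choose y hy using hsurj
    exact congrFun (((hZ r List.mem_cons_self).dBij X).eq_zero (x := fun n => y^[n] u) fun n => by
      show y^[n] u = r • y^[n + 1] u
      rw [Function.iterate_succ_apply']
      exact hy _) 0

theorem kVan_of_lOrth_aux (L : List R) : ∀ (l : List R) (X : T), LOrth L X →
    (∀ r ∈ L, r ∈ l ∨ Compl r X) → KVan l X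
  | [], X, hX, hc => hX.isZero fun r hr => (hc r hr).resolve_left List.not_mem_nil
  | r :: l, X, hX, hc => by
    obtain ⟨C, g, h, hT⟩ := distinguished_cocone_triangle (r • 𝟙 X)
    refine ⟨C, g, h, hT, kVan_of_lOrth_aux L l C (hX.obj₃ _ hT hX) fun s hs => ?_⟩
    rcases hc s hs with hs' | hs'
    · rcases List.mem_cons.1 hs' with rfl | hs'
      · exact Or.inr (compl_cone hT)
      · exact Or.inl hs'
    · exact Or.inr (compl_obj₃ _ hT hs' hs')

theorem kVan_iff_lOrth {l : List R} {X : T} : KVan l X ↔ LOrth l X :=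
  ⟨KVan.lOrth, fun h => kVan_of_lOrth_aux l l X h fun _ hr => Or.inl hr⟩

section Functor

variable {R' : Type w'} [CommRing R'] {T' : Type u'} [Category.{v'} T'] [Preadditive T'] [HasZeroObject T']
  [HasShift T' ℤ] [∀ n : ℤ, (shiftFunctor T' n).Additive] [Pretriangulated T'] [Linear R' T']
  [∀ n : ℤ, (shiftFunctor T' n).Linear R'] (G : T ⥤ T') [G.CommShift ℤ] [G.IsTriangulated]
  {ι : Type*} (r : ι → R) (r' : ι → R') (hG : ∀ i (Y : T), G.map (r i • 𝟙 Y) = r' i • 𝟙 (G.obj Y))

include hG in
/-- Vanishing of iterated cones is stable under linear triangulated functors. -/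
theorem KVan.map : ∀ {l : List ι} {X : T}, KVan (l.map r) X → KVan (l.map r') (G.obj X)
  | [], X, h => G.map_isZero h
  | i :: l, X, ⟨C, g, h, hT, hC⟩ => by
    refine ⟨G.obj C, G.map g, G.map h ≫ (G.commShiftIso (1 : ℤ)).hom.app X, ?_, KVan.map hC⟩
    have h' := G.map_distinguished _ hT
    rw [← hG i X]
    exact h'

include hG in
theorem LOrth.map {l : List ι} {X : T} (hX : LOrth (l.map r) X) : LOrth (l.map r') (G.obj X) :=
  ((kVan_iff_lOrth.2 hX).map G r r' hG).lOrth

end Functor

end Groth.Agent.DerCompLib
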