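import Groth.Agent.DerCompLib.Grp
import Groth.Agent.KInj.Products
import Mathlib.Algebra.Homology.DerivedCategory.SingleTriangle
import Mathlib.Algebra.Homology.HomologicalComplexLimits

/-!
# Maps out of a telescope in a derived category
-/

set_option autoImplicit false
set_option linter.style.haveILetI false
set_option linter.unusedSectionVars false
set_option backward.isDefEq.respectTransparency false
set_option backward.isDefEq.respectTransparency.types false

universe w v u

open CategoryTheory CategoryTheory.Limits CategoryTheory.Pretriangulated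

noncomputable section

namespace Groth.Agent.DerCompLib

open Groth.Agent.ProEtDCLib

variable {A : Type u} [Category.{v} A] [Abelian A] [HasDerivedCategory.{w} A]
  (hres : ∀ K : CochainComplex A ℤ, ∃ (I : CochainComplex A ℤ) (f : K ⟶ I), I.IsKInjective ∧ QuasiIso f)

/-- An object in degree zero. -/
abbrev single₀ (M : A) : DerivedCategory A := (DerivedCategory.singleFunctor A 0).obj M

/-- Components of maps out of a coproduct placed in degree zero. -/
def sigmaComps {Z : A} {P : A} (ι : ℕ → (Z ⟶ P)) (Y : DerivedCategory A) :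
    (single₀ P ⟶ Y) →+ (ℕ → (single₀ Z ⟶ Y)) :=
  AddMonoidHom.pi fun n => Preadditive.leftComp Y ((DerivedCategory.singleFunctor A 0).map (ι n))

include hres in
theorem sigmaComps_bijective [HasCoproductsOfShape ℕ A] {Z P : A} {ι : ℕ → (Z ⟶ P)}
    (hc : IsColimit (Cofan.mk P ι)) (Y : DerivedCategory A) : Function.Bijective (sigmaComps ι Y) := by
  let S := HomologicalComplex.single A (ComplexShape.up ℤ) 0
  let q := HomotopyCategory.quotient A (ComplexShape.up ℤ)
  let J := KInj.model hres Y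
  let e : ∀ M : A, (single₀ M ⟶ Y) ≃ (q.obj (S.obj M) ⟶ q.obj J) := fun M => KInj.modelHomEquiv hres _ Y
  have he : ∀ {M N : A} (g : M ⟶ N) (x : single₀ N ⟶ Y),
      e M ((DerivedCategory.singleFunctor A 0).map g ≫ x) = q.map (S.map g) ≫ e N x :=
    fun {M N} g x => KInj.modelHomEquiv_comp hres (q.obj (S.obj M)) (q.obj (S.obj N)) Y (q.map (S.map g)) x
  have hc' := isColimitCofanMkObjOfIsColimit S _ _ hc
  refine ⟨(injective_iff_map_eq_zero _).2 fun x hx => ?_, fun y => ?_⟩
  · obtain ⟨h, hh⟩ := q.map_surjective (e P x)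
    obtain ⟨H⟩ := KInj.homotopic_zero_of_coproduct hc' h fun n =>
      ⟨HomotopyCategory.homotopyOfEq _ _ (by
        show q.map (S.map (ι n) ≫ h) = q.map 0
        rw [q.map_comp, hh, ← he, show (DerivedCategory.singleFunctor A 0).map (ι n) ≫ x = 0 from congrFun hx n,
          show (0 : single₀ Z ⟶ Y) = (DerivedCategory.singleFunctor A 0).map (0 : Z ⟶ P) ≫ x by
            rw [Functor.map_zero, zero_comp],
          he, Functor.map_zero, Functor.map_zero, zero_comp, Functor.map_zero])⟩
    have h0 : e P x = 0 := by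
      rw [← hh]
      exact (HomotopyCategory.eq_of_homotopy _ _ H).trans (Functor.map_zero _ _ _)
    refine (e P).injective (h0.trans ?_)
    have hz : (0 : single₀ P ⟶ Y) = (DerivedCategory.singleFunctor A 0).map (0 : P ⟶ P) ≫ x := by
      rw [Functor.map_zero, zero_comp]
    rw [hz, he, Functor.map_zero, Functor.map_zero, zero_comp]
  · choose h hh using fun n => q.map_surjective (e Z (y n))
    refine ⟨(e P).symm (q.map (Cofan.IsColimit.desc hc' h)), funext fun n => (e Z).injective ?_⟩
    show e Z ((DerivedCategory.singleFunctor A 0).map (ι n) ≫ _) = e Z (y n)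
    rw [he, Equiv.apply_symm_apply, ← q.map_comp, ← hh]
    exact congrArg q.map (Cofan.IsColimit.fac hc' h n)

/-- Precomposition with an endomorphism of an object placed in degree zero. -/
abbrev preEnd {Z : A} (e : Z ⟶ Z) (Y : DerivedCategory A) : (single₀ Z ⟶ Y) →+ (single₀ Z ⟶ Y) :=
  Preadditive.leftComp Y ((DerivedCategory.singleFunctor A 0).map e)

include hres in
/-- Maps out of a telescope vanish iff precomposition with its endomorphism is derived complete. -/
theorem subsingleton_telescope_iff [HasCoproductsOfShape ℕ A] {Z P Q : A} {ι : ℕ → (Z ⟶ P)}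
    (hc : IsColimit (Cofan.mk P ι)) (e : Z ⟶ Z) (m : P ⟶ P) (hm : ∀ n, ι n ≫ m = ι n - e ≫ ι (n + 1))
    (π : P ⟶ Q) (w : m ≫ π = 0) (hS : (ShortComplex.mk m π w).ShortExact) (K : DerivedCategory A) :
    (∀ n : ℤ, Subsingleton (single₀ Q ⟶ K⟦n⟧)) ↔ ∀ n : ℤ, DBij (preEnd e (K⟦n⟧)) := by
  let F := DerivedCategory.singleFunctor A 0
  have key : ∀ n : ℤ, DBij (preEnd e (K⟦n⟧)) ↔
      Function.Bijective (Preadditive.leftComp (K⟦n⟧) (F.map m)) := fun n => by
    have hb := sigmaComps_bijective hres hc (K⟦n⟧)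
    have : delta (preEnd e (K⟦n⟧)) ∘ sigmaComps ι (K⟦n⟧) =
        sigmaComps ι (K⟦n⟧) ∘ Preadditive.leftComp (K⟦n⟧) (F.map m) := funext fun x => funext fun k => by
      show F.map (ι k) ≫ x - F.map e ≫ F.map (ι (k + 1)) ≫ x = F.map (ι k) ≫ F.map m ≫ x
      rw [← F.map_comp_assoc, ← F.map_comp_assoc, hm, Functor.map_sub, Preadditive.sub_comp]
    show Function.Bijective (delta _) ↔ _
    rw [← Function.Bijective.of_comp_iff _ hb, this, Function.Bijective.of_comp_iff' hb]
  simp only [key]
  have hT := hS.singleTriangle_distinguished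
  have h21 : F.map m ≫ F.map π = 0 := by rw [← F.map_comp, w, Functor.map_zero]
  refine ⟨fun h n => ⟨(injective_iff_map_eq_zero _).2 fun x hx => ?_, fun x => ?_⟩, fun h n => ⟨fun a b => ?_⟩⟩
  · obtain ⟨y, hy⟩ := Triangle.yoneda_exact₂ _ hT x hx
    rw [hy, (h n).elim y 0]
    exact comp_zero
  · obtain ⟨y, hy⟩ := Triangle.yoneda_exact₂ _ (inv_rot_of_distTriang _ hT) x (by
      show _ ≫ x = 0
      let φ : (shiftFunctor (DerivedCategory A) (-1 : ℤ)).obj (single₀ Q) ⟶ K⟦n⟧ := hS.singleTriangle.invRotate.mor₁ ≫ x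
      show φ = 0
      apply (shiftFunctor (DerivedCategory A) (1 : ℤ)).map_injective
      rw [Functor.map_zero, ← cancel_epi ((shiftFunctorCompIsoId (DerivedCategory A) (-1 : ℤ) 1 (by norm_num)).inv.app (single₀ Q)),
        ← cancel_mono ((shiftFunctorAdd' (DerivedCategory A) n (1 : ℤ) (n + 1) rfl).inv.app K)]
      exact (h (n + 1)).elim _ _)
    exact ⟨y, hy.symm⟩
  · suffices hz : ∀ x : single₀ Q ⟶ K⟦n⟧, x = 0 from (hz a).trans (hz b).symm
    intro x
    have h2 : F.map π ≫ x = 0 := (h n).1 <| by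
      rw [map_zero]
      show F.map m ≫ F.map π ≫ x = 0
      rw [← Category.assoc, h21, zero_comp]
    obtain ⟨y, hy⟩ := Triangle.yoneda_exact₂ _ (rot_of_distTriang _ hT) x h2
    change single₀ P⟦(1 : ℤ)⟧ ⟶ K⟦n⟧ at y
    let ε := (shiftFunctorAdd' (DerivedCategory A) (n - 1) (1 : ℤ) n (by omega)).app K
    obtain ⟨y', hy'⟩ := (shiftFunctor (DerivedCategory A) (1 : ℤ)).map_surjective (y ≫ ε.hom)
    obtain ⟨z, hz⟩ := (h (n - 1)).2 y'
    have hy2 : y = (F.map m)⟦(1 : ℤ)⟧' ≫ z⟦(1 : ℤ)⟧' ≫ ε.inv := by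
      rw [← Category.assoc, ← Functor.map_comp, show F.map m ≫ z = y' from hz, hy', Category.assoc,
        ε.hom_inv_id, Category.comp_id]
    rw [hy, hy2]
    exact (Category.assoc _ _ _).symm.trans
      ((congrArg (· ≫ z⟦(1 : ℤ)⟧' ≫ ε.inv) (show hS.singleTriangle.mor₃ ≫ (F.map m)⟦(1 : ℤ)⟧' = 0 from
        comp_distTriang_mor_zero₃₁ _ hT)).trans zero_comp)

end Groth.Agent.DerCompLib
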