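import Groth.Agent.DerCompLib.Tri
import Groth.Agent.DerCompLib.Telescope
import Groth.Agent.ProEtDCLib.ExtDC
import Groth.Agent.SiteBase.ExtZeroMod
import Groth.Agent.SiteBase.FreeOn
import Groth.Agent.RlimCrit.Local
import Groth.Agent.RlimCrit.Instances
import Groth.Agent.SiteCmpLib.Stab
import Groth.Prelude.Def_DerComp

/-!
# Derived complete objects on a ringed site, tested on `j_{U!} O_U`
-/

set_option autoImplicit false
set_option linter.style.haveILetI false
set_option linter.unusedSectionVars false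
set_option backward.isDefEq.respectTransparency false
set_option backward.isDefEq.respectTransparency.types false

universe u

open CategoryTheory CategoryTheory.Limits CategoryTheory.Pretriangulated Opposite

attribute [local instance] HasDerivedCategory.standard

noncomputable section

namespace Groth.Agent.DerCompLib

open Groth.Agent.ProEtDCLib

variable {C : Type u} [SmallCategory C] {J : GrothendieckTopology C} (O : Sheaf J CommRingCat.{u})

theorem hres : ∀ K : CochainComplex (ModSite.Mod O) ℤ,
    ∃ (I : CochainComplex (ModSite.Mod O) ℤ) (φ : K ⟶ I), I.IsKInjective ∧ QuasiIso φ :=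
  SiteCmpLib.hres_mod O

theorem hasProducts : HasProductsOfShape ℕ (DerivedCategory (ModSite.Mod O)) :=
  SiteCmpLib.hasProducts_mod O

/-! ### Elementary properties of multiplication by sections -/

theorem ofSect_add (U : C) (f g : O.obj.obj (op U)) :
    DerComp.GSec.ofSect O U (f + g) = DerComp.GSec.ofSect O U f + DerComp.GSec.ofSect O U g :=
  Subtype.ext (funext fun _ => map_add _ _ _)

theorem ofSect_mul (U : C) (f g : O.obj.obj (op U)) :
    DerComp.GSec.ofSect O U (f * g) = DerComp.GSec.ofSect O U f * DerComp.GSec.ofSect O U g :=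
  Subtype.ext (funext fun _ => map_mul _ _ _)

theorem ofSect_zero (U : C) : DerComp.GSec.ofSect O U (0 : O.obj.obj (op U)) = 0 :=
  Subtype.ext (funext fun _ => map_zero _)

theorem ofSect_val (s : DerComp.GSec O) (U : C) : DerComp.GSec.ofSect O U (s.1 U) = DerComp.GSec.toOver s U :=
  Subtype.ext (funext fun V => s.2 V.hom)

theorem restr_map_smulEnd (s : DerComp.GSec O) (U : C) (M : ModSite.Mod O) :
    (ModSite.restr O U).map (DerComp.smulEnd s M) =
      DerComp.smulEnd (DerComp.GSec.toOver s U) ((ModSite.restr O U).obj M) := by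
  ext X x
  rfl

theorem extZero_map_smulEnd (s : DerComp.GSec O) (U : C) (M : ModSite.Mod (O.over U)) :
    (ModSite.extZero O U).map (DerComp.smulEnd (DerComp.GSec.toOver s U) M) =
      DerComp.smulEnd s ((ModSite.extZero O U).obj M) := by
  refine ((ModSite.extZeroAdj O U).homEquiv _ _).injective ?_
  rw [Adjunction.homEquiv_unit, Adjunction.homEquiv_unit, restr_map_smulEnd]
  exact ((ModSite.extZeroAdj O U).unit.naturality _).symm.trans (DerComp.smulEnd_comm _ _)

/-! ### Test objects -/

/-- `j_{U!} O_U` in degree zero. -/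
abbrev E (U : C) : DerivedCategory (ModSite.Mod O) := SiteCmp.inD O (ModSite.freeOn O U)

/-- Multiplication by a section over `U` on `j_{U!} O_U`. -/
abbrev endF (U : C) (f : O.obj.obj (op U)) : ModSite.freeOn O U ⟶ ModSite.freeOn O U :=
  (ModSite.extZero O U).map (DerComp.smulEnd (DerComp.GSec.ofSect O U f) (ModSite.unit (O.over U)))

theorem endF_add (U : C) (f g : O.obj.obj (op U)) : endF O U (f + g) = endF O U f + endF O U g := by
  rw [endF, ofSect_add, DerComp.smulEnd_add, Functor.map_add]

theorem endF_zero (U : C) : endF O U (0 : O.obj.obj (op U)) = 0 := by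
  rw [endF, ofSect_zero, DerComp.smulEnd_zero, Functor.map_zero]

theorem endF_mul (U : C) (f g : O.obj.obj (op U)) : endF O U (f * g) = endF O U f ≫ endF O U g := by
  rw [endF, ofSect_mul, ← DerComp.smulEnd_comp, Functor.map_comp]

theorem endF_val (s : DerComp.GSec O) (U : C) :
    endF O U (s.1 U) = DerComp.smulEnd s (ModSite.freeOn O U) := by
  rw [endF, ofSect_val, extZero_map_smulEnd]

/-- Multiplication by `f` on `Hom(j_{U!} O_U, Y)`. -/
abbrev act (U : C) (f : O.obj.obj (op U)) (Y : DerivedCategory (ModSite.Mod O)) :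
    (E O U ⟶ Y) →+ (E O U ⟶ Y) :=
  preEnd (endF O U f) Y

theorem act_add (U : C) (f g : O.obj.obj (op U)) (Y : DerivedCategory (ModSite.Mod O)) :
    act O U (f + g) Y = act O U f Y + act O U g Y := by
  ext x
  show (DerivedCategory.singleFunctor _ 0).map (endF O U (f + g)) ≫ x = _
  rw [endF_add, Functor.map_add, Preadditive.add_comp]
  rfl

theorem act_mul (U : C) (f g : O.obj.obj (op U)) (Y : DerivedCategory (ModSite.Mod O)) :
    act O U (f * g) Y = (act O U f Y).comp (act O U g Y) := by
  ext x
  show (DerivedCategory.singleFunctor _ 0).map (endF O U (f * g)) ≫ x = _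
  rw [endF_mul, Functor.map_comp, Category.assoc]
  rfl

theorem act_comm (U : C) (f g : O.obj.obj (op U)) (Y : DerivedCategory (ModSite.Mod O)) (x : E O U ⟶ Y) :
    act O U f Y (act O U g Y x) = act O U g Y (act O U f Y x) := by
  rw [← AddMonoidHom.comp_apply, ← act_mul, mul_comm, act_mul, AddMonoidHom.comp_apply]

theorem act_val (s : DerComp.GSec O) (U : C) (Y : DerivedCategory (ModSite.Mod O)) (x : E O U ⟶ Y) :
    act O U (s.1 U) Y x = s • x := by
  show (DerivedCategory.singleFunctor _ 0).map (endF O U (s.1 U)) ≫ x = s • x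
  rw [endF_val, show DerComp.smulEnd s (ModSite.freeOn O U) = s • 𝟙 (ModSite.freeOn O U) from
    (Category.comp_id _).symm, Functor.map_smul, CategoryTheory.Functor.map_id, Linear.smul_comp, Category.id_comp]

/-- `K` is derived complete at the section `f` over `U`. -/
def CplAt (U : C) (f : O.obj.obj (op U)) (K : DerivedCategory (ModSite.Mod O)) : Prop :=
  ∀ n : ℤ, DBij (act O U f (K⟦n⟧))

/-- The telescope criterion. -/
theorem subsingleton_away_iff (U : C) (f : O.obj.obj (op U)) (K : DerivedCategory (ModSite.Mod O)) :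
    (∀ n : ℤ, Subsingleton (SiteCmp.inD O ((ModSite.extZero O U).obj (DerComp.awayOver O U f)) ⟶ K⟦n⟧)) ↔
      CplAt O U f K := by
  haveI : IsGrothendieckAbelian.{u} (ModSite.Mod O) := ModTensor.isGrothendieckAbelian_mod O
  haveI : IsGrothendieckAbelian.{u} (ModSite.Mod (O.over U)) := ModTensor.isGrothendieckAbelian_mod _
  haveI : HasExactColimitsOfShape (Finset (Discrete ℕ)) (ModSite.Mod (O.over U)) :=
    HasExactColimitsOfShape.of_domain_equivalence _ (AsSmall.equiv.{0, 0, u} (C := Finset (Discrete ℕ))).symm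
  let s := DerComp.GSec.ofSect O U f
  let M := ModSite.unit (O.over U)
  let F := ModSite.extZero O U
  haveI : PreservesColimit (Discrete.functor fun _ : ℕ => M) F :=
    ((ModSite.extZeroAdj O U).leftAdjoint_preservesColimits.{0, 0}).preservesColimitsOfShape.preservesColimit
  have hmono : Mono (DerComp.awayMap s M) := by
    have e : DerComp.awayMap s M = tel s M := by
      refine Sigma.hom_ext _ _ fun n => ?_
      rw [DerComp.awayMap, Sigma.ι_desc, ι_tel, DerComp.smul_def, Category.comp_id]
    rw [e]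
    exact mono_tel s M
  let S := ShortComplex.mk (DerComp.awayMap s M) (cokernel.π (DerComp.awayMap s M)) (cokernel.condition _)
  have hS : S.ShortExact := { exact := ShortComplex.exact_cokernel _ }
  have hS' := hS.map_of_exact F
  refine subsingleton_telescope_iff (hres O)
    (isColimitOfHasCoproductOfPreservesColimit F (fun _ : ℕ => M)) (endF O U f) (F.map (DerComp.awayMap s M))
    (fun n => ?_) (F.map (cokernel.π (DerComp.awayMap s M))) _ hS' K
  show F.map (Sigma.ι (fun _ : ℕ => M) n) ≫ F.map (DerComp.awayMap s M) =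
    F.map (Sigma.ι (fun _ : ℕ => M) n) - F.map _ ≫ F.map (Sigma.ι (fun _ : ℕ => M) (n + 1))
  rw [← F.map_comp, ← F.map_comp, ← F.map_sub]
  exact congrArg F.map (Sigma.ι_desc _ _)

theorem isDerComp_iff (I : DerComp.IdealSh O) (K : DerivedCategory (ModSite.Mod O)) :
    DerComp.IsDerComp O I K ↔ ∀ (U : C) (f : O.obj.obj (op U)), f ∈ I.ideal U → CplAt O U f K :=
  forall_congr' fun U => forall_congr' fun f => forall_congr' fun _ => subsingleton_away_iff O U f K

variable {O}

theorem CplAt.zero (U : C) (K : DerivedCategory (ModSite.Mod O)) :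
    CplAt O U (0 : O.obj.obj (op U)) K := fun n =>
  dBij_of_iterate_eq_zero 1 fun x => by
    show (DerivedCategory.singleFunctor _ 0).map (endF O U (0 : O.obj.obj (op U))) ≫ x = 0
    rw [endF_zero, Functor.map_zero, zero_comp]

theorem CplAt.add {U : C} {f g : O.obj.obj (op U)} {K : DerivedCategory (ModSite.Mod O)}
    (hf : CplAt O U f K) (hg : CplAt O U g K) : CplAt O U (f + g) K := fun n => by
  rw [act_add]
  exact dBij_add_of_comm (act_comm O U f g _) (hf n) (hg n)

theorem CplAt.mul_left {U : C} (r : O.obj.obj (op U)) {f : O.obj.obj (op U)}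
    {K : DerivedCategory (ModSite.Mod O)} (hf : CplAt O U f K) : CplAt O U (r * f) K := fun n => by
  rw [mul_comm, act_mul]
  exact dBij_comp_of_comm (act_comm O U f r _) (hf n)

theorem Compl.cplAt {s : DerComp.GSec O} {K : DerivedCategory (ModSite.Mod O)} (h : Compl s K) (U : C) :
    CplAt O U (s.1 U) K := fun n => by
  rw [show act O U (s.1 U) (K⟦n⟧) = hs s (E O U) (K⟦n⟧) from AddMonoidHom.ext fun x => act_val O s U _ x]
  exact h (E O U) n

/-! ### The objects `j_{U!} O_U` detect zero objects -/

variable (O) in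
/-- The free sheaf of modules on an object is `j_{U!} O_U`. -/
def modPIso (U : C) : (RlimCrit.modP (ModSite.ringSh O)).obj U ≅ ModSite.freeOn O U :=
  SiteBase.FreeOn.isoOfEquiv O U _ (fun N => SiteCmpLib.secFree O U N) fun {N N'} φ g => by
    simp only [SiteCmpLib.secFree, Equiv.trans_apply, Adjunction.homEquiv_naturality_right, yonedaEquiv_comp]
    rfl

variable (O) in
theorem isZero_of_test (B : Set C)
    (hB : ∀ U : C, ∃ S ∈ J U, ∀ ⦃V : C⦄ (g : V ⟶ U), S g → V ∈ B)
    (X : DerivedCategory (ModSite.Mod O))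
    (h : ∀ V ∈ B, ∀ n : ℤ, Subsingleton (E O V ⟶ X⟦n⟧)) : IsZero X := by
  let P := RlimCrit.modP (ModSite.ringSh O)
  let A := ModSite.Mod O
  have h0 : ∀ V ∈ B, ∀ (q : ℤ) (ξ : RlimCrit.sgl q (P.obj V) ⟶ X), ξ = 0 := by
    intro V hV q ξ
    haveI := h V hV q
    let e := (DerivedCategory.singleFunctors A).shiftIso q 0 q (add_zero q)
    apply (shiftFunctor (DerivedCategory A) q).map_injective
    rw [← cancel_epi (e.inv.app (P.obj V)),
      ← cancel_epi ((DerivedCategory.singleFunctor A 0).map (modPIso O V).inv)]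
    exact Subsingleton.elim (α := E O V ⟶ X⟦q⟧) _ _
  have hH : ∀ q : ℤ, IsZero ((DerivedCategory.homologyFunctor A q).obj X) := fun q => by
    rw [IsZero.iff_id_eq_zero]
    refine (RlimCrit.isLocGen_mod (ModSite.ringSh O)).det _ fun U x => ?_
    rw [Category.comp_id]
    obtain ⟨S, hS, hx⟩ := RlimCrit.exists_local_class (RlimCrit.isLocGen_mod (ModSite.ringSh O)) x
    refine (RlimCrit.isLocGen_mod (ModSite.ringSh O)).sep x S hS fun V f hf => ?_
    obtain ⟨S', hS', hB'⟩ := hB V
    refine (RlimCrit.isLocGen_mod (ModSite.ringSh O)).sep _ S' hS' fun W g hg => ?_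
    obtain ⟨ξ, hξ⟩ := hx (g ≫ f) (S.downward_closed hf g)
    rw [← Category.assoc, ← Functor.map_comp, ← hξ, h0 W (hB' g hg) q ξ]
    exact RlimCrit.cl_zero q _ _
  haveI : X.IsLE 0 := (DerivedCategory.isLE_iff X 0).2 fun i _ => hH i
  haveI : X.IsGE 1 := (DerivedCategory.isGE_iff X 1).2 fun i _ => hH i
  exact DerivedCategory.TStructure.t.isZero X 0 1 (by norm_num)

theorem compl_of_cplAt {s : DerComp.GSec O} {K : DerivedCategory (ModSite.Mod O)} (B : Set C)
    (hB : ∀ U : C, ∃ S ∈ J U, ∀ ⦃V : C⦄ (g : V ⟶ U), S g → V ∈ B)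
    (h : ∀ V ∈ B, CplAt O V (s.1 V) K) : Compl s K := by
  haveI := hasProducts O
  obtain ⟨L, a, c, hL⟩ := distinguished_cocone_triangle₁ (rlimMap s K)
  refine (isZero_rlim_iff hL).1 (isZero_of_test O B hB L fun V hV n => ?_)
  let D := DerivedCategory (ModSite.Mod O)
  have hX : ∀ m : ℤ, DBij (hs s ((E O V)⟦m⟧) K) := fun m => by
    let F := shiftFunctor D m
    let ε := (shiftFunctorCompIsoId D (-m) m (neg_add_cancel m)).app K
    have h1 : DBij (hs s (E O V) (K⟦-m⟧)) := by
      rw [show hs s (E O V) (K⟦-m⟧) = act O V (s.1 V) (K⟦-m⟧) from AddMonoidHom.ext fun x => (act_val O s V _ x).symm]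
      exact h V hV (-m)
    refine h1.of_bijective ((Preadditive.rightComp (F.obj (E O V)) ε.hom).comp F.mapAddHom)
      (ε.homToEquiv.bijective.comp ⟨F.map_injective, F.map_surjective⟩) fun x => ?_
    show F.map (s • x) ≫ ε.hom = s • (F.map x ≫ ε.hom)
    rw [F.map_smul, Linear.smul_comp]
  haveI : Subsingleton ((E O V)⟦-n⟧ ⟶ L) :=
    subsingleton_hom_rlim hL (hX (-n))
      (((dBij_iff_precomp_iso s K ((shiftFunctorAdd' D (-n) 1 (-n + 1) rfl).app (E O V))).1 (hX (-n + 1))))
  refine ⟨fun u v => (shiftFunctor D (-n)).map_injective ?_⟩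
  rw [← cancel_mono ((shiftFunctorCompIsoId D n (-n) (add_neg_cancel n)).hom.app L)]
  exact Subsingleton.elim (α := (E O V)⟦-n⟧ ⟶ L) _ _

theorem compl_iff_cplAt {s : DerComp.GSec O} {K : DerivedCategory (ModSite.Mod O)} :
    Compl s K ↔ ∀ U : C, CplAt O U (s.1 U) K :=
  ⟨fun h U => h.cplAt U, fun h => compl_of_cplAt Set.univ (fun U => ⟨⊤, J.top_mem U, fun _ _ _ => trivial⟩)
    fun V _ => h V⟩

end Groth.Agent.DerCompLib
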