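import Groth.Agent.DerCompLib.Generated
import Groth.Agent.SiteCmpLib.Rpush
import Groth.Agent.RpushSumLib.Gen
import Groth.Agent.SiteBase.FreeOn
import Groth.Agent.DerCompLib.Site
import Groth.Agent.ModTensor.Sheaf

/-!
Derived direct images along morphisms of ringed sites have left adjoints.
-/

set_option autoImplicit false
set_option linter.style.haveILetI false
set_option linter.unusedSectionVars false
set_option backward.isDefEq.respectTransparency false
set_option backward.isDefEq.respectTransparency.types false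

universe w w' v v' u u'

open CategoryTheory CategoryTheory.Limits CategoryTheory.Pretriangulated Opposite

noncomputable section

namespace Groth.Agent.DerCompLib

section Generic

variable {D₁ : Type u} [Category.{v} D₁] [Preadditive D₁] [HasZeroObject D₁] [HasShift D₁ ℤ]
  [∀ n : ℤ, (shiftFunctor D₁ n).Additive] [Pretriangulated D₁]
  {D₂ : Type u'} [Category.{v'} D₂] [Preadditive D₂] [HasZeroObject D₂] [HasShift D₂ ℤ]
  [∀ n : ℤ, (shiftFunctor D₂ n).Additive] [Pretriangulated D₂]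
  (R : D₁ ⥤ D₂) [R.CommShift ℤ] [R.IsTriangulated]

/-- A universal arrow to `R`. -/
def Universal {M : D₂} {L : D₁} (η : M ⟶ R.obj L) : Prop :=
  ∀ Y : D₁, Function.Bijective fun g : L ⟶ Y => η ≫ R.map g

/-- The objects with a universal arrow to `R`. -/
def univLocus : ObjectProperty D₂ := fun M => ∃ (L : D₁) (η : M ⟶ R.obj L), Universal R η

instance : (univLocus R).IsClosedUnderIsomorphisms := ⟨fun {M M'} e ⟨L, η, h⟩ => ⟨L, e.inv ≫ η, fun Y => by
  rw [show (fun g : L ⟶ Y => (e.inv ≫ η) ≫ R.map g) = e.homFromEquiv ∘ fun g => η ≫ R.map g from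
    funext fun g => Category.assoc _ _ _]
  exact e.homFromEquiv.bijective.comp (h Y)⟩⟩

theorem Universal.shift {M : D₂} {L : D₁} {η : M ⟶ R.obj L} (h : Universal R η) (n : ℤ) :
    Universal R (η⟦n⟧' ≫ (R.commShiftIso n).inv.app L) := by
  intro Y
  let Y' := Y⟦-n⟧
  let e : Y'⟦n⟧ ≅ Y := (shiftFunctorCompIsoId D₁ (-n) n (neg_add_cancel n)).app Y
  let a : (L ⟶ Y') ≃ (L⟦n⟧ ⟶ Y) :=
    (Functor.FullyFaithful.ofFullyFaithful (shiftFunctor D₁ n)).homEquiv.trans e.homToEquiv
  let b : (M ⟶ R.obj Y') ≃ (M⟦n⟧ ⟶ R.obj Y) :=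
    (Functor.FullyFaithful.ofFullyFaithful (shiftFunctor D₂ n)).homEquiv.trans
      (((R.commShiftIso n).app Y').symm ≪≫ R.mapIso e).homToEquiv
  have key : ∀ g, (η⟦n⟧' ≫ (R.commShiftIso n).inv.app L) ≫ R.map (a g) = b (η ≫ R.map g) := fun g => by
    show (η⟦n⟧' ≫ (R.commShiftIso n).inv.app L) ≫ R.map (g⟦n⟧' ≫ e.hom) =
      (η ≫ R.map g)⟦n⟧' ≫ (R.commShiftIso n).inv.app Y' ≫ R.map e.hom
    rw [R.map_comp, Functor.map_comp, Category.assoc, Category.assoc]
    exact congrArg (η⟦n⟧' ≫ ·) (((R.commShiftIso n).inv.naturality_assoc g (R.map e.hom)).symm)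
  rw [show (fun g : L⟦n⟧ ⟶ Y => (η⟦n⟧' ≫ (R.commShiftIso n).inv.app L) ≫ R.map g) =
      b ∘ (fun g => η ≫ R.map g) ∘ a.symm from funext fun g => by
    obtain ⟨g, rfl⟩ := a.surjective g
    simp only [Function.comp_apply, key, Equiv.symm_apply_apply]]
  exact b.bijective.comp ((h Y').comp a.symm.bijective)

theorem univLocus_shift {M : D₂} (h : univLocus R M) (n : ℤ) : univLocus R (M⟦n⟧) :=
  let ⟨_, _, h⟩ := h; ⟨_, _, h.shift R n⟩

theorem univLocus_cone (T : Triangle D₂) (hT : T ∈ distTriang D₂) (h₁ : univLocus R T.obj₁)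
    (h₂ : univLocus R T.obj₂) : univLocus R T.obj₃ := by
  obtain ⟨L₁, η₁, hη₁⟩ := h₁
  obtain ⟨L₂, η₂, hη₂⟩ := h₂
  obtain ⟨m, hm⟩ := (hη₁ L₂).2 (T.mor₁ ≫ η₂)
  obtain ⟨L₃, p, d, hT'⟩ := distinguished_cocone_triangle m
  let T' := Triangle.mk m p d
  obtain ⟨η₃, hp, hd⟩ := complete_distinguished_triangle_morphism T (R.mapTriangle.obj T') hT
    (R.map_distinguished T' hT') η₁ η₂ hm.symm
  have hd' : T.mor₃ ≫ η₁⟦(1 : ℤ)⟧' ≫ (R.commShiftIso (1 : ℤ)).inv.app L₁ = η₃ ≫ R.map d := by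
    rw [← Category.assoc, hd]
    show (η₃ ≫ R.map d ≫ (R.commShiftIso (1 : ℤ)).hom.app L₁) ≫ _ = _
    simp
  have hp' : T.mor₂ ≫ η₃ = η₂ ≫ R.map p := hp
  refine ⟨L₃, η₃, fun Y => ⟨fun g g' hgg' => ?_, fun y => ?_⟩⟩
  · rw [← sub_eq_zero]
    have h0 : η₃ ≫ R.map (g - g') = 0 := by rw [R.map_sub, Preadditive.comp_sub]; exact sub_eq_zero.2 hgg'
    generalize g - g' = k at h0 ⊢
    have h1 : p ≫ k = 0 := (hη₂ Y).1 (by
      show η₂ ≫ R.map (p ≫ k) = η₂ ≫ R.map 0
      rw [R.map_comp, R.map_zero, comp_zero, ← Category.assoc, ← hp', Category.assoc, h0, comp_zero])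
    obtain ⟨h, rfl⟩ := Triangle.yoneda_exact₃ T' hT' k h1
    let h' : L₁⟦(1 : ℤ)⟧ ⟶ Y := h
    have h2 : T.mor₃ ≫ (η₁⟦(1 : ℤ)⟧' ≫ (R.commShiftIso (1 : ℤ)).inv.app L₁) ≫ R.map h' = 0 := by
      rw [← Category.assoc, hd', Category.assoc, ← R.map_comp]
      exact h0
    obtain ⟨k₂, hk₂⟩ := Triangle.yoneda_exact₃ T.rotate (rot_of_distTriang _ hT) _ h2
    obtain ⟨k', hk'⟩ := ((hη₂.shift R 1) Y).2 (-k₂)
    have h3 : h' = m⟦(1 : ℤ)⟧' ≫ k' := ((hη₁.shift R 1) Y).1 (by
      dsimp only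
      rw [hk₂, R.map_comp]
      show (-T.mor₁⟦(1 : ℤ)⟧') ≫ k₂ = _
      rw [Preadditive.neg_comp, ← Preadditive.comp_neg, ← hk', ← Category.assoc, ← Category.assoc,
        ← Category.assoc]
      refine congrArg (· ≫ R.map k') ?_
      rw [← Functor.map_comp, ← hm, Functor.map_comp, Category.assoc, Category.assoc]
      exact congrArg (η₁⟦(1 : ℤ)⟧' ≫ ·) ((R.commShiftIso (1 : ℤ)).inv.naturality m))
    show d ≫ h' = 0
    rw [h3, ← Category.assoc, show d ≫ m⟦(1 : ℤ)⟧' = 0 from comp_distTriang_mor_zero₃₁ T' hT', zero_comp]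
  · obtain ⟨g₂, hg₂⟩ := (hη₂ Y).2 (T.mor₂ ≫ y)
    have h1 : m ≫ g₂ = 0 := (hη₁ Y).1 (by
      show η₁ ≫ R.map (m ≫ g₂) = η₁ ≫ R.map 0
      dsimp at hg₂ hm
      rw [R.map_comp, R.map_zero, comp_zero, ← Category.assoc, hm, Category.assoc, hg₂,
        comp_distTriang_mor_zero₁₂_assoc _ hT, zero_comp])
    obtain ⟨g, hg⟩ := Triangle.yoneda_exact₂ T' hT' g₂ h1
    have h2 : T.mor₂ ≫ (y - η₃ ≫ R.map g) = 0 := by
      dsimp at hg₂
      rw [Preadditive.comp_sub, ← Category.assoc, hp', Category.assoc, ← R.map_comp]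
      exact (sub_eq_zero).2 (hg₂.symm.trans (congrArg (fun k => η₂ ≫ R.map k) hg))
    obtain ⟨k, hk⟩ := Triangle.yoneda_exact₃ T hT _ h2
    obtain ⟨h, hh⟩ := ((hη₁.shift R 1) Y).2 k
    refine ⟨(show L₃ ⟶ Y from g) + d ≫ h, ?_⟩
    dsimp only at hh ⊢
    rw [R.map_add, Preadditive.comp_add, R.map_comp, ← Category.assoc η₃, ← hd', Category.assoc, hh, ← hk]
    abel

theorem univLocus_sigma {κ : Type w} (X : κ → D₂) (c : Cofan X) (hc : IsColimit c)
    (hX : ∀ k, univLocus R (X k)) (hD : ∀ Y : κ → D₁, HasCoproduct Y) : univLocus R c.pt := by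
  choose L η hη using hX
  haveI := hD L
  let E := Cofan.IsColimit.desc hc fun k => η k ≫ R.map (Sigma.ι L k)
  have hE : ∀ {Y : D₁} (g : (∐ L) ⟶ Y) (k : κ),
      c.inj k ≫ E ≫ R.map g = η k ≫ R.map (Sigma.ι L k ≫ g) := fun g k => by
    rw [Cofan.IsColimit.fac_assoc, Category.assoc, R.map_comp]
  refine ⟨∐ L, E, fun Y => ⟨fun g g' h => Sigma.hom_ext _ _ fun k => (hη k Y).1 ?_, fun y => ?_⟩⟩
  · show η k ≫ R.map _ = η k ≫ R.map _
    rw [← hE, ← hE]
    exact congrArg (c.inj k ≫ ·) h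
  · choose g hg using fun k => (hη k Y).2 (c.inj k ≫ y)
    refine ⟨Sigma.desc g, Cofan.IsColimit.hom_ext hc _ _ fun k => ?_⟩
    dsimp only
    rw [hE, Sigma.ι_desc]
    exact hg k

theorem isRightAdjoint_of_univLocus (h : ∀ M, univLocus R M) : R.IsRightAdjoint := by
  choose L η hη using h
  exact ⟨_, ⟨Adjunction.adjunctionOfEquivLeft
    (fun M Y => (Equiv.ofBijective _ (hη M Y)))
    (fun M Y Y' g k => by
      show η M ≫ R.map (k ≫ g) = (η M ≫ R.map k) ≫ R.map g
      rw [R.map_comp, Category.assoc])⟩⟩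

end Generic

section Complexes

variable {A : Type u} [Category.{v} A] [Abelian A] [IsGrothendieckAbelian.{v} A] [HasDerivedCategory.{w} A]

theorem preservesCoproducts_Q (κ : Type v) :
    PreservesColimitsOfShape (Discrete κ) (DerivedCategory.Q (C := A)) := by
  haveI := RpushSumLib.preservesCoproducts_quotientQh (A := A) κ (KInj.hres_of_isGrothendieckAbelian A)
  exact preservesColimitsOfShape_of_natIso (DerivedCategory.quotientCompQhIso A)

theorem hasCoproduct_derived {κ : Type v} (Y : κ → DerivedCategory A) : HasCoproduct Y := by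
  haveI := preservesCoproducts_Q (A := A) κ
  haveI : HasCoproduct fun k => DerivedCategory.Q.obj (DerivedCategory.Q.objPreimage (Y k)) :=
    ⟨⟨⟨_, isColimitCofanMkObjOfIsColimit DerivedCategory.Q _ _
      (coproductIsCoproduct fun k => DerivedCategory.Q.objPreimage (Y k))⟩⟩⟩
  exact hasColimit_of_iso (Discrete.natIso (F := Discrete.functor Y)
    (G := Discrete.functor fun k => DerivedCategory.Q.obj (DerivedCategory.Q.objPreimage (Y k)))
    fun j => (DerivedCategory.Q.objObjPreimageIso (Y j.as)).symm)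

/-- Sums in degree zero. -/
theorem exists_cofan_single {κ : Type v} (M : κ → A) :
    ∃ (c : Cofan fun k => (DerivedCategory.singleFunctor A 0).obj (M k)),
      Nonempty (IsColimit c) ∧ Nonempty (c.pt ≅ (DerivedCategory.singleFunctor A 0).obj (∐ M)) := by
  haveI := preservesCoproducts_Q (A := A) κ
  haveI : PreservesColimitsOfShape (Discrete κ) (DerivedCategory.singleFunctor A 0) := by
    haveI : PreservesColimitsOfShape (Discrete κ) (CochainComplex.singleFunctor A 0) :=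
      inferInstanceAs (PreservesColimitsOfShape (Discrete κ) (HomologicalComplex.single A (ComplexShape.up ℤ) 0))
    exact preservesColimitsOfShape_of_natIso (DerivedCategory.singleFunctorIsoCompQ A 0).symm
  exact ⟨_, ⟨isColimitCofanMkObjOfIsColimit _ _ _ (coproductIsCoproduct M)⟩, ⟨Iso.refl _⟩⟩

end Complexes

section RMor

attribute [local instance] HasDerivedCategory.standard

variable {C : Type w} [SmallCategory C] {J : GrothendieckTopology C} {O_C : Sheaf J CommRingCat.{w}}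
  {D : Type w} [SmallCategory D] {K : GrothendieckTopology D} {O_D : Sheaf K CommRingCat.{w}}
  (f : ModSite.RMor O_C O_D) [SiteCmp.HasRpushD f]

/-- `Rf_*` has a left adjoint. -/
theorem isRightAdjoint_rpushD : (SiteCmp.RpushD f).IsRightAdjoint := by
  haveI : IsGrothendieckAbelian.{w} (ModSite.Mod O_C) := ModTensor.isGrothendieckAbelian_mod O_C
  haveI : IsGrothendieckAbelian.{w} (ModSite.Mod O_D) := ModTensor.isGrothendieckAbelian_mod O_D
  obtain ⟨cs, hcs⟩ := SiteCmpLib.exists_triangulated_rpushD f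
  letI := cs
  haveI := hcs
  let R := SiteCmp.RpushD f
  refine isRightAdjoint_of_univLocus R fun W => ?_
  have hsep : (ObjectProperty.ofObj fun V : D => ModSite.freeOn O_D V).IsSeparating := by
    intro N W g h hgh
    refine SiteBase.FreeOn.isSeparating_freeOn O_D Set.univ (fun X => ⟨PUnit.{w + 1}, fun _ => X, fun _ => 𝟙 X,
      K.superset_covering (fun V a _ => by
        rw [← Category.comp_id a]
        exact Sieve.downward_closed _ (Sieve.ofArrows_mk _ _ PUnit.unit) _) (K.top_mem X), fun _ => trivial⟩)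
      g h fun G hG x => hgh G (by obtain ⟨⟨V, -⟩⟩ := hG; exact ⟨V⟩) x
  refine prop_of_separator (∐ fun V : D => ModSite.freeOn O_D V) hsep.isSeparator_coproduct
    (univLocus R) (fun κ X c hc hX => univLocus_sigma R X c hc hX fun Y => hasCoproduct_derived Y)
    (fun T hT => univLocus_cone R T hT) (fun n => univLocus_shift R ?_ n) W
  obtain ⟨c, ⟨hc⟩, ⟨i⟩⟩ := exists_cofan_single fun V : D => ModSite.freeOn O_D V
  refine (univLocus R).prop_of_iso i (univLocus_sigma R _ c hc (fun V => ?_) fun Y => hasCoproduct_derived Y)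
  let B := RlimCrit.sgl 0 (f.pull.obj (SiteCmpLib.freeOn O_D V))
  let e : SiteCmpLib.freeOn O_D V ≅ ModSite.freeOn O_D V := modPIso O_D V
  refine (univLocus R).prop_of_iso (DerivedCategory.Q.mapIso
    ((HomologicalComplex.single (ModSite.Mod O_D) (ComplexShape.up ℤ) 0).mapIso e) ≪≫
      ((DerivedCategory.singleFunctorIsoCompQ (ModSite.Mod O_D) 0).app _).symm) ?_
  refine ⟨B, (SiteCmpLib.homRpushEquiv f V 0 B).symm (𝟙 B), fun Y => ?_⟩
  rw [show (fun g : B ⟶ Y => (SiteCmpLib.homRpushEquiv f V 0 B).symm (𝟙 B) ≫ R.map g) =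
    (SiteCmpLib.homRpushEquiv f V 0 Y).symm from funext fun g => (Equiv.eq_symm_apply _).2 (by
      rw [SiteCmpLib.homRpushEquiv_naturality, Equiv.apply_symm_apply, Category.id_comp])]
  exact Equiv.bijective _

end RMor

end Groth.Agent.DerCompLib
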