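import Groth.Agent.DerCompLib.Tri
import Groth.Agent.KInj.Products
import Mathlib.Algebra.Homology.DerivedCategory.Linear
import Mathlib.Algebra.Homology.DerivedCategory.ShortExact

/-!
# Telescopes of complexes in a derived category
-/

set_option autoImplicit false
set_option linter.style.haveILetI false
set_option linter.unusedSectionVars false
set_option backward.isDefEq.respectTransparency false
set_option backward.isDefEq.respectTransparency.types false

universe t w v u

open CategoryTheory CategoryTheory.Limits CategoryTheory.Pretriangulated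

noncomputable section

namespace Groth.Agent.DerCompLib

variable {R : Type t} [CommRing R] {A : Type u} [Category.{v} A] [Abelian A] [Linear R A] [HasDerivedCategory.{w} A]
  (hres : ∀ K : CochainComplex A ℤ, ∃ (I : CochainComplex A ℤ) (f : K ⟶ I), I.IsKInjective ∧ QuasiIso f)

include hres in
/-- Maps out of a coproduct of complexes in the derived category are families of maps. -/
theorem bijective_cofan_comps [HasCoproductsOfShape ℕ A] {Z P : CochainComplex A ℤ} {ι : ℕ → (Z ⟶ P)}
    (hc : IsColimit (Cofan.mk P ι)) (Y : DerivedCategory A) :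
    Function.Bijective fun (x : DerivedCategory.Q.obj P ⟶ Y) n => DerivedCategory.Q.map (ι n) ≫ x := by
  let q := HomotopyCategory.quotient A (ComplexShape.up ℤ)
  let J := KInj.model hres Y
  let e : ∀ M : CochainComplex A ℤ, (DerivedCategory.Q.obj M ⟶ Y) ≃ (q.obj M ⟶ q.obj J) := fun M =>
    ((DerivedCategory.quotientCompQhIso A).app M).symm.homFromEquiv.trans (KInj.modelHomEquiv hres _ Y)
  have he : ∀ {M N : CochainComplex A ℤ} (g : M ⟶ N) (x : DerivedCategory.Q.obj N ⟶ Y),
      e M (DerivedCategory.Q.map g ≫ x) = q.map g ≫ e N x := fun {M N} g x => by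
    simp only [e, Equiv.trans_apply, Iso.homFromEquiv_apply]
    refine Eq.trans (congrArg (KInj.modelHomEquiv hres _ Y) ?_)
      (KInj.modelHomEquiv_comp hres (q.obj M) (q.obj N) Y (q.map g) _)
    have hn := (DerivedCategory.quotientCompQhIso A).hom.naturality g
    exact (Category.assoc _ _ _).symm.trans ((eq_whisker hn.symm x).trans (Category.assoc _ _ _))
  refine ⟨fun x x' h => (e P).injective ?_, fun y => ?_⟩
  · obtain ⟨a, ha⟩ := q.map_surjective (e P x)
    obtain ⟨a', ha'⟩ := q.map_surjective (e P x')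
    obtain ⟨H⟩ := KInj.homotopic_zero_of_coproduct hc (a - a') fun n =>
      ⟨HomotopyCategory.homotopyOfEq _ _ (by
        show q.map (ι n ≫ (a - a')) = q.map 0
        rw [q.map_comp, q.map_sub, ha, ha', Preadditive.comp_sub, ← he, ← he, q.map_zero, sub_eq_zero]
        exact congrArg _ (congrFun h n))⟩
    rw [← ha, ← ha', ← sub_eq_zero, ← q.map_sub]
    exact (HomotopyCategory.eq_of_homotopy _ _ H).trans (q.map_zero _ _)
  · choose h hh using fun n => q.map_surjective (e Z (y n))
    refine ⟨(e P).symm (q.map (Cofan.IsColimit.desc hc h)), funext fun n => (e Z).injective ?_⟩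
    show e Z (DerivedCategory.Q.map (ι n) ≫ _) = e Z (y n)
    rw [he, Equiv.apply_symm_apply, ← q.map_comp, ← hh]
    exact congrArg q.map (Cofan.IsColimit.fac hc h n)

include hres in
/-- Maps from a telescope of complexes to an object on which the scalar is invertible are maps from the first term. -/
theorem bijective_telescope_of_isIso [HasCoproductsOfShape ℕ A] (r : R) {Z P W : CochainComplex A ℤ}
    {ι : ℕ → (Z ⟶ P)} (hc : IsColimit (Cofan.mk P ι)) (m : P ⟶ P)
    (hm : ∀ n, ι n ≫ m = ι n - (r • 𝟙 Z) ≫ ι (n + 1)) (π : P ⟶ W) (w : m ≫ π = 0)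
    (hS : (ShortComplex.mk m π w).ShortExact) {Y : DerivedCategory A} (hY : IsIso (r • 𝟙 Y)) :
    Function.Bijective fun x : DerivedCategory.Q.obj W ⟶ Y => DerivedCategory.Q.map (ι 0 ≫ π) ≫ x := by
  let Q := DerivedCategory.Q (C := A)
  let t := inv (r • 𝟙 Y)
  have ht : ∀ {X : DerivedCategory A} (x : X ⟶ Y), r • (x ≫ t) = x := fun x => by
    rw [← Linear.comp_smul, show r • t = t ≫ (r • 𝟙 Y) by rw [Linear.comp_smul, Category.comp_id],
      IsIso.inv_hom_id, Category.comp_id]
  have hinj : ∀ {X : DerivedCategory A} (x : X ⟶ Y), r • x = 0 → x = 0 := fun x h => by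
    rw [← cancel_mono (r • 𝟙 Y), zero_comp, Linear.comp_smul, Category.comp_id, h]
  have hcomp : ∀ (x : Q.obj P ⟶ Y) n, Q.map (ι n) ≫ Q.map m ≫ x =
      Q.map (ι n) ≫ x - r • (Q.map (ι (n + 1)) ≫ x) := fun x n => by
    rw [← Q.map_comp_assoc, hm, Functor.map_sub, Preadditive.sub_comp, Linear.smul_comp, Category.id_comp,
      Functor.map_smul, Linear.smul_comp]
  have hb := bijective_cofan_comps hres hc Y
  have hT := DerivedCategory.triangleOfSES_distinguished hS
  have hπ : Q.map m ≫ Q.map π = 0 := by rw [← Q.map_comp, w, Q.map_zero]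
  refine ⟨fun x x' h => sub_eq_zero.1 ?_, fun g => ?_⟩
  · have h0 : ∀ n, Q.map (ι n) ≫ Q.map π ≫ (x - x') = 0 := fun n => by
      induction n with
      | zero =>
        rw [← Q.map_comp_assoc, Preadditive.comp_sub, sub_eq_zero]
        exact h
      | succ n ih =>
        refine hinj _ ?_
        have := hcomp (Q.map π ≫ (x - x')) n
        rw [reassoc_of% hπ, zero_comp, comp_zero, ih, zero_sub] at this
        exact neg_eq_zero.1 this.symm
    have h1 : Q.map π ≫ (x - x') = 0 := hb.1 (funext fun n => (h0 n).trans comp_zero.symm)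
    obtain ⟨y, hy⟩ := Triangle.yoneda_exact₂ _ (rot_of_distTriang _ hT) (x - x') h1
    rw [hy]
    let F := shiftFunctor (DerivedCategory A) (1 : ℤ)
    let ε := (shiftFunctorCompIsoId (DerivedCategory A) (-1 : ℤ) 1 (by norm_num)).app Y
    obtain ⟨y', hy'⟩ := F.map_surjective (y ≫ ε.inv)
    haveI : IsIso (r • 𝟙 (Y⟦(-1 : ℤ)⟧)) := by
      rw [← (shiftFunctor (DerivedCategory A) (-1 : ℤ)).map_id, ← Functor.map_smul]
      infer_instance
    let t' := inv (r • 𝟙 (Y⟦(-1 : ℤ)⟧))
    have ht' : ∀ (a : Q.obj Z ⟶ Y⟦(-1 : ℤ)⟧), r • (a ≫ t') = a := fun a => by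
      rw [← Linear.comp_smul, show r • t' = t' ≫ (r • 𝟙 _) by rw [Linear.comp_smul, Category.comp_id],
        IsIso.inv_hom_id, Category.comp_id]
    let zs : ℕ → (Q.obj Z ⟶ Y⟦(-1 : ℤ)⟧) := fun n => Nat.rec 0 (fun k zk => (zk - Q.map (ι k) ≫ y') ≫ t') n
    have hb' := bijective_cofan_comps hres hc (Y⟦(-1 : ℤ)⟧)
    obtain ⟨z, hz⟩ := hb'.2 zs
    have hy2 : y' = Q.map m ≫ z := hb'.1 (funext fun n => by
      show Q.map (ι n) ≫ y' = Q.map (ι n) ≫ Q.map m ≫ z
      rw [← Q.map_comp_assoc, hm, Functor.map_sub, Preadditive.sub_comp, Linear.smul_comp, Category.id_comp,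
        Functor.map_smul, Linear.smul_comp, show Q.map (ι n) ≫ z = zs n from congrFun hz n,
        show Q.map (ι (n + 1)) ≫ z = zs (n + 1) from congrFun hz (n + 1),
        show zs (n + 1) = (zs n - Q.map (ι n) ≫ y') ≫ t' from rfl, ht', sub_sub_cancel])
    have hy3 : y = (Q.map m)⟦(1 : ℤ)⟧' ≫ F.map z ≫ ε.hom := by
      rw [← Category.assoc, ← F.map_comp, ← hy2, hy', Category.assoc, ε.inv_hom_id]
      exact (Category.comp_id y).symm
    rw [hy3]
    exact (Category.assoc _ _ _).symm.trans ((eq_whisker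
      (comp_distTriang_mor_zero₃₁ _ hT) _).trans zero_comp)
  · let y : ℕ → (Q.obj Z ⟶ Y) := fun n => (fun a => a ≫ t)^[n] g
    obtain ⟨v, hv⟩ := hb.2 y
    have h0 : Q.map m ≫ v = 0 := hb.1 (funext fun n => by
      show Q.map (ι n) ≫ Q.map m ≫ v = Q.map (ι n) ≫ 0
      rw [hcomp, show Q.map (ι n) ≫ v = y n from congrFun hv n,
        show Q.map (ι (n + 1)) ≫ v = y (n + 1) from congrFun hv (n + 1),
        show y (n + 1) = y n ≫ t from Function.iterate_succ_apply' _ _ _, ht, sub_self, comp_zero])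
    obtain ⟨x, hx⟩ := Triangle.yoneda_exact₂ _ hT v h0
    refine ⟨x, ?_⟩
    show Q.map (ι 0 ≫ π) ≫ x = g
    rw [Q.map_comp, Category.assoc]
    exact (whisker_eq _ hx.symm).trans (congrFun hv 0)

end Groth.Agent.DerCompLib
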