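import Groth.Agent.DerCompLib.TensorSmul
import Groth.Agent.DerCompLib.TelescopeCx
import Groth.Agent.ProEtDCLib.ExtDC
import Groth.Agent.KFlat.ModSite
import Groth.Agent.SiteCmpLib.Adj

/-!
# Tensoring a complex with `O_f`
-/

set_option autoImplicit false
set_option linter.style.haveILetI false
set_option linter.unusedSectionVars false
set_option backward.isDefEq.respectTransparency false
set_option backward.isDefEq.respectTransparency.types false
set_option synthInstance.maxHeartbeats 200000
set_option maxHeartbeats 1600000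

universe u

open CategoryTheory CategoryTheory.Limits Opposite

attribute [local instance] HasDerivedCategory.standard

noncomputable section

namespace Groth.Agent.DerCompLib

open Groth.Agent.KFlat Groth.Agent.ProEtDCLib

variable {C : Type u} [SmallCategory C] {J : GrothendieckTopology C} (O : Sheaf J CommRingCat.{u})

/-- A module as a complex in degree zero. -/
abbrev cx0 (F : ModSite.Mod O) : CochainComplex (ModSite.Mod O) ℤ :=
  (CochainComplex.singleFunctor (ModSite.Mod O) 0).obj F

/-- Tensoring complexes with a module. -/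
abbrev tensFun (F : ModSite.Mod O) : CochainComplex (ModSite.Mod O) ℤ ⥤ CochainComplex (ModSite.Mod O) ℤ :=
  (ModSite.tensorCx O).flip.obj (cx0 O F)

/-- The tensor product of a fixed complex with modules. -/
abbrev tensMod (M : CochainComplex (ModSite.Mod O) ℤ) : ModSite.Mod O ⥤ CochainComplex (ModSite.Mod O) ℤ :=
  HomologicalComplex.single (ModSite.Mod O) (ComplexShape.up ℤ) 0 ⋙ tot (ModSite.tensorBi O) M

theorem tensMod_smulEnd (s : DerComp.GSec O) (M : CochainComplex (ModSite.Mod O) ℤ) (F : ModSite.Mod O) :
    (tensMod O M).map (DerComp.smulEnd s F) = s • 𝟙 ((tensMod O M).obj F) := by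
  refine HomologicalComplex.hom_ext _ _ fun n => HomologicalComplex.mapBifunctor.hom_ext fun p r h => ?_
  let S := HomologicalComplex.single (ModSite.Mod O) (ComplexShape.up ℤ) 0
  have hf : (S.map (DerComp.smulEnd s F)).f r = DerComp.smulEnd s ((S.obj F).X r) := by
    by_cases hr : r = 0
    · subst hr
      rw [HomologicalComplex.single_map_f_self, ← Category.assoc, ← DerComp.smulEnd_comm, Category.assoc,
        Iso.hom_inv_id, Category.comp_id]
    · exact (HomologicalComplex.isZero_single_obj_X (ComplexShape.up ℤ) 0 F r hr).eq_of_src _ _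
  refine (HomologicalComplex.ι_mapBifunctorMap (𝟙 M) (S.map (DerComp.smulEnd s F)) (ModSite.tensorBi O)
    (ComplexShape.up ℤ) p r n h).trans ?_
  rw [HomologicalComplex.id_f, CategoryTheory.Functor.map_id, NatTrans.id_app, Category.id_comp, hf]
  refine (eq_whisker (tensor_smulEnd_right O s _ _) _).trans ?_
  refine (DerComp.smulEnd_comm s _).trans (whisker_eq _ ?_)
  exact (Category.comp_id _).symm

/-- Tensoring with the structure sheaf does nothing. -/
def unitorCx (M : CochainComplex (ModSite.Mod O) ℤ) : M ≅ (tensFun O (ModSite.unit O)).obj M :=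
  HomologicalComplex.Hom.isoOfComponents
    (fun p => ((ModTensor.tensorUnitRight O).app (M.X p)).symm ≪≫
      @asIso _ _ _ _ (singleι (ModSite.tensorBi O) M 0 (ModSite.unit O) p p (add_zero p))
        (isIso_singleι (ModSite.tensorBi O) M 0 (ModSite.unit O) p p (add_zero p)))
    (fun p p' hp => by
      simp only [Iso.trans_hom, Iso.symm_hom, Iso.app_inv, asIso_hom, Category.assoc]
      refine (whisker_eq _ (singleι_d (ModSite.tensorBi O) M 0 (ModSite.unit O) p p' p p' (add_zero p) (add_zero p') hp)).trans ?_
      rw [← Category.assoc, ← Category.assoc]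
      exact eq_whisker ((ModTensor.tensorUnitRight O).inv.naturality (M.d p p')).symm _)

theorem unitorCx_naturality {M M' : CochainComplex (ModSite.Mod O) ℤ} (φ : M ⟶ M') :
    φ ≫ (unitorCx O M').hom = (unitorCx O M).hom ≫ (tensFun O (ModSite.unit O)).map φ := by
  refine HomologicalComplex.hom_ext _ _ fun p => ?_
  show φ.f p ≫ ((ModTensor.tensorUnitRight O).inv.app (M'.X p) ≫ singleι _ M' 0 _ p p (add_zero p)) =
    ((ModTensor.tensorUnitRight O).inv.app (M.X p) ≫ singleι _ M 0 _ p p (add_zero p)) ≫ _
  rw [← Category.assoc, show φ.f p ≫ (ModTensor.tensorUnitRight O).inv.app (M'.X p) =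
    (ModTensor.tensorUnitRight O).inv.app (M.X p) ≫ _ from (ModTensor.tensorUnitRight O).inv.naturality (φ.f p),
    Category.assoc, Category.assoc]
  refine whisker_eq _ ?_
  simp only [singleι, Category.assoc]
  refine Eq.trans ?_ (whisker_eq _ (HomologicalComplex.ι_mapBifunctorMap φ (𝟙 (cx0 O (ModSite.unit O)))
    (ModSite.tensorBi O) (ComplexShape.up ℤ) p 0 p (add_zero p)).symm)
  rw [HomologicalComplex.id_f, CategoryTheory.Functor.map_id, Category.id_comp]
  exact ((ModSite.tensorBi O).map (φ.f p)).naturality_assoc _ _ |>.symm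

variable (s : DerComp.GSec O)

/-- `O_f`. -/
abbrev locO : ModSite.Mod O := DerComp.locAway s (ModSite.unit O)

theorem isIso_smulEnd_locAway (F : ModSite.Mod O) : IsIso (DerComp.smulEnd s (DerComp.locAway s F)) := by
  let ι := Sigma.ι (fun _ : ℕ => F)
  let π := cokernel.π (DerComp.awayMap s F)
  have hd : ∀ n, ι n ≫ DerComp.awayMap s F = ι n - DerComp.smulEnd s F ≫ ι (n + 1) := fun n => Sigma.ι_desc _ _
  have hι : ∀ n, ι n ≫ π = DerComp.smulEnd s F ≫ ι (n + 1) ≫ π := fun n => by
    have h : (ι n ≫ DerComp.awayMap s F) ≫ π = 0 := by rw [Category.assoc, cokernel.condition, comp_zero]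
    rw [hd, Preadditive.sub_comp, Category.assoc, sub_eq_zero] at h
    exact h
  let σ : DerComp.locAway s F ⟶ DerComp.locAway s F :=
    cokernel.desc _ (Sigma.desc fun n => ι (n + 1) ≫ π) (Sigma.hom_ext _ _ fun n => by
      rw [← Category.assoc, hd, Preadditive.sub_comp, Category.assoc, Sigma.ι_desc,
        Sigma.ι_desc, comp_zero, sub_eq_zero]
      exact hι (n + 1))
  have h1 : σ ≫ DerComp.smulEnd s _ = 𝟙 _ := by
    refine coequalizer.hom_ext (Sigma.hom_ext _ _ fun n => ?_)
    show ι n ≫ π ≫ σ ≫ DerComp.smulEnd s _ = ι n ≫ π ≫ 𝟙 _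
    rw [cokernel.π_desc_assoc, Sigma.ι_desc_assoc, Category.comp_id, hι n]
    simp only [Category.assoc]
    rw [← DerComp.smulEnd_comm, reassoc_of% (DerComp.smulEnd_comm s (ι (n + 1)))]
  exact ⟨σ, (DerComp.smulEnd_comm s σ).trans h1, h1⟩

theorem smul_id_eq (F : ModSite.Mod O) : s • 𝟙 F = DerComp.smulEnd s F :=
  (DerComp.smul_def s _).trans (Category.comp_id _)

theorem isIso_smul_tensFun (M : CochainComplex (ModSite.Mod O) ℤ) :
    IsIso (s • 𝟙 ((tensFun O (locO O s)).obj M)) := by
  haveI := isIso_smulEnd_locAway O s (ModSite.unit O)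
  show IsIso (s • 𝟙 ((tensMod O M).obj (locO O s)))
  rw [← tensMod_smulEnd]
  infer_instance

/-- The map `M ⟶ M ⊗ O_f`. -/
abbrev toTensLoc (M : CochainComplex (ModSite.Mod O) ℤ) : M ⟶ (tensFun O (locO O s)).obj M :=
  (unitorCx O M).hom ≫ (tensMod O M).map (DerComp.toLocAway s (ModSite.unit O))

theorem toTensLoc_naturality {M M' : CochainComplex (ModSite.Mod O) ℤ} (φ : M ⟶ M') :
    φ ≫ toTensLoc O s M' = toTensLoc O s M ≫ (tensFun O (locO O s)).map φ := by
  show φ ≫ (unitorCx O M').hom ≫ _ = ((unitorCx O M).hom ≫ _) ≫ _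
  rw [← Category.assoc, unitorCx_naturality, Category.assoc, Category.assoc]
  refine whisker_eq _ ?_
  exact (((ModSite.tensorCx O).map φ).naturality
    ((CochainComplex.singleFunctor (ModSite.Mod O) 0).map (DerComp.toLocAway s (ModSite.unit O)))).symm

theorem bijective_toTensLoc (M : CochainComplex (ModSite.Mod O) ℤ) {Y : DerivedCategory (ModSite.Mod O)}
    (hY : IsIso (s • 𝟙 Y)) : Function.Bijective fun x : DerivedCategory.Q.obj ((tensFun O (locO O s)).obj M) ⟶ Y =>
      DerivedCategory.Q.map (toTensLoc O s M) ≫ x := by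
  haveI : IsGrothendieckAbelian.{u} (ModSite.Mod O) := ModTensor.isGrothendieckAbelian_mod O
  haveI : HasExactColimitsOfShape (Finset (Discrete ℕ)) (ModSite.Mod O) :=
    HasExactColimitsOfShape.of_domain_equivalence _ (AsSmall.equiv.{0, 0, u} (C := Finset (Discrete ℕ))).symm
  let τ := tensMod O M
  haveI : τ.Additive := inferInstance
  haveI : PreservesColimitsOfShape (Discrete ℕ) (tot (ModSite.tensorBi O) M) :=
    preservesColimitsOfShape_tot (ModSite.tensorBi O) M (Discrete ℕ)
  haveI : PreservesColimitsOfShape (Discrete ℕ) τ := inferInstance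
  let U := ModSite.unit O
  let am := DerComp.awayMap s U
  have ham : ∀ F : ModSite.Mod O, DerComp.awayMap s F = tel s F := fun F => by
    refine Sigma.hom_ext _ _ fun n => ?_
    rw [ι_tel, smul_id_eq]
    exact Sigma.ι_desc _ _
  have hmono : ∀ N : ModSite.Mod O, Mono (((ModSite.tensorBi O).obj N).map am) := fun N => by
    let G := (ModSite.tensorBi O).obj N
    haveI : PreservesColimit (Discrete.functor fun _ : ℕ => U) G := inferInstance
    let i := PreservesCoproduct.iso G (fun _ : ℕ => U)
    have h : i.inv ≫ G.map am = tel s (G.obj U) ≫ i.inv := by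
      refine Sigma.hom_ext _ _ fun n => ?_
      rw [PreservesCoproduct.inv_hom, ι_comp_sigmaComparison_assoc, ← G.map_comp, ← Category.assoc, ι_tel,
        Preadditive.sub_comp, Category.assoc, ι_comp_sigmaComparison, ι_comp_sigmaComparison, smul_id_eq,
        show DerComp.smulEnd s (G.obj U) = G.map (DerComp.smulEnd s U) from (tensor_smulEnd_right O s N U).symm,
        ← G.map_comp, ← G.map_sub]
      exact congrArg G.map (Sigma.ι_desc _ _)
    haveI := mono_tel s (G.obj U)
    have h2 : G.map am = i.hom ≫ tel s (G.obj U) ≫ i.inv := by rw [← h, i.hom_inv_id_assoc]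
    rw [show ((ModSite.tensorBi O).obj N).map am = i.hom ≫ tel s (G.obj U) ≫ i.inv from h2]
    infer_instance
  let S := ShortComplex.mk am (cokernel.π am) (cokernel.condition am)
  haveI : Mono am := by
    show Mono (DerComp.awayMap s U)
    rw [ham]
    exact mono_tel s U
  have hS : (S.map τ).ShortExact := by
    refine shortExact_tot (ModSite.tensorBi O) M
      (S.map (HomologicalComplex.single (ModSite.Mod O) (ComplexShape.up ℤ) 0)) fun p r => ?_
    let G := (ModSite.tensorBi O).obj (M.X p)
    by_cases hr : r = 0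
    · subst hr
      haveI := hmono (M.X p)
      haveI : PreservesFiniteColimits G := inferInstance
      have h0 : (S.map G).ShortExact := by
        have hex : S.Exact := ShortComplex.exact_cokernel am
        haveI : Epi S.g := inferInstanceAs (Epi (cokernel.π am))
        exact { exact := ((G.preservesFiniteColimits_iff_forall_exact_map_and_epi).1 inferInstance S
                  { exact := hex }).1
                mono_f := inferInstanceAs (Mono (G.map am))
                epi_g := inferInstanceAs (Epi (G.map (cokernel.π am))) }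
      let e := fun K => G.mapIso (HomologicalComplex.singleObjXSelf (ComplexShape.up ℤ) (0 : ℤ) K)
      refine ShortComplex.shortExact_of_iso ?_ h0
      refine ShortComplex.isoMk (e S.X₁).symm (e S.X₂).symm (e S.X₃).symm ?_ ?_
      all_goals
        simp only [e, Iso.symm_hom, Functor.mapIso_inv, ShortComplex.map_f, ShortComplex.map_g, ← G.map_comp,
          HomologicalComplex.eval_map, HomologicalComplex.single_map_f_self, Iso.inv_hom_id_assoc]
      all_goals exact (G.map_comp _ _).symm.trans (congrArg G.map (Iso.inv_hom_id_assoc _ _))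
    · have hz : ∀ K : ModSite.Mod O, IsZero (G.obj (((HomologicalComplex.single (ModSite.Mod O) (ComplexShape.up ℤ) 0).obj K).X r)) :=
        fun K => G.map_isZero (HomologicalComplex.isZero_single_obj_X (ComplexShape.up ℤ) 0 K r hr)
      exact { exact := ShortComplex.exact_of_isZero_X₂ _ (hz _)
              mono_f := ⟨fun _ _ _ => (hz _).eq_of_tgt _ _⟩
              epi_g := ⟨fun _ _ _ => (hz _).eq_of_src _ _⟩ }
  have hb := bijective_telescope_of_isIso (SiteCmpLib.hres_mod O) s
    (isColimitOfHasCoproductOfPreservesColimit τ (fun _ : ℕ => U)) (τ.map am)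
    (fun n => by
      rw [← τ.map_comp, ← tensMod_smulEnd, ← τ.map_comp, ← τ.map_sub]
      exact congrArg τ.map (Sigma.ι_desc _ _))
    (τ.map (cokernel.π am)) _ hS hY
  have e : (fun x : DerivedCategory.Q.obj ((tensFun O (locO O s)).obj M) ⟶ Y =>
      DerivedCategory.Q.map (toTensLoc O s M) ≫ x) =
      (DerivedCategory.Q.mapIso (unitorCx O M)).symm.homFromEquiv ∘
        fun x => DerivedCategory.Q.map (τ.map (Sigma.ι (fun _ : ℕ => U) 0) ≫ τ.map (cokernel.π am)) ≫ x := by
    funext x
    show DerivedCategory.Q.map ((unitorCx O M).hom ≫ τ.map (Sigma.ι (fun _ : ℕ => U) 0 ≫ cokernel.π am)) ≫ x =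
      DerivedCategory.Q.map (unitorCx O M).hom ≫ DerivedCategory.Q.map (τ.map _ ≫ τ.map _) ≫ x
    rw [τ.map_comp, Functor.map_comp, Category.assoc]
  rw [e]
  exact (Equiv.bijective _).comp hb

end Groth.Agent.DerCompLib
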