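import Groth.Agent.DerCompLib.Koszul

/-!
# Left orthogonality to complete objects tested on nilpotent objects

An object is left orthogonal to the objects complete for finitely many scalars iff it receives no
nonzero map from an object on which each of the scalars is nilpotent.
-/

set_option autoImplicit false
set_option linter.style.haveILetI false
set_option linter.unusedSectionVars false

universe w v u

open CategoryTheory CategoryTheory.Limits CategoryTheory.Pretriangulated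

noncomputable section

namespace Groth.Agent.DerCompLib

variable {R : Type w} [CommRing R] {T : Type u} [Category.{v} T] [Preadditive T] [HasZeroObject T]
  [HasShift T ℤ] [∀ n : ℤ, (shiftFunctor T n).Additive] [Pretriangulated T] [Linear R T]
  [∀ n : ℤ, (shiftFunctor T n).Linear R]

/-- The scalar acts nilpotently on the object. -/
def Nilp (r : R) (Y : T) : Prop := ∃ k : ℕ, r ^ k • 𝟙 Y = 0

/-- All scalars of the list act nilpotently. -/
abbrev NilpAll (l : List R) (Y : T) : Prop := ∀ r ∈ l, Nilp r Y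

theorem smul_shift_eq (r : R) (X : T) (n : ℤ) : (r • 𝟙 X)⟦n⟧' = r • 𝟙 (X⟦n⟧) := by
  rw [Functor.map_smul, CategoryTheory.Functor.map_id]

theorem Nilp.shift {r : R} {Y : T} (h : Nilp r Y) (n : ℤ) : Nilp r (Y⟦n⟧) := by
  obtain ⟨k, hk⟩ := h
  exact ⟨k, by rw [← smul_shift_eq, hk, Functor.map_zero]⟩

/-- Nilpotence is stable by extensions. -/
theorem nilp_obj₂ {r : R} (D : Triangle T) (hT : D ∈ distTriang T) (h₁ : Nilp r D.obj₁) (h₃ : Nilp r D.obj₃) :
    Nilp r D.obj₂ := by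
  obtain ⟨a, ha⟩ := h₁
  obtain ⟨b, hb⟩ := h₃
  obtain ⟨v, hv⟩ := Triangle.coyoneda_exact₂ D hT (r ^ b • 𝟙 D.obj₂) (by
    rw [Linear.smul_comp, Category.id_comp, ← Category.comp_id D.mor₂, ← Linear.comp_smul, hb, comp_zero])
  refine ⟨a + b, ?_⟩
  rw [pow_add, mul_smul, hv]
  rw [← Linear.smul_comp, ← Category.comp_id v, ← Linear.comp_smul, ha, comp_zero, zero_comp]

theorem nilp_obj₃ {r : R} (D : Triangle T) (hT : D ∈ distTriang T) (h₁ : Nilp r D.obj₁) (h₂ : Nilp r D.obj₂) :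
    Nilp r D.obj₃ :=
  nilp_obj₂ _ (rot_of_distTriang _ hT) h₂ (h₁.shift 1)

/-- The cone of multiplication by `r` is killed by `r ^ 2`. -/
theorem nilp_cone {r : R} {X C : T} {g : X ⟶ C} {h : C ⟶ X⟦(1 : ℤ)⟧}
    (hT : Triangle.mk (r • 𝟙 X) g h ∈ distTriang T) : Nilp r C := by
  obtain ⟨b, hb⟩ := Triangle.coyoneda_exact₂ _ (rot_of_distTriang _ hT) (r • 𝟙 C) (by
    show (r • 𝟙 C) ≫ h = 0
    have h31 : h ≫ (r • 𝟙 X)⟦(1 : ℤ)⟧' = 0 := comp_distTriang_mor_zero₃₁ _ hT
    rw [smul_shift_eq, Linear.comp_smul, Category.comp_id] at h31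
    rw [Linear.smul_comp, Category.id_comp, h31])
  have h12 : (r • 𝟙 X) ≫ g = 0 := comp_distTriang_mor_zero₁₂ _ hT
  rw [Linear.smul_comp, Category.id_comp] at h12
  refine ⟨2, ?_⟩
  rw [pow_two, mul_smul, hb]
  exact ((Linear.comp_smul _ _ _ b r g).symm.trans (congrArg (b ≫ ·) h12)).trans comp_zero

theorem KVan.eq_zero_of_nilp : ∀ {l : List R} {X : T}, KVan l X → ∀ (Y : T), NilpAll l Y → ∀ u : Y ⟶ X, u = 0
  | [], _, h, _, _, u => h.eq_of_tgt u 0
  | r :: l, X, ⟨C, g, h, hT, hC⟩, Y, hY, u => by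
    have hdiv : ∀ u : Y ⟶ X, ∃ v : Y ⟶ X, u = r • v := fun u => by
      obtain ⟨v, hv⟩ := Triangle.coyoneda_exact₂ _ hT u
        (hC.eq_zero_of_nilp Y (fun s hs => hY s (List.mem_cons_of_mem r hs)) _)
      refine ⟨v, hv.trans ?_⟩
      exact (Linear.comp_smul _ _ _ v r (𝟙 X)).trans (congrArg (r • ·) (Category.comp_id v))
    obtain ⟨k, hk⟩ := hY r List.mem_cons_self
    have hpow : ∀ (n : ℕ) (u : Y ⟶ X), ∃ v : Y ⟶ X, u = r ^ n • v := by
      intro n
      induction n with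
      | zero => exact fun u => ⟨u, by rw [pow_zero, one_smul]⟩
      | succ n ih =>
        intro u
        obtain ⟨v, rfl⟩ := ih u
        obtain ⟨w, rfl⟩ := hdiv v
        exact ⟨w, by rw [smul_smul, pow_succ]⟩
    obtain ⟨v, rfl⟩ := hpow k u
    rw [← Category.id_comp v, ← Linear.smul_comp, hk, zero_comp]

theorem kVan_of_nilp_aux (L : List R) : ∀ (l : List R) (X : T),
    (∀ Y : T, NilpAll L Y → ∀ u : Y ⟶ X, u = 0) → (∀ r ∈ L, r ∈ l ∨ Nilp r X) → KVan l X
  | [], X, hX, hc => (IsZero.iff_id_eq_zero X).2 (hX X (fun r hr => (hc r hr).resolve_left List.not_mem_nil) _)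
  | r :: l, X, hX, hc => by
    obtain ⟨C, g, h, hT⟩ := distinguished_cocone_triangle (r • 𝟙 X)
    refine ⟨C, g, h, hT, kVan_of_nilp_aux L l C (fun Y hY u => ?_) fun s hs => ?_⟩
    · have h0 : u ≫ h = 0 := by
        apply (shiftFunctor T (-1 : ℤ)).map_injective
        rw [Functor.map_zero, ← cancel_mono ((shiftFunctorCompIsoId T (1 : ℤ) (-1) (by norm_num)).hom.app X),
          zero_comp]
        exact hX _ (fun s hs => (hY s hs).shift (-1)) _
      obtain ⟨v, rfl⟩ := Triangle.coyoneda_exact₃ _ hT u h0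
      rw [hX Y hY v]
      exact zero_comp
    · rcases hc s hs with hs' | hs'
      · rcases List.mem_cons.1 hs' with rfl | hs'
        · exact Or.inr (nilp_cone hT)
        · exact Or.inl hs'
      · exact Or.inr (nilp_obj₃ _ hT hs' hs')

/-- The criterion. -/
theorem lOrth_iff_nilp {l : List R} {X : T} :
    LOrth l X ↔ ∀ Y : T, NilpAll l Y → ∀ u : Y ⟶ X, u = 0 :=
  ⟨fun h => (kVan_iff_lOrth.2 h).eq_zero_of_nilp,
    fun h => (kVan_of_nilp_aux l l X h fun _ hr => Or.inl hr).lOrth⟩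

end Groth.Agent.DerCompLib
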