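import Groth.Agent.DerCompLib.AffGlobal
import Groth.Agent.DerCompLib.CplTransfer
import Groth.Agent.OpenRestrH.Derived
import Groth.Prelude.Def_CxOX

/-!
# The localised site of an open and the open subscheme

Transport of completeness and orthogonality from `D(Mod (O.over U))` to the derived category of the
open subscheme `U`, and generators of a quasi-coherent sheaf of ideals on an affine open.
-/

set_option autoImplicit false
set_option linter.style.haveILetI false
set_option linter.unusedSectionVars false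
set_option backward.isDefEq.respectTransparency false
set_option backward.isDefEq.respectTransparency.types false
set_option maxHeartbeats 1000000

universe u

open CategoryTheory CategoryTheory.Limits Opposite TopologicalSpace AlgebraicGeometry
open CategoryTheory.Pretriangulated

attribute [local instance] HasDerivedCategory.standard

noncomputable section

namespace Groth.Agent.DerCompLib

open Groth.Agent.ProEtDCLib

section General

universe v₁ u₁ v₂ u₂ w₁ w₂

variable {A : Type u₁} [Category.{v₁} A] [Abelian A] {B : Type u₂} [Category.{v₂} B] [Abelian B]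
  {R : Type w₁} [CommRing R] {S : Type w₂} [CommRing S] [Linear R A] [Linear S B]

/-- An adjunction of exact functors with invertible unit and counit gives an equivalence of derived categories. -/
theorem mapDerived_equivalence {F : A ⥤ B} {G : B ⥤ A} (adj : F ⊣ G) [F.Additive] [G.Additive]
    [PreservesFiniteLimits F] [PreservesFiniteColimits F] [PreservesFiniteLimits G] [PreservesFiniteColimits G]
    (hu : ∀ X, IsIso (adj.unit.app X)) (hc : ∀ X, IsIso (adj.counit.app X)) :
    G.mapDerivedCategory.Full ∧ G.mapDerivedCategory.Faithful ∧ G.mapDerivedCategory.EssSurj := by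
  obtain ⟨h₁, h₂⟩ := DerPushLib.fullyFaithful_mapDerived adj hc
  refine ⟨h₁, h₂, ⟨fun K => ?_⟩⟩
  let C := DerivedCategory.Q.objPreimage K
  haveI : ∀ i, IsIso (((DerPushLib.adjHC adj (ComplexShape.up ℤ)).unit.app C).f i) := fun i => hu (C.X i)
  haveI := HomologicalComplex.Hom.isIso_of_components ((DerPushLib.adjHC adj (ComplexShape.up ℤ)).unit.app C)
  obtain ⟨L, ⟨e⟩⟩ := DerPushLib.mem_essImage_of_quasiIso adj C inferInstance
  exact ⟨L, ⟨e ≪≫ DerivedCategory.Q.objObjPreimageIso K⟩⟩

/-- The derived functor of an equivalence is an equivalence. -/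
theorem mapDerived_ofEquivalence (F : A ⥤ B) [F.IsEquivalence] [F.Additive] [PreservesFiniteLimits F]
    [PreservesFiniteColimits F] :
    F.mapDerivedCategory.Full ∧ F.mapDerivedCategory.Faithful ∧ F.mapDerivedCategory.EssSurj := by
  let e := F.asEquivalence
  haveI : F.inv.Additive := Functor.additive_of_preserves_binary_products _
  exact mapDerived_equivalence (F := F.inv) (G := F) e.symm.toAdjunction
    (fun X => by infer_instance) (fun X => by infer_instance)

/-- Completeness passes through an equivalence compatible with the scalars. -/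
theorem Compl.mapDerived (F : A ⥤ B) [F.Additive] [PreservesFiniteLimits F] [PreservesFiniteColimits F]
    [F.mapDerivedCategory.Full] [F.mapDerivedCategory.Faithful] [F.mapDerivedCategory.EssSurj] {σ : R → S}
    (hσ : SmulCompat F σ) {r : R} {K : DerivedCategory A} (h : Compl r K) :
    Compl (σ r) (F.mapDerivedCategory.obj K) := fun Z n => by
  let G := F.mapDerivedCategory
  let e := G.objObjPreimageIso Z
  let φ : (G.objPreimage Z ⟶ K⟦n⟧) →+ (Z ⟶ (G.obj K)⟦n⟧) :=
    AddMonoidHom.mk' (fun x => e.inv ≫ G.map x ≫ (G.commShiftIso n).hom.app K)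
      (fun x y => by simp only [Functor.map_add, Preadditive.add_comp, Preadditive.comp_add])
  refine (h (G.objPreimage Z) n).of_bijective φ ?_ fun x => ?_
  · exact e.homFromEquiv.bijective.comp (((G.commShiftIso n).app K).homToEquiv.bijective.comp
      (Functor.FullyFaithful.ofFullyFaithful G).homEquiv.bijective)
  · show e.inv ≫ G.map (r • x) ≫ (G.commShiftIso n).hom.app K = σ r • (e.inv ≫ G.map x ≫ (G.commShiftIso n).hom.app K)
    rw [mapDerived_map_smul F σ hσ, Linear.smul_comp, Linear.comp_smul]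

/-- Morphisms out of the left adjoint of a derived functor. -/
theorem exists_equiv_of_adj {F : A ⥤ B} {G : B ⥤ A} (adj : F ⊣ G) [F.Additive] [G.Additive]
    [PreservesFiniteLimits F] [PreservesFiniteColimits F] [PreservesFiniteLimits G] [PreservesFiniteColimits G]
    (U : A) (Z : DerivedCategory B) (n : ℤ) :
    Nonempty (((DerivedCategory.singleFunctor B 0).obj (F.obj U) ⟶ Z⟦n⟧) ≃
      ((DerivedCategory.singleFunctor A 0).obj U ⟶ (G.mapDerivedCategory.obj Z)⟦n⟧)) := by
  obtain ⟨D⟩ := OpenRestrH.nonempty_derived_adjunction adj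
  exact ⟨((((F.mapDerivedCategorySingleFunctor 0).app U).symm.homFromEquiv).trans (D.homEquiv _ _)).trans
    ((G.mapDerivedCategory.commShiftIso n).app Z).homToEquiv⟩

/-- A fully faithful derived functor on morphisms out of an object in degree zero. -/
theorem exists_equiv_of_fullyFaithful (F : A ⥤ B) [F.Additive] [PreservesFiniteLimits F] [PreservesFiniteColimits F]
    [F.mapDerivedCategory.Full] [F.mapDerivedCategory.Faithful] {U : A} {V : B} (e : F.obj U ≅ V)
    (Z : DerivedCategory A) (n : ℤ) :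
    Nonempty (((DerivedCategory.singleFunctor A 0).obj U ⟶ Z⟦n⟧) ≃
      ((DerivedCategory.singleFunctor B 0).obj V ⟶ (F.mapDerivedCategory.obj Z)⟦n⟧)) := by
  let G := F.mapDerivedCategory
  exact ⟨((Functor.FullyFaithful.ofFullyFaithful G).homEquiv.trans ((G.commShiftIso n).app Z).homToEquiv).trans
    (((F.mapDerivedCategorySingleFunctor 0).app U ≪≫ (DerivedCategory.singleFunctor B 0).mapIso e).homFromEquiv)⟩

/-- Morphisms from the ring into a nonzero shift of a module vanish. -/
theorem subsingleton_sgl_shift {P : Type u} [CommRing P] [IsNoetherianRing P] (N : ModuleCat.{u} P) {p : ℤ} (hp : p ≠ 0) :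
    Subsingleton (RlimCrit.sgl 0 (ModuleCat.of P P) ⟶ (RlimCrit.sgl 0 N)⟦p⟧) := by
  have h0 : IsZero ((DerivedCategory.homologyFunctor (ModuleCat.{u} P) p).obj (RlimCrit.sgl 0 N)) :=
    ((HomologicalComplex.isZero_single_obj_homology (ComplexShape.up ℤ) 0 N p hp)).of_iso
      ((DerivedCategory.homologyFunctorFactors _ p).app _)
  have h1 : IsZero ((DerivedCategory.homologyFunctor (ModuleCat.{u} P) 0).obj ((RlimCrit.sgl 0 N)⟦p⟧)) :=
    h0.of_iso (((DerivedCategory.homologyFunctor (ModuleCat.{u} P) 0).shiftIso p 0 p (add_zero p)).app _)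
  haveI := ModuleCat.subsingleton_of_isZero h1
  exact (evOne_bijective _).1.subsingleton

/-- A completion map out of a zero module has zero target. -/
theorem IsCplMap.subsingleton {P : Type*} [CommRing P] {M : Type*} [AddCommGroup M] [Module P M] {N : Type*}
    [AddCommGroup N] [Module P N] {I : Ideal P} {f : M →ₗ[P] N} (h : IsCplMap I f) [Subsingleton M] :
    Subsingleton N := by
  haveI := h.1
  refine ⟨fun a b => sub_eq_zero.1 (IsHausdorff.haus' (I := I) _ fun n => SModEq.zero.2 ?_)⟩
  obtain ⟨x, hx⟩ := (h.2 n).1 (a - b)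
  rwa [Subsingleton.elim x 0, map_zero, zero_sub, neg_mem_iff] at hx

end General

/-- On a Noetherian affine scheme the completion of a coherent module has no higher cohomology. -/
theorem subsingleton_completion_single (V : Scheme.{u}) [IsAffine V] [IsLocallyNoetherian V]
    (G : ModSite.Mod V.sheaf) (hG : Coh.IsCoh (X := V) G) {r : ℕ} (s : Fin r → DerComp.GSec V.sheaf)
    {N K K' : DerivedCategory (ModSite.Mod V.sheaf)} (e : K ≅ SiteCmp.inD V.sheaf G) {a : N ⟶ K} {t : K ⟶ K'}
    {c : K' ⟶ N⟦(1 : ℤ)⟧} (hT : Triangle.mk a t c ∈ distTriang (DerivedCategory (ModSite.Mod V.sheaf)))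
    (hN : LOrth ((List.finRange r).map s) N) (hK' : ∀ i, Compl (s i) K') {p : ℤ} (hp : p ≠ 0) :
    Subsingleton (SiteCmp.inD V.sheaf (ModSite.unit V.sheaf) ⟶ K'⟦p⟧) := by
  haveI : IsNoetherianRing Γ(V, ⊤) := IsLocallyNoetherian.component_noetherian ⟨⊤, isAffineOpen_top V⟩
  let G' : V.Modules := G
  haveI : Coh.IsQCoh G' := hG.1
  let N₀ : ModuleCat.{u} Γ(V, ⊤) := ExtShLib.gsec.obj G'
  haveI hfin : Module.Finite Γ(V, ⊤) N₀ := QCohLib.finite_sections_of_isCoh (M := G') hG (isAffineOpen_top V)
  let eG : (phiM V).obj N₀ ≅ G := ExtShLib.liftIso (M := (ExtShLib.phi (X := V)).obj N₀) (N := G')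
    (ExtShLib.phiGsec N₀).toModuleIso.symm
  let eM : (phiD V).obj (RlimCrit.sgl 0 N₀) ≅ K :=
    (phiD V).mapIso ((DerivedCategory.singleFunctorIsoCompQ _ 0).app N₀).symm ≪≫
      ((phiM V).mapDerivedCategorySingleFunctor 0).app N₀ ≪≫
      (DerivedCategory.singleFunctor (ModSite.Mod V.sheaf) 0).mapIso eG ≪≫ e.symm
  have hM : FinH (RlimCrit.sgl 0 N₀) := fun q => by
    let ν := (DerivedCategory.homologyFunctorFactors (ModuleCat.{u} Γ(V, ⊤)) q).app
      ((HomologicalComplex.single (ModuleCat.{u} Γ(V, ⊤)) (ComplexShape.up ℤ) 0).obj N₀)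
    by_cases hq : q = 0
    · subst hq
      exact Module.Finite.equiv (ν ≪≫
        HomologicalComplex.singleObjHomologySelfIso (ComplexShape.up ℤ) (0 : ℤ) N₀).toLinearEquiv.symm
    · have hz : IsZero ((DerivedCategory.homologyFunctor (ModuleCat.{u} Γ(V, ⊤)) q).obj (RlimCrit.sgl 0 N₀)) :=
        (HomologicalComplex.isZero_single_obj_homology (ComplexShape.up ℤ) 0 N₀ q hq).of_iso ν
      haveI := ModuleCat.subsingleton_of_isZero hz
      exact Module.Finite.of_surjective (0 : Γ(V, ⊤) →ₗ[Γ(V, ⊤)] _) fun x => ⟨0, Subsingleton.elim _ _⟩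
  let g : Fin r → Γ(V, ⊤) := fun i => (s i).1 ⊤
  let J : Ideal Γ(V, ⊤) := Ideal.span {x | x ∈ (List.finRange r).map g}
  obtain ⟨M', C, f, b, d, hf, hC, hcpl⟩ := exists_phiD_completion V J g (List.finRange r) rfl _ hM
  have hs : ((List.finRange r).map fun i => secOf V (g i)) = (List.finRange r).map s :=
    List.map_congr_left fun i _ => secOf_val V (s i)
  rw [hs] at hC
  have h := isCplMap_of_completion (I := J.map (secOf V)) (fun x hx => ?_) hf hC hcpl eM hT hN (fun x hx => ?_) p
  · haveI := subsingleton_sgl_shift N₀ hp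
    obtain ⟨ε, hε, -, -⟩ := exists_homEquiv_single (phiM V) (secOf V) (phiM_smul V)
      (U := ModuleCat.of Γ(V, ⊤) Γ(V, ⊤)) (V := ModSite.unit V.sheaf) (nonempty_phiM_unit V).some p
    haveI : Subsingleton (SiteCmp.inD V.sheaf (ModSite.unit V.sheaf) ⟶
        ((phiD V).obj (RlimCrit.sgl 0 N₀))⟦p⟧) := (hε _).2.subsingleton
    haveI : Subsingleton (SiteCmp.inD V.sheaf (ModSite.unit V.sheaf) ⟶ K⟦p⟧) :=
      ((shiftFunctor _ p).mapIso eM).symm.homToEquiv.subsingleton
    exact h.subsingleton
  · obtain ⟨i, hi, rfl⟩ := List.mem_map.1 hx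
    rw [← secOf_val V (s i)]
    exact Ideal.mem_map_of_mem _ (Ideal.subset_span (List.mem_map.2 ⟨i, hi, rfl⟩))
  · obtain ⟨i, -, rfl⟩ := List.mem_map.1 hx
    exact hK' i

variable {X : Scheme.{u}} (U : X.Opens)

/-- Modules on the localised site as modules on the open subscheme. -/
def overE : ModSite.Mod (X.sheaf.over U) ⥤ ModSite.Mod (U : Scheme.{u}).sheaf :=
  (Scheme.Modules.overEquiv U).functor

instance isEquivalence_overE : (overE U).IsEquivalence :=
  inferInstanceAs ((Scheme.Modules.overEquiv U).functor.IsEquivalence)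

instance additive_overE : (overE U).Additive := Functor.additive_of_preserves_binary_products _

/-- A global section of the localised site as one of the open subscheme. -/
def toU (s : DerComp.GSec (X.sheaf.over U)) : DerComp.GSec (U : Scheme.{u}).sheaf :=
  ⟨fun W => s.1 ((Opens.overEquivalence U).inverse.obj W),
    fun W W' g => s.2 ((Opens.overEquivalence U).inverse.map g)⟩

theorem smulCompat_overE :
    SmulCompat (R := DerComp.GSec (X.sheaf.over U)) (S := DerComp.GSec (U : Scheme.{u}).sheaf) (overE U) (toU U) := by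
  intro s N
  have h1 : s • 𝟙 N = DerComp.smulEnd s N := Category.comp_id _
  have h2 : toU U s • 𝟙 ((overE U).obj N) = DerComp.smulEnd (toU U s) ((overE U).obj N) := Category.comp_id _
  rw [h1, h2]
  refine SheafOfModules.hom_ext (PresheafOfModules.hom_ext fun W => ModuleCat.hom_ext (LinearMap.ext fun x => ?_))
  rfl

/-- The free module on an open and the open subscheme. -/
theorem nonempty_overE_unit :
    Nonempty ((overE U).obj (ModSite.unit (X.sheaf.over U)) ≅ ModSite.unit (U : Scheme.{u}).sheaf) := by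
  exact ⟨Iso.refl _⟩

/-- Generators of a quasi-coherent sheaf of ideals on an affine open. -/
theorem exists_isGenBy_over [IsLocallyNoetherian X] (𝓘 : DerComp.IdealSh X.sheaf)
    (hqc : ∀ (U : X.affineOpens) (g : Γ(X, ↑U)),
      𝓘.ideal (X.basicOpen g) = Ideal.map (X.presheaf.map (homOfLE (X.basicOpen_le g)).op).hom (𝓘.ideal ↑U))
    (hU : IsAffineOpen U) :
    ∃ (r : ℕ) (a : Fin r → Γ(X, U)), (∀ i, a i ∈ 𝓘.ideal U) ∧
      (𝓘.over U).IsGenBy fun i => DerComp.GSec.ofSect X.sheaf U (a i) := by
  haveI : IsNoetherianRing Γ(X, U) := IsLocallyNoetherian.component_noetherian ⟨U, hU⟩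
  let J : Ideal Γ(X, U) := 𝓘.ideal U
  obtain ⟨r, a, ha⟩ := Submodule.fg_iff_exists_fin_generating_family.1 (IsNoetherian.noetherian J)
  have haI : ∀ i, a i ∈ 𝓘.ideal U := fun i =>
    show a i ∈ J from ha ▸ Submodule.subset_span ⟨i, rfl⟩
  refine ⟨r, a, haI, fun i V => 𝓘.map_mem V.hom (haI i), fun I'' h'' V f hf => ?_⟩
  let S₁ : Sieve V.left :=
    { arrows := fun W _ => ∃ g : Γ(X, U), W ≤ X.basicOpen g ∧ X.basicOpen g ≤ V.left
      downward_closed := fun {W W'} _ ⟨g, h1, h2⟩ k => ⟨g, le_trans (leOfHom k) h1, h2⟩ }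
  have hS₁ : S₁ ∈ Opens.grothendieckTopology X V.left := fun x hx => by
    obtain ⟨g, hg1, hg2⟩ := hU.exists_basicOpen_le (V := V.left) ⟨x, hx⟩ (leOfHom V.hom hx)
    exact ⟨X.basicOpen g, homOfLE hg1, ⟨g, le_rfl, hg1⟩, hg2⟩
  refine I''.glue ((Sieve.overEquiv V).symm S₁)
    ((Opens.grothendieckTopology X).overEquiv_symm_mem_over V S₁ hS₁) fun W k hk => ?_
  obtain ⟨g, h1, h2⟩ : S₁ k.left := hk
  let D : Over U := Over.mk (homOfLE (X.basicOpen_le g))
  have hfD : (X.presheaf.map (homOfLE h2).op).hom f ∈ I''.ideal D := by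
    let φ := (X.presheaf.map (homOfLE (X.basicOpen_le g)).op).hom
    have h : Ideal.map φ (𝓘.ideal U) ≤ I''.ideal D := by
      show Ideal.map φ J ≤ I''.ideal D
      rw [← ha, Ideal.map_le_iff_le_comap]
      refine Submodule.span_le.2 ?_
      rintro _ ⟨i, rfl⟩
      exact h'' i D
    refine h ?_
    rw [← hqc ⟨U, hU⟩ g]
    exact 𝓘.map_mem (homOfLE h2) hf
  have h3 := I''.map_mem (U := D) (V := W) (Over.homMk (homOfLE h1) (Subsingleton.elim _ _)) hfD
  have e : ((X.sheaf.over U).obj.map (Over.homMk (U := W) (V := D) (homOfLE h1) (Subsingleton.elim _ _)).op).hom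
      ((X.presheaf.map (homOfLE h2).op).hom f) = ((X.sheaf.over U).obj.map k.op).hom f := by
    show (X.presheaf.map (homOfLE h2).op ≫ X.presheaf.map (homOfLE h1).op).hom f = (X.presheaf.map k.left.op).hom f
    rw [← Functor.map_comp]
    rfl
  exact e ▸ h3

end Groth.Agent.DerCompLib
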