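import Groth.Agent.DerCompLib.Site
import Groth.Agent.DerCompLib.Sections
import Groth.Agent.SiteCmpLib.Unbounded

/-!
# Derived completeness and derived direct images
-/

set_option autoImplicit false
set_option linter.style.haveILetI false
set_option linter.unusedSectionVars false
set_option backward.isDefEq.respectTransparency false
set_option backward.isDefEq.respectTransparency.types false

universe u

open CategoryTheory CategoryTheory.Limits CategoryTheory.Pretriangulated Opposite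

attribute [local instance] HasDerivedCategory.standard

noncomputable section

namespace Groth.Agent.DerCompLib

open Groth.Agent.ProEtDCLib Groth.Agent.SiteBase

variable {C : Type u} [SmallCategory C] {J : GrothendieckTopology C} {O_C : Sheaf J CommRingCat.{u}}
  {D : Type u} [SmallCategory D] {K : GrothendieckTopology D} {O_D : Sheaf K CommRingCat.{u}}
  (f : ModSite.RMor O_C O_D)

/-- The image of a section under the ring map. -/
abbrev sharpAt (V : D) (g : O_D.obj.obj (op V)) : O_C.obj.obj (op (f.fn.obj V)) :=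
  show O_C.obj.obj (op (f.fn.obj V)) from (f.sharp.hom.app (op V)).hom g

/-- Inverse images of free modules. -/
def pullFreeEquiv (V : D) (N : ModSite.Mod O_C) :
    (f.pull.obj (ModSite.freeOn O_D V) ⟶ N) ≃ N.val.obj (op (f.fn.obj V)) :=
  (f.adj.homEquiv _ N).trans (FreeOn.freeOnEquiv O_D V (f.push.obj N))

theorem pullFreeEquiv_comp (V : D) {N N' : ModSite.Mod O_C} (φ : f.pull.obj (ModSite.freeOn O_D V) ⟶ N)
    (g : N ⟶ N') :
    pullFreeEquiv f V N' (φ ≫ g) = g.val.app (op (f.fn.obj V)) (pullFreeEquiv f V N φ) := by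
  simp only [pullFreeEquiv, Equiv.trans_apply]
  rw [f.adj.homEquiv_naturality_right]
  exact FreeOn.freeOnEquiv_comp O_D V _ _

/-- The inverse image of `j_{V!} O` is `j_{fV!} O`. -/
def pullFreeIso (V : D) : f.pull.obj (ModSite.freeOn O_D V) ≅ ModSite.freeOn O_C (f.fn.obj V) :=
  FreeOn.isoOfEquiv O_C (f.fn.obj V) _ (pullFreeEquiv f V) (pullFreeEquiv_comp f V)

theorem pullFreeIso_comm (V : D) (g : O_D.obj.obj (op V)) :
    f.pull.map (endF O_D V g) ≫ (pullFreeIso f V).hom =
      (pullFreeIso f V).hom ≫ endF O_C (f.fn.obj V) (sharpAt f V g) := by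
  refine (pullFreeEquiv f V _).injective ?_
  have he : ∀ {N : ModSite.Mod O_C} (φ : ModSite.freeOn O_C (f.fn.obj V) ⟶ N),
      pullFreeEquiv f V N ((pullFreeIso f V).hom ≫ φ) = FreeOn.freeOnEquiv O_C (f.fn.obj V) N φ :=
    fun φ => isoOfEquiv_hom_comp O_C (f.fn.obj V) _ (pullFreeEquiv f V) (pullFreeEquiv_comp f V) φ
  refine Eq.trans ?_ (he _).symm
  have h1 := freeOnEquiv_extZero_smulEnd O_C (f.fn.obj V) (sharpAt f V g) (𝟙 (ModSite.freeOn O_C (f.fn.obj V)))
  rw [Category.comp_id] at h1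
  refine Eq.trans ?_ h1.symm
  rw [← he (𝟙 _), Category.comp_id]
  simp only [pullFreeEquiv, Equiv.trans_apply]
  rw [f.adj.homEquiv_naturality_left]
  exact freeOnEquiv_extZero_smulEnd O_D V g _

/-- A morphism of modules placed in degree zero. -/
abbrev sgl₀ {A : ModSite.Mod O_D} {B : ModSite.Mod O_D} (a : A ⟶ B) :=
  (DerivedCategory.singleFunctor (ModSite.Mod O_D) 0).map a

variable [SiteCmp.HasRpushD f]

attribute [local instance 100] HasDerivedCategory.standard

open SiteCmpLib in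
theorem homRpushEquiv_sglMap {V V' : D} (a : freeOn O_D V ⟶ freeOn O_D V') (X : DerivedCategory (ModSite.Mod O_C))
    (ξ : RlimCrit.sgl 0 (freeOn O_D V') ⟶ (SiteCmp.RpushD f).obj X) :
    homRpushEquiv f V 0 X (RlimCrit.sglMap 0 a ≫ ξ) =
      RlimCrit.sglMap 0 (f.pull.map a) ≫ homRpushEquiv f V' 0 X ξ := by
  let S := HomologicalComplex.single (ModSite.Mod O_D) (ComplexShape.up ℤ) 0
  have h1 : homModelEquiv f V 0 X (RlimCrit.sglMap 0 a ≫ ξ) = quotH.map (S.map a) ≫ homModelEquiv f V' 0 X ξ := by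
    apply (bijective_Qh_push f V 0 (KInj.model (hres_mod O_C) X)).1
    refine (homModelEquiv_spec f V 0 X _).trans (Eq.trans ?_ (DerivedCategory.Qh.map_comp _ _).symm)
    refine Eq.trans ?_ (congrArg (DerivedCategory.Qh.map (quotH.map (S.map a)) ≫ ·) (homModelEquiv_spec f V' 0 X ξ)).symm
    simp only [Category.assoc]
    exact (((DerivedCategory.quotientCompQhIso (ModSite.Mod O_D)).hom.naturality_assoc (S.map a) _)).symm
  show modelPullEquiv f V 0 X (homModelEquiv f V 0 X (RlimCrit.sglMap 0 a ≫ ξ)) =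
    RlimCrit.sglMap 0 (f.pull.map a) ≫ modelPullEquiv f V' 0 X (homModelEquiv f V' 0 X ξ)
  rw [h1]
  generalize homModelEquiv f V' 0 X ξ = η
  simp only [modelPullEquiv, Equiv.trans_apply, Adjunction.homEquiv_naturality_left_symm,
    Iso.homFromEquiv_apply, ← Category.assoc]
  congr 1
  let φ := (f.pull.mapHomologicalComplex (ComplexShape.up ℤ)).map (S.map a)
  simp only [pullFreeCxIso, Iso.trans_inv, Functor.mapIso_inv, Functor.mapIso_trans, Category.assoc,
    ← Functor.map_comp]
  have n1 := (DerivedCategory.quotientCompQhIso (ModSite.Mod O_C)).inv.naturality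
    ((HomologicalComplex.single (ModSite.Mod O_C) (ComplexShape.up ℤ) 0).map (f.pull.map a))
  refine Eq.trans ?_ ((reassoc_of% n1) _).symm
  refine congrArg (_ ≫ ·) ?_
  show DerivedCategory.Qh.map _ = DerivedCategory.Qh.map (quotH.map _) ≫ DerivedCategory.Qh.map _
  rw [← Functor.map_comp]
  refine congrArg DerivedCategory.Qh.map ?_
  have n2 := (HomologicalComplex.singleMapHomologicalComplex f.pull (ComplexShape.up ℤ) 0).inv.naturality a
  have n3 := (f.pull.mapHomotopyCategoryFactors (ComplexShape.up ℤ)).inv.naturality (S.map a)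
  dsimp at n2 n3 ⊢
  refine (whisker_eq _ n3.symm).trans ?_
  refine (Category.assoc _ _ _).symm.trans ((eq_whisker ?_ _).trans (Category.assoc _ _ _))
  exact ((Functor.map_comp _ _ _).symm.trans (congrArg quotH.map n2.symm)).trans (Functor.map_comp _ _ _)

/-- Derived completeness of a derived direct image at a section. -/
theorem cplAt_rpushD_iff (V : D) (g : O_D.obj.obj (op V)) (X : DerivedCategory (ModSite.Mod O_C)) :
    CplAt O_D V g ((SiteCmp.RpushD f).obj X) ↔ CplAt O_C (f.fn.obj V) (sharpAt f V g) X := by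
  obtain ⟨cs, hcs⟩ := SiteCmpLib.exists_triangulated_rpushD f
  letI := cs
  haveI := hcs
  haveI : (SiteCmp.RpushD f).Additive := inferInstance
  let R := SiteCmp.RpushD f
  let i := modPIso O_D V
  let pi := pullFreeIso f V
  let F₀ := DerivedCategory.singleFunctor (ModSite.Mod O_C) 0
  let G₀ := DerivedCategory.singleFunctor (ModSite.Mod O_D) 0
  let a : SiteCmpLib.freeOn O_D V ⟶ SiteCmpLib.freeOn O_D V := i.hom ≫ endF O_D V g ≫ i.inv
  let B := RlimCrit.sgl 0 (f.pull.obj (SiteCmpLib.freeOn O_D V))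
  let w := (SiteCmpLib.homRpushEquiv f V 0 B).symm (𝟙 B)
  refine forall_congr' fun n => ?_
  let t := (R.commShiftIso n).app X
  let b : E O_C (f.fn.obj V) ≅ B := F₀.mapIso (pi.symm ≪≫ f.pull.mapIso i.symm)
  let Φ : (E O_C (f.fn.obj V) ⟶ X⟦n⟧) →+ (E O_D V ⟶ (R.obj X)⟦n⟧) :=
    ((Preadditive.rightComp _ t.hom).comp (Preadditive.leftComp _ (G₀.map i.inv ≫ w))).comp
      ((R.mapAddHom).comp (Preadditive.leftComp _ b.inv))
  have hw : ∀ (η : B ⟶ X⟦n⟧), w ≫ R.map η = (SiteCmpLib.homRpushEquiv f V 0 (X⟦n⟧)).symm η := fun η =>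
    ((Equiv.symm_apply_eq _).2 (by
      rw [SiteCmpLib.homRpushEquiv_naturality, Equiv.apply_symm_apply, Category.id_comp])).symm
  have hb : Function.Bijective Φ := by
    have h2 : (Φ : (E O_C (f.fn.obj V) ⟶ X⟦n⟧) → _) = t.homToEquiv ∘ (G₀.mapIso i).symm.homFromEquiv.symm ∘
        (SiteCmpLib.homRpushEquiv f V 0 (X⟦n⟧)).symm ∘ b.homFromEquiv := by
      funext x
      show ((G₀.map i.inv ≫ w) ≫ R.map (b.inv ≫ x)) ≫ t.hom = _
      rw [Category.assoc (G₀.map i.inv) w, hw]
      rfl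
    rw [h2]
    exact t.homToEquiv.bijective.comp (((G₀.mapIso i).symm.homFromEquiv.symm.bijective).comp
      ((SiteCmpLib.homRpushEquiv f V 0 (X⟦n⟧)).symm.bijective.comp b.homFromEquiv.bijective))
  have hb1 : F₀.map (endF O_C (f.fn.obj V) (sharpAt f V g)) ≫ b.hom = b.hom ≫ F₀.map (f.pull.map a) := by
    show F₀.map _ ≫ F₀.map (pi.inv ≫ f.pull.map i.inv) = F₀.map (pi.inv ≫ f.pull.map i.inv) ≫ F₀.map _
    rw [← Functor.map_comp, ← Functor.map_comp]
    refine congrArg F₀.map ?_
    have hk : endF O_C (f.fn.obj V) (sharpAt f V g) ≫ (pullFreeIso f V).inv =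
        (pullFreeIso f V).inv ≫ f.pull.map (endF O_D V g) := by
      rw [Iso.comp_inv_eq, Category.assoc, pullFreeIso_comm f V g, Iso.inv_hom_id_assoc]
    rw [Category.assoc, ← Functor.map_comp, show i.inv ≫ a = endF O_D V g ≫ i.inv from i.inv_hom_id_assoc _,
      Functor.map_comp, ← Category.assoc, ← Category.assoc]
    exact congrArg (· ≫ f.pull.map i.inv) hk
  have hc : ∀ x, Φ (act O_C (f.fn.obj V) (sharpAt f V g) (X⟦n⟧) x) = act O_D V g ((R.obj X)⟦n⟧) (Φ x) := fun x => by
    show ((G₀.map i.inv ≫ w) ≫ R.map (b.inv ≫ F₀.map _ ≫ x)) ≫ t.hom =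
      G₀.map (endF O_D V g) ≫ (((G₀.map i.inv ≫ w) ≫ R.map (b.inv ≫ x)) ≫ t.hom)
    have h3 : b.inv ≫ F₀.map (endF O_C (f.fn.obj V) (sharpAt f V g)) ≫ x =
        F₀.map (f.pull.map a) ≫ b.inv ≫ x := by
      rw [← Category.assoc, ← Category.assoc]
      refine congrArg (· ≫ x) ?_
      rw [Iso.inv_comp_eq, ← Category.assoc, ← hb1, Category.assoc, b.hom_inv_id, Category.comp_id]
    have h4 : ∀ η : B ⟶ X⟦n⟧, w ≫ R.map (F₀.map (f.pull.map a) ≫ η) = G₀.map a ≫ w ≫ R.map η := fun η => by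
      rw [hw, hw, Equiv.symm_apply_eq]
      exact ((homRpushEquiv_sglMap f a _ _).trans (congrArg (_ ≫ ·) (Equiv.apply_symm_apply _ _))).symm
    rw [h3, Category.assoc (G₀.map i.inv) w, h4, ← Category.assoc (G₀.map i.inv) (G₀.map a), ← Functor.map_comp,
      show i.inv ≫ a = endF O_D V g ≫ i.inv from i.inv_hom_id_assoc _, Functor.map_comp]
    simp only [Category.assoc]
  exact ⟨fun h => h.of_bijective' Φ hb hc, fun h => h.of_bijective Φ hb hc⟩

end Groth.Agent.DerCompLib
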