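import Groth.Agent.DerCompLib.RestrOrth

/-!
# Generators of the extension of a sheaf of ideals along a morphism of ringed sites
-/

set_option autoImplicit false
set_option linter.style.haveILetI false
set_option linter.unusedSectionVars false
set_option backward.isDefEq.respectTransparency false
set_option backward.isDefEq.respectTransparency.types false
set_option maxRecDepth 2000

universe u

open CategoryTheory CategoryTheory.Limits Opposite

attribute [local instance] HasDerivedCategory.standard

noncomputable section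

namespace Groth.Agent.DerCompLib

open Groth.Agent.ModTensor Groth.Agent.PullFlat

variable {C D : Type u} [SmallCategory C] [SmallCategory D] {J : GrothendieckTopology C}
  {K : GrothendieckTopology D} {O_C : Sheaf J CommRingCat.{u}} {O_D : Sheaf K CommRingCat.{u}}
  (f : ModSite.RMor O_C O_D) (V : D)

/-- The sections whose restrictions to objects over `f⁻¹V` lie in an ideal of the slice. -/
def pushDownIdeal (I'' : DerComp.IdealSh (O_C.over (f.fn.obj V))) : DerComp.IdealSh O_C where
  ideal W :=
    { carrier := {h | ∀ (W' : C) (k : W' ⟶ W) (e : W' ⟶ f.fn.obj V),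
        (ores O_C k.op h) ∈ (show Ideal (O_C.obj.obj (op W')) from I''.ideal (Over.mk e))}
      add_mem' := fun {a b} ha hb W' k e => by
        rw [map_add]
        exact Ideal.add_mem _ (ha W' k e) (hb W' k e)
      zero_mem' := fun W' k e => by
        rw [map_zero]
        exact Ideal.zero_mem _
      smul_mem' := fun r a ha W' k e => by
        rw [smul_eq_mul, map_mul]
        exact Ideal.mul_mem_left _ _ (ha W' k e) }
  map_mem {W W₁} g {h} hh W' k e := by
    show ores O_C k.op (ores O_C g.op h) ∈ _
    rw [← ores_comp, ← op_comp]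
    exact hh W' (k ≫ g) e
  glue {W h} S hS hh W' k e := by
    refine I''.glue (U := Over.mk e) ((Sieve.overEquiv (Over.mk e)).symm (S.pullback k))
      (J.overEquiv_symm_mem_over (Over.mk e) _ (J.pullback_stable k hS)) fun W'' g hg => ?_
    have hg' : S (g.left ≫ k) := hg
    have h1 := hh (g.left ≫ k) hg' W''.left (𝟙 _) W''.hom
    show ores O_C g.left.op (ores O_C k.op h) ∈ (show Ideal (O_C.obj.obj (op W''.left)) from I''.ideal W'')
    have e1 := ores_comp O_C k.op g.left.op h
    rw [← op_comp] at e1
    rw [op_id, ores_id, e1] at h1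
    exact h1

/-- Over `f⁻¹V` the extended ideal is generated by the images of generators over `V`. -/
theorem isGenBy_over_ext (I : DerComp.IdealSh O_D) (I' : DerComp.IdealSh O_C) (hI' : DerComp.RIsIdealExt f I I')
    {r : ℕ} (a : Fin r → O_D.obj.obj (op V)) (ha : (I.over V).IsGenBy fun i => DerComp.GSec.ofSect O_D V (a i)) :
    (I'.over (f.fn.obj V)).IsGenBy
      fun i => DerComp.GSec.ofSect O_C (f.fn.obj V) ((f.sharp.hom.app (op V)).hom (a i)) := by
  refine ⟨fun i W => I'.map_mem W.hom (hI'.1 V (a i) ?_), fun I'' h'' W h hh => ?_⟩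
  · have h := ha.1 i (Over.mk (𝟙 V))
    change (O_D.obj.map (𝟙 V).op).hom (a i) ∈ I.ideal V at h
    rwa [op_id, O_D.obj.map_id] at h
  · have hle : I' ≤ pushDownIdeal f V I'' := hI'.2 _ fun V'' g hg W' k e => by
      obtain ⟨S, hS, hS'⟩ := exists_cover_pair J K f.fn k e
      refine I''.glue (U := Over.mk e) ((Sieve.overEquiv (Over.mk e)).symm S)
        (J.overEquiv_symm_mem_over (Over.mk e) S hS) fun W'' l hl => ?_
      obtain ⟨P, ψ, p, q, hp, hq⟩ := hS' l.left hl
      obtain ⟨R, hR, hR'⟩ := locGen (O := O_D.over V) _ (List.ofFn fun i => DerComp.GSec.ofSect O_D V (a i))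
        (fun i => List.mem_ofFn.2 ⟨i, rfl⟩) ha (Over.mk q) (ores O_D p.op g) (I.map_mem p hg)
      let R₁ : Sieve P := Sieve.overEquiv (Over.mk q : Over V) R
      have hR₁ : R₁ ∈ K P := (GrothendieckTopology.mem_over_iff _ _).1 hR
      refine I''.glue (U := W'') ((Sieve.overEquiv W'').symm ((R₁.functorPushforward f.fn).pullback ψ))
        (J.overEquiv_symm_mem_over W'' _ (J.pullback_stable ψ (functorPushforward_mem J K f.fn R₁ hR₁)))
        fun W₃ m hm => ?_
      obtain ⟨P₃, t, φ, ht, hfac⟩ : (R₁.functorPushforward f.fn).arrows (m.left ≫ ψ) := hm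
      have hg1 := hR' _ ((Sieve.overEquiv_iff R t).1 ht)
      have hlk : (m.left ≫ l.left) ≫ k = φ ≫ f.fn.map (t ≫ p) := by
        rw [Category.assoc, hp, ← Category.assoc, hfac, Category.assoc, ← f.fn.map_comp]
      have hW₃ : φ ≫ f.fn.map (t ≫ q) = W₃.hom := by
        rw [f.fn.map_comp, ← Category.assoc, ← hfac, Category.assoc, ← hq, ← Category.assoc]
        exact (Category.assoc _ _ _).trans ((congrArg (m.left ≫ ·) (Over.w l)).trans (Over.w m))
      have key : ores O_C m.left.op (ores O_C l.left.op (ores O_C k.op ((f.sharp.hom.app (op V'')).hom g))) =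
          shRes f φ (ores O_D t.op (ores O_D p.op g)) := by
        rw [← ores_comp, ← ores_comp, ← op_comp, ← op_comp]
        rw [shRes_ores, ← hlk]
        refine (ores_comp O_C k.op (m.left ≫ l.left).op _).symm.trans ?_
        rw [← op_comp]
        rfl
      show ores O_C m.left.op (ores O_C l.left.op (ores O_C k.op _)) ∈
        (show Ideal (O_C.obj.obj (op W₃.left)) from I''.ideal W₃)
      erw [key]
      refine (Ideal.map_le_iff_le_comap.1 ?_ : spanFam (O := O_D.over V) _ _ ≤ _) hg1
      rw [spanFam]
      erw [Ideal.map_span]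
      refine Ideal.span_le.2 ?_
      rintro _ ⟨_, ⟨s, hs, rfl⟩, rfl⟩
      obtain ⟨i, rfl⟩ := List.mem_ofFn.1 hs
      show shRes f φ (ores O_D (t ≫ q).op (a i)) ∈ _
      rw [shRes_ores, hW₃]
      exact h'' i W₃
    have h1 := hle W.left hh W.left (𝟙 _) W.hom
    rw [op_id, ores_id] at h1
    exact h1

end Groth.Agent.DerCompLib
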