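import Groth.Agent.DerCompLib.Ideal
import Groth.Agent.DerCompLib.TensorSmul
import Groth.Agent.DCohLib.MapTotNat
import Groth.Agent.KFlat.Restr
import Groth.Agent.DerSchH7.SiteTensor

/-!
# The derived tensor product of `j_{V!} O_V` with a complex; internal derived hom into complete objects
-/

set_option autoImplicit false
set_option linter.style.haveILetI false
set_option linter.unusedSectionVars false
set_option backward.isDefEq.respectTransparency false
set_option backward.isDefEq.respectTransparency.types false
set_option maxRecDepth 2000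
set_option synthInstance.maxHeartbeats 200000

universe u

open CategoryTheory CategoryTheory.Limits Opposite

attribute [local instance] HasDerivedCategory.standard

noncomputable section

namespace Groth.Agent.DerCompLib

open Groth.Agent.ProEtDCLib Groth.Agent.KFlat

variable {C : Type u} [SmallCategory C] {J : GrothendieckTopology C} (O : Sheaf J CommRingCat.{u}) (V : C)

/-- The total complex of a module on the localised site and the restriction of a complex. -/
abbrev totRestr (M : ModSite.Mod (O.over V)) (q : ℤ) (P : CochainComplex (ModSite.Mod O) ℤ) :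
    CochainComplex (ModSite.Mod (O.over V)) ℤ :=
  ((biRestr O V).map₂CochainComplex.obj
    ((HomologicalComplex.single (ModSite.Mod (O.over V)) (ComplexShape.up ℤ) q).obj M)).obj P

theorem totRestr_smulEnd (s : DerComp.GSec (O.over V)) (M : ModSite.Mod (O.over V)) (q : ℤ)
    (P : CochainComplex (ModSite.Mod O) ℤ) :
    ((biRestr O V).map₂CochainComplex.map
      ((HomologicalComplex.single (ModSite.Mod (O.over V)) (ComplexShape.up ℤ) q).map
        (DerComp.smulEnd s M))).app P = s • 𝟙 (totRestr O V M q P) := by
  refine HomologicalComplex.hom_ext _ _ fun n => HomologicalComplex.mapBifunctor.hom_ext fun p r h => ?_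
  let S := HomologicalComplex.single (ModSite.Mod (O.over V)) (ComplexShape.up ℤ) q
  have hf : (S.map (DerComp.smulEnd s M)).f p = DerComp.smulEnd s ((S.obj M).X p) := by
    by_cases hp : p = q
    · subst hp
      rw [HomologicalComplex.single_map_f_self, ← Category.assoc, ← DerComp.smulEnd_comm, Category.assoc,
        Iso.hom_inv_id, Category.comp_id]
    · exact (HomologicalComplex.isZero_single_obj_X (ComplexShape.up ℤ) q M p hp).eq_of_src _ _
  refine (HomologicalComplex.ι_mapBifunctorMap (S.map (DerComp.smulEnd s M)) (𝟙 P) (biRestr O V)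
    (ComplexShape.up ℤ) p r n h).trans ?_
  rw [HomologicalComplex.id_f, CategoryTheory.Functor.map_id, Category.id_comp, hf]
  refine (congrArg (· ≫ _) (tensor_smulEnd (O.over V) s _ _)).trans ?_
  refine (DerComp.smulEnd_comm s _).trans (congrArg (_ ≫ ·) ?_)
  exact (Category.comp_id _).symm

variable (f : O.obj.obj (op V)) (q : ℤ) (P : CochainComplex (ModSite.Mod O) ℤ) [ModSite.HasLTensorCx P]

set_option maxHeartbeats 3000000 in
/-- `j_{V!} O_V[-q] ⊗^L P` is extended by zero from the localised site, compatibly with multiplication by sections. -/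
theorem exists_tensor_iso :
    ∃ e : (ModSite.LTensorCx P).obj (RlimCrit.sgl q (ModSite.freeOn O V)) ≅
        (ModSite.extZero O V).mapDerivedCategory.obj (DerivedCategory.Q.obj (totRestr O V (ModSite.unit _) q P)),
      (ModSite.LTensorCx P).map (RlimCrit.sglMap q (endF O V f)) ≫ e.hom =
        e.hom ≫ (ModSite.extZero O V).mapDerivedCategory.map
          (DerComp.GSec.ofSect O V f • 𝟙 (DerivedCategory.Q.obj (totRestr O V (ModSite.unit _) q P))) := by
  let F := ModSite.extZero O V
  haveI : PreservesColimitsOfSize.{u, u} F := (ModSite.extZeroAdj O V).leftAdjoint_preservesColimits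
  haveI : PreservesColimitsOfSize.{0, 0} F := preservesColimitsOfSize_shrink.{0, u, 0, u} _
  let Fc := F.mapHomologicalComplex (ComplexShape.up ℤ)
  let S' := HomologicalComplex.single (ModSite.Mod (O.over V)) (ComplexShape.up ℤ) q
  let S := HomologicalComplex.single (ModSite.Mod O) (ComplexShape.up ℤ) q
  let M := ModSite.unit (O.over V)
  let s := DerComp.GSec.ofSect O V f
  let a0 := DerComp.smulEnd s M
  let T := (ModSite.tensorCx O).flip.obj P
  let u := (HomologicalComplex.singleMapHomologicalComplex F (ComplexShape.up ℤ) q).app M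
  let K := S.obj (ModSite.freeOn O V)
  have hK : ModSite.IsKFlat K := isKFlat_single O q (SiteBase.ExtZeroPre.isFlat_freeOn O V)
  haveI := DerSchH7.isIso_siteCounit_app O P K hK
  let e1 : (ModSite.LTensorCx P).obj (RlimCrit.sgl q (ModSite.freeOn O V)) ≅ DerivedCategory.Q.obj (T.obj K) :=
    asIso ((DerSchH7.siteCounit O P).app K)
  have h1 : (ModSite.LTensorCx P).map (RlimCrit.sglMap q (endF O V f)) ≫ e1.hom =
      e1.hom ≫ DerivedCategory.Q.map (T.map (S.map (endF O V f))) :=
    (DerSchH7.siteCounit O P).naturality (S.map (endF O V f))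
  let i := mapTotIso (projBiIso O V) (S'.obj M) P
  let e2 : T.obj K ≅ Fc.obj (totRestr O V M q P) := T.mapIso u.symm ≪≫ i.symm
  have h2 : T.map (S.map (endF O V f)) ≫ e2.hom =
      e2.hom ≫ Fc.map (((biRestr O V).map₂CochainComplex.map (S'.map a0)).app P) := by
    have n1 : S.map (endF O V f) ≫ u.inv = u.inv ≫ Fc.map (S'.map a0) :=
      (HomologicalComplex.singleMapHomologicalComplex F (ComplexShape.up ℤ) q).inv.naturality a0
    show T.map (S.map (endF O V f)) ≫ T.map u.inv ≫ i.inv = (T.map u.inv ≫ i.inv) ≫ _
    rw [← Category.assoc, ← T.map_comp, n1, T.map_comp, Category.assoc, Category.assoc]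
    exact congrArg (T.map u.inv ≫ ·) (mapTotIso_inv_natural (projBiIso O V) P (S'.map a0))
  let e3 := F.mapDerivedCategoryFactors.app (totRestr O V M q P)
  refine ⟨e1 ≪≫ DerivedCategory.Q.mapIso e2 ≪≫ e3.symm, ?_⟩
  have h3 : DerivedCategory.Q.map (Fc.map (((biRestr O V).map₂CochainComplex.map (S'.map a0)).app P)) ≫ e3.inv =
      e3.inv ≫ F.mapDerivedCategory.map (s • 𝟙 (DerivedCategory.Q.obj (totRestr O V M q P))) := by
    rw [totRestr_smulEnd O V s M q P]
    refine (F.mapDerivedCategoryFactors.inv.naturality _).trans (congrArg (_ ≫ ·) ?_)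
    show F.mapDerivedCategory.map (DerivedCategory.Q.map _) = _
    rw [Functor.map_smul DerivedCategory.Q, CategoryTheory.Functor.map_id]
  simp only [Iso.trans_hom, Functor.mapIso_hom, Iso.symm_hom, Category.assoc]
  rw [reassoc_of% h1, ← DerivedCategory.Q.map_comp_assoc, h2, DerivedCategory.Q.map_comp_assoc, h3]

variable [DerComp.HasRHom P]

set_option maxHeartbeats 1600000 in
theorem isDerComp_rhom (I : DerComp.IdealSh O) (L : DerivedCategory (ModSite.Mod O))
    (hL : DerComp.IsDerComp O I L) : DerComp.IsDerComp O I ((DerComp.RHom P).obj L) := by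
  rw [isDerComp_iff]
  intro V f hf n
  let R := DerComp.RHom P
  let adj := DerComp.RHomAdj P
  haveI : (ModSite.LTensorCx P).Additive :=
    haveI := adj.leftAdjoint_preservesColimits
    haveI : PreservesColimitsOfShape (Discrete WalkingPair) (ModSite.LTensorCx P) := inferInstance
    haveI := preservesBinaryBiproducts_of_preservesBinaryCoproducts (ModSite.LTensorCx P)
    Functor.additive_of_preservesBinaryBiproducts _
  obtain ⟨e, he⟩ := exists_tensor_iso O V f n P
  let D' := DerivedCategory (ModSite.Mod (O.over V))
  let s := DerComp.GSec.ofSect O V f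
  let Y := DerivedCategory.Q.obj (totRestr O V (ModSite.unit _) n P)
  obtain ⟨D⟩ := OpenRestrH.nonempty_derived_adjunction (ModSite.extZeroAdj O V)
  let G := (ModSite.restr O V).mapDerivedCategory
  let sh := shiftFunctor (DerivedCategory (ModSite.Mod O)) n
  let c := ((DerivedCategory.singleFunctors (ModSite.Mod O)).shiftIso n 0 n (add_zero n)).app (ModSite.freeOn O V)
  let Φ : (Y ⟶ G.obj L) →+ (E O V ⟶ (R.obj L)⟦n⟧) :=
    (Preadditive.leftComp _ c.inv).comp ((sh.mapAddHom).comp
      ((adj.homAddEquiv _ L).toAddMonoidHom.comp ((Preadditive.leftComp L e.hom).comp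
        (D.homAddEquiv Y L).symm.toAddMonoidHom)))
  have hb : Function.Bijective Φ :=
    c.homFromEquiv.bijective.comp (Function.Bijective.comp
      (g := (sh.map : (RlimCrit.sgl n (ModSite.freeOn O V) ⟶ R.obj L) → _)) ⟨sh.map_injective, sh.map_surjective⟩
      ((adj.homAddEquiv _ L).bijective.comp (e.symm.homFromEquiv.bijective.comp (D.homAddEquiv Y L).symm.bijective)))
  have hc : ∀ x, Φ (hs s Y (G.obj L) x) = act O V f ((R.obj L)⟦n⟧) (Φ x) := fun x => by
    have n1 : (DerivedCategory.singleFunctor (ModSite.Mod O) 0).map (endF O V f) ≫ c.inv =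
        c.inv ≫ (RlimCrit.sglMap n (endF O V f))⟦n⟧' :=
      ((DerivedCategory.singleFunctors (ModSite.Mod O)).shiftIso n 0 n (add_zero n)).inv.naturality (endF O V f)
    show c.inv ≫ sh.map (adj.homEquiv _ L (e.hom ≫ (D.homEquiv Y L).symm (s • x))) =
      (DerivedCategory.singleFunctor (ModSite.Mod O) 0).map (endF O V f) ≫
        c.inv ≫ sh.map (adj.homEquiv _ L (e.hom ≫ (D.homEquiv Y L).symm x))
    rw [reassoc_of% n1, ← sh.map_comp]
    refine congrArg (fun z => c.inv ≫ sh.map z) (Eq.trans ?_ (adj.homEquiv_naturality_left _ _))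
    refine congrArg (adj.homEquiv _ L) ?_
    refine Eq.trans ?_ (Category.assoc _ _ _)
    refine Eq.trans ?_ (eq_whisker he.symm _)
    rw [Category.assoc, ← D.homEquiv_naturality_left_symm, Linear.smul_comp, Category.id_comp]
  exact ((compl_restr O V hf hL).dBij Y).of_bijective Φ hb hc

end Groth.Agent.DerCompLib
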