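import Groth.Agent.DerCompLib.Grp
import Groth.Prelude.Def_DCoh2
import Mathlib.CategoryTheory.Shift.Linear
import Mathlib.CategoryTheory.Linear.Yoneda

/-!
# Derived complete objects of a linear triangulated category

For a scalar `r`, an object `K` is complete when multiplication by `r` is derived complete on every
group of morphisms into a shift of `K`; equivalently the derived limit `T(K, r)` vanishes. The
completion is the cone of `T(K, r) ⟶ K`.
-/

set_option autoImplicit false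
set_option linter.style.haveILetI false
set_option linter.unusedSectionVars false

universe w v u

open CategoryTheory CategoryTheory.Limits CategoryTheory.Pretriangulated

noncomputable section

namespace Groth.Agent.DerCompLib

open Groth.Agent.ProEtDCLib

variable {R : Type w} [CommRing R] {T : Type u} [Category.{v} T] [Preadditive T] [HasZeroObject T]
  [HasShift T ℤ] [∀ n : ℤ, (shiftFunctor T n).Additive] [Pretriangulated T] [Linear R T]
  [∀ n : ℤ, (shiftFunctor T n).Linear R]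

/-- Multiplication by `r` on morphisms. -/
abbrev hs (r : R) (X K : T) : (X ⟶ K) →+ (X ⟶ K) := DistribSMul.toAddMonoidHom (X ⟶ K) r

/-- `K` is derived complete for `r`. -/
def Compl (r : R) (K : T) : Prop := ∀ (X : T) (n : ℤ), DBij (hs r X (K⟦n⟧))

theorem dBij_rightComp_iso (r : R) (X : T) {K K' : T} (e : K ≅ K') (h : DBij (hs r X K)) :
    DBij (hs r X K') :=
  h.of_bijective (Preadditive.rightComp X e.hom) e.homToEquiv.bijective
    fun a => Linear.smul_comp _ _ _ r a e.hom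

theorem dBij_iff_precomp_iso (r : R) (K : T) {X X' : T} (e : X ≅ X') :
    DBij (hs r X K) ↔ DBij (hs r X' K) := by
  have h : ∀ {Y Y' : T} (e : Y ≅ Y'), DBij (hs r Y K) → DBij (hs r Y' K) := fun {Y Y'} e h =>
    h.of_bijective (Preadditive.leftComp K e.inv) e.homFromEquiv.bijective
      fun a => Linear.comp_smul _ _ _ e.inv r a
  exact ⟨h e, h e.symm⟩

theorem dBij_rightComp_retract (r : R) (X : T) {K K' : T} (i : K' ⟶ K) (p : K ⟶ K') (h : i ≫ p = 𝟙 K')
    (hK : DBij (hs r X K)) : DBij (hs r X K') :=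
  DBij.of_retract (φA := hs r X K') (φB := hs r X K) (Preadditive.rightComp X i) (Preadditive.rightComp X p)
    (fun a => show (a ≫ i) ≫ p = a by rw [Category.assoc, h, Category.comp_id])
    (fun a => Linear.smul_comp _ _ _ r a i) (fun a => Linear.smul_comp _ _ _ r a p) hK

theorem Compl.of_iso {r : R} {K K' : T} (hK : Compl r K) (e : K ≅ K') : Compl r K' :=
  fun X n => dBij_rightComp_iso r X ((shiftFunctor T n).mapIso e) (hK X n)

theorem Compl.shift {r : R} {K : T} (hK : Compl r K) (m : ℤ) : Compl r (K⟦m⟧) :=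
  fun X n => dBij_rightComp_iso r X ((shiftFunctorAdd' T m n (m + n) rfl).app K) (hK X (m + n))

theorem Compl.dBij {r : R} {K : T} (hK : Compl r K) (X : T) : DBij (hs r X K) :=
  dBij_rightComp_iso r X ((shiftFunctorZero T ℤ).app K) (hK X 0)

/-- It is enough to test morphisms into `K` itself. -/
theorem compl_mk {r : R} {K : T} (h : ∀ X : T, DBij (hs r X K)) : Compl r K := fun X n => by
  let F := shiftFunctor T (-n)
  let e := (shiftFunctorCompIsoId T n (-n) (add_neg_cancel n)).app K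
  refine DBij.of_bijective' ((Preadditive.rightComp (F.obj X) e.hom).comp F.mapAddHom)
    (e.homToEquiv.bijective.comp ⟨F.map_injective, F.map_surjective⟩) (fun a => ?_) (h (F.obj X))
  show F.map (r • a) ≫ e.hom = r • (F.map a ≫ e.hom)
  rw [F.map_smul, Linear.smul_comp]

theorem dBij_of_smul_eq_zero (r : R) {X K : T} (h : ∀ a : X ⟶ K, r • a = 0) : DBij (hs r X K) :=
  dBij_of_iterate_eq_zero 1 h

/-- Completeness is stable under products. -/
theorem compl_pi {ι : Type*} {r : R} {K : ι → T} [HasProduct K] (h : ∀ i, Compl r (K i)) : Compl r (∏ᶜ K) := by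
  refine compl_mk fun X => DBij.of_bijective' (AddMonoidHom.pi fun i => Preadditive.rightComp X (Pi.π K i))
    ⟨fun a b e => Pi.hom_ext _ _ fun i => congrFun e i, fun y => ⟨Pi.lift y, funext fun i => Pi.lift_π _ _⟩⟩
    (φB := AddMonoidHom.pi fun i => (hs r X (K i)).comp (Pi.evalAddMonoidHom _ i))
    (fun a => funext fun i => Linear.smul_comp _ _ _ r a _)
    (dBij_pi (N := fun i => X ⟶ K i) (φ := fun i => hs r X (K i))
      (ψ := AddMonoidHom.pi fun i => (hs r X (K i)).comp (Pi.evalAddMonoidHom _ i)) (fun _ _ => rfl) fun i => (h i).dBij X)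

theorem compl_of_retract {r : R} {K K' : T} (i : K' ⟶ K) (p : K ⟶ K') (h : i ≫ p = 𝟙 K') (hK : Compl r K) :
    Compl r K' :=
  compl_mk fun X => dBij_rightComp_retract r X i p h (hK.dBij X)

theorem exact_rightComp (X : T) {K₁ K₂ K₃ : T} (f : K₁ ⟶ K₂) (g : K₂ ⟶ K₃) (h : K₃ ⟶ K₁⟦(1 : ℤ)⟧)
    (hT : Triangle.mk f g h ∈ distTriang T) :
    Function.Exact (Preadditive.rightComp X f) (Preadditive.rightComp X g) := fun a => by
  refine ⟨fun ha => ?_, ?_⟩
  · obtain ⟨b, hb⟩ := Triangle.coyoneda_exact₂ _ hT a ha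
    exact ⟨b, hb.symm⟩
  · rintro ⟨b, rfl⟩
    show (b ≫ f) ≫ g = 0
    rw [Category.assoc, show f ≫ g = 0 from comp_distTriang_mor_zero₁₂ _ hT, comp_zero]

/-- Two out of three. -/
theorem compl_obj₂ {r : R} (D : Triangle T) (hT : D ∈ distTriang T) (h₁ : Compl r D.obj₁) (h₃ : Compl r D.obj₃) :
    Compl r D.obj₂ := by
  refine compl_mk fun X => ?_
  have hr := inv_rot_of_distTriang _ hT
  exact dBij_five (Preadditive.rightComp X D.invRotate.mor₁) (Preadditive.rightComp X D.mor₁)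
    (Preadditive.rightComp X D.mor₂) (Preadditive.rightComp X D.mor₃)
    (fun a => Linear.smul_comp _ _ _ r a _) (fun a => Linear.smul_comp _ _ _ r a _)
    (fun a => Linear.smul_comp _ _ _ r a _) (fun a => Linear.smul_comp _ _ _ r a _)
    (exact_rightComp X D.invRotate.mor₁ D.invRotate.mor₂ D.invRotate.mor₃ hr)
    (exact_rightComp X D.mor₁ D.mor₂ D.mor₃ hT)
    (exact_rightComp X D.rotate.mor₁ D.rotate.mor₂ D.rotate.mor₃ (rot_of_distTriang _ hT))
    ((h₃.shift (-1)).dBij X) (h₁.dBij X) (h₃.dBij X) ((h₁.shift 1).dBij X)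

theorem compl_obj₁ {r : R} (D : Triangle T) (hT : D ∈ distTriang T) (h₂ : Compl r D.obj₂) (h₃ : Compl r D.obj₃) :
    Compl r D.obj₁ :=
  compl_obj₂ _ (inv_rot_of_distTriang _ hT) (h₃.shift (-1)) h₂

theorem compl_obj₃ {r : R} (D : Triangle T) (hT : D ∈ distTriang T) (h₁ : Compl r D.obj₁) (h₂ : Compl r D.obj₂) :
    Compl r D.obj₃ :=
  compl_obj₂ _ (rot_of_distTriang _ hT) h₂ (h₁.shift 1)

/-- Maps from an object on which `r` is invertible into a complete object vanish. -/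
theorem eq_zero_of_isIso {r : R} {Z K : T} (hZ : IsIso (r • 𝟙 Z)) (hK : DBij (hs r Z K)) (u : Z ⟶ K) : u = 0 := by
  haveI := hZ
  let t := inv (r • 𝟙 Z)
  let x : ℕ → (Z ⟶ K) := fun n => Nat.rec u (fun _ v => t ≫ v) n
  exact congrFun (hK.eq_zero (x := x) fun n => by
    show x n = r • (t ≫ x n)
    rw [← Linear.smul_comp, show r • t = t ≫ (r • 𝟙 Z) by rw [Linear.comp_smul, Category.comp_id],
      IsIso.inv_hom_id, Category.id_comp]) 0

section Rlim

variable (r : R) (K : T) [HasProduct fun _ : ℕ => K]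

/-- Components of a morphism into a countable power. -/
def comps (X : T) : (X ⟶ ∏ᶜ fun _ : ℕ => K) →+ (ℕ → (X ⟶ K)) :=
  AddMonoidHom.pi fun n => Preadditive.rightComp X (Pi.π (fun _ : ℕ => K) n)

theorem comps_bijective (X : T) : Function.Bijective (comps K X) :=
  ⟨fun _ _ e => Pi.hom_ext _ _ fun n => congrFun e n, fun y => ⟨Pi.lift y, funext fun n => Pi.lift_π _ _⟩⟩

/-- The map whose fibre is `T(K, r)`. -/
abbrev rlimMap : (∏ᶜ fun _ : ℕ => K) ⟶ ∏ᶜ fun _ : ℕ => K :=
  Pi.lift fun n => Pi.π (fun _ : ℕ => K) n - Pi.π (fun _ : ℕ => K) (n + 1) ≫ (r • 𝟙 K)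

theorem comps_rlimMap {X : T} (x : X ⟶ ∏ᶜ fun _ : ℕ => K) :
    comps K X (x ≫ rlimMap r K) = delta (hs r X K) (comps K X x) := funext fun n => by
  show (x ≫ rlimMap r K) ≫ Pi.π _ n = x ≫ Pi.π _ n - r • (x ≫ Pi.π (fun _ : ℕ => K) (n + 1))
  rw [Category.assoc, Pi.lift_π, Preadditive.comp_sub, Linear.comp_smul, Category.comp_id, Linear.comp_smul]

variable {r K} {L : T} {a : L ⟶ ∏ᶜ fun _ : ℕ => K} {c : (∏ᶜ fun _ : ℕ => K) ⟶ L⟦(1 : ℤ)⟧}
  (hL : Triangle.mk a (rlimMap r K) c ∈ distTriang T)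

include hL

theorem exists_v_of_comp_eq_zero {X : T} (u : X ⟶ L) (hu : u ≫ a = 0) :
    ∃ v : X⟦(1 : ℤ)⟧ ⟶ ∏ᶜ fun _ : ℕ => K, u⟦(1 : ℤ)⟧' = v ≫ c := by
  have h2 := rot_of_distTriang _ (rot_of_distTriang _ hL)
  obtain ⟨v, hv⟩ := Triangle.coyoneda_exact₂ _ h2 (u⟦(1 : ℤ)⟧') (by
    show u⟦(1 : ℤ)⟧' ≫ (-a⟦(1 : ℤ)⟧') = 0
    rw [Preadditive.comp_neg, ← Functor.map_comp, hu, Functor.map_zero, neg_zero])
  exact ⟨v, hv⟩

/-- A map to `T(K, r)` is determined by its components if `r` is complete on the maps to `K` one degree lower. -/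
theorem eq_zero_of_comp_eq_zero {X : T} (hX : Function.Surjective (delta (hs r (X⟦(1 : ℤ)⟧) K))) (u : X ⟶ L)
    (hu : u ≫ a = 0) : u = 0 := by
  obtain ⟨v, hv⟩ := exists_v_of_comp_eq_zero hL u hu
  obtain ⟨w, hw⟩ := hX (comps K _ v)
  obtain ⟨w, rfl⟩ := (comps_bijective K _).2 w
  rw [← comps_rlimMap] at hw
  apply (shiftFunctor T (1 : ℤ)).map_injective
  rw [hv, ← (comps_bijective K _).1 hw, Category.assoc,
    show rlimMap r K ≫ c = 0 from comp_distTriang_mor_zero₂₃ _ hL, comp_zero, Functor.map_zero]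

theorem exists_lift {X : T} (x : ℕ → (X ⟶ K)) (hx : ∀ n, x n = r • x (n + 1)) :
    ∃ u : X ⟶ L, ∀ n, u ≫ a ≫ Pi.π _ n = x n := by
  obtain ⟨u, hu⟩ := Triangle.coyoneda_exact₂ _ hL (Pi.lift x) (by
    refine (comps_bijective K X).1 ?_
    show comps K X (Pi.lift x ≫ rlimMap r K) = comps K X 0
    rw [comps_rlimMap, map_zero]
    funext n
    show Pi.lift x ≫ Pi.π _ n - r • (Pi.lift x ≫ Pi.π _ (n + 1)) = 0
    rw [Pi.lift_π, Pi.lift_π, ← hx, sub_self])
  refine ⟨u, fun n => ?_⟩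
  exact (Category.assoc u a _).symm.trans
    ((congrArg (· ≫ Pi.π (fun _ : ℕ => K) n) hu.symm).trans (Pi.lift_π _ _))

theorem comp_compat {X : T} (u : X ⟶ L) (n : ℕ) : u ≫ a ≫ Pi.π _ n = r • (u ≫ a ≫ Pi.π _ (n + 1)) := by
  refine sub_eq_zero.1 ?_
  have h := congrFun (comps_rlimMap r K (u ≫ a)) n
  rw [Category.assoc, show a ≫ rlimMap r K = 0 from comp_distTriang_mor_zero₁₂ _ hL, comp_zero, map_zero,
    delta_apply] at h
  exact ((congrArg₂ (· - ·) (Category.assoc _ _ _).symm (congrArg (r • ·) (Category.assoc _ _ _).symm))).trans h.symm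

/-- `T(K, r)` vanishes on objects on which `r` is complete. -/
theorem subsingleton_hom_rlim {X : T} (h0 : DBij (hs r X K)) (h1 : DBij (hs r (X⟦(1 : ℤ)⟧) K)) :
    Subsingleton (X ⟶ L) := by
  suffices h : ∀ u : X ⟶ L, u = 0 from ⟨fun u v => (h u).trans (h v).symm⟩
  intro u
  refine eq_zero_of_comp_eq_zero hL h1.2 u (Pi.hom_ext _ _ fun n => ?_)
  rw [Category.assoc, zero_comp]
  exact congrFun (h0.eq_zero (x := fun n => u ≫ a ≫ Pi.π _ n) fun n => comp_compat hL u n) n

theorem isZero_rlim_iff : IsZero L ↔ Compl r K := by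
  refine ⟨fun h => compl_mk fun X => dBij_mk (fun x hx => ?_) fun y => ?_, fun h => ?_⟩
  · obtain ⟨u, hu⟩ := exists_lift hL x hx
    funext n
    rw [← hu n, h.eq_of_tgt u 0, zero_comp]
    rfl
  · obtain ⟨w, hw⟩ := Triangle.coyoneda_exact₂ _ (rot_of_distTriang _ hL) (Pi.lift y)
      ((shiftFunctor T (1 : ℤ)).map_isZero h |>.eq_of_tgt _ _)
    exact ⟨comps K X w, fun n => (congrFun (comps_rlimMap r K w) n).symm.trans (by
      show (w ≫ rlimMap r K) ≫ Pi.π _ n = y n
      rw [show w ≫ rlimMap r K = Pi.lift y from hw.symm, Pi.lift_π])⟩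
  · haveI := subsingleton_hom_rlim hL (h.dBij L) (h.dBij _)
    rw [IsZero.iff_id_eq_zero]
    exact Subsingleton.elim _ _

/-- `r` is invertible on `T(K, r)`. -/
theorem isIso_smul_rlim : IsIso (r • 𝟙 L) := by
  let xs : ℕ → (L ⟶ K) := fun n => a ≫ Pi.π _ n
  have hxs : ∀ n, xs n = r • xs (n + 1) := fun n => by simpa [xs] using comp_compat hL (𝟙 L) n
  have hcompat : ∀ X (u : X ⟶ L), r • u = u ≫ (r • 𝟙 L) := fun X u => by rw [Linear.comp_smul, Category.comp_id]
  have hv : ∀ (Y : T) (v : Y ⟶ ∏ᶜ fun _ : ℕ => K), ∃ v', v ≫ c = r • (v' ≫ c) := fun Y v => by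
    refine ⟨Pi.lift fun n => v ≫ Pi.π (fun _ : ℕ => K) (n + 1), ?_⟩
    have e : v = v ≫ rlimMap r K + r • (Pi.lift fun n => v ≫ Pi.π (fun _ : ℕ => K) (n + 1)) :=
      Pi.hom_ext _ _ fun n => by
        rw [Preadditive.add_comp, Category.assoc, Pi.lift_π, Preadditive.comp_sub, Linear.smul_comp,
          Pi.lift_π, Linear.comp_smul, Category.comp_id, Linear.comp_smul, sub_add_cancel]
    conv_lhs => rw [e]
    rw [Preadditive.add_comp, Category.assoc, show rlimMap r K ≫ c = 0 from comp_distTriang_mor_zero₂₃ _ hL,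
      comp_zero, zero_add, Linear.smul_comp]
  have hinj : ∀ (X : T) (u : X ⟶ L), r • u = 0 → u = 0 := fun X u hu => by
    have hu0 : u ≫ a = 0 := Pi.hom_ext _ _ fun n => by
      rw [Category.assoc, zero_comp, comp_compat hL u n, ← Linear.smul_comp, hu, zero_comp]
    obtain ⟨v, hv'⟩ := exists_v_of_comp_eq_zero hL u hu0
    have h0 : r • (v ≫ c) = 0 := by rw [← hv', ← Functor.map_smul, hu, Functor.map_zero]
    rw [← Linear.smul_comp] at h0
    obtain ⟨w, hw⟩ := Triangle.coyoneda_exact₂ _ (rot_of_distTriang _ hL) _ h0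
    have hw' : ∀ n, r • (v ≫ Pi.π _ n) = w ≫ Pi.π _ n - r • (w ≫ Pi.π (fun _ : ℕ => K) (n + 1)) := fun n =>
      (Linear.smul_comp _ _ _ r v _).symm.trans
        ((congrArg (· ≫ Pi.π (fun _ : ℕ => K) n) hw).trans (congrFun (comps_rlimMap r K w) n))
    have e : v = (v + Pi.lift fun n => w ≫ Pi.π (fun _ : ℕ => K) (n + 1)) ≫ rlimMap r K :=
      Pi.hom_ext _ _ fun n => by
        refine Eq.trans ?_ (congrFun (comps_rlimMap r K _) n).symm
        show v ≫ Pi.π _ n = (v + _) ≫ Pi.π _ n - r • ((v + _) ≫ Pi.π _ (n + 1))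
        simp only [Preadditive.add_comp, Pi.lift_π, smul_add, hw' (n + 1)]
        abel
    apply (shiftFunctor T (1 : ℤ)).map_injective
    rw [hv', e, Category.assoc, show rlimMap r K ≫ c = 0 from comp_distTriang_mor_zero₂₃ _ hL, comp_zero,
      Functor.map_zero]
  obtain ⟨t, ht⟩ := exists_lift hL (fun n => xs (n + 1)) fun n => hxs (n + 1)
  have ht0 : (𝟙 L - r • t) ≫ a = 0 := Pi.hom_ext _ _ fun n => by
    rw [Preadditive.sub_comp, Preadditive.sub_comp, Category.id_comp, zero_comp, Linear.smul_comp,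
      Linear.smul_comp, Category.assoc, ht, sub_eq_zero]
    exact hxs n
  obtain ⟨v, hv1⟩ := exists_v_of_comp_eq_zero hL _ ht0
  obtain ⟨v', hv2⟩ := hv _ v
  let t' : L ⟶ L := (shiftFunctor T (1 : ℤ)).preimage (v' ≫ c)
  have h1 : r • (t + t') = 𝟙 L := by
    rw [smul_add]
    refine (congrArg (r • t + ·) ?_).trans (add_sub_cancel (r • t) (𝟙 L))
    apply (shiftFunctor T (1 : ℤ)).map_injective
    rw [Functor.map_smul, Functor.map_preimage, hv1, hv2]
  refine ⟨t + t', ?_, ?_⟩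
  · refine sub_eq_zero.1 (hinj L _ ?_)
    rw [smul_sub, sub_eq_zero, ← Linear.comp_smul, h1, Category.comp_id]
  · rw [← hcompat, h1]

/-- Morphisms from an object on which `r` is invertible to `T(K, r)` are morphisms to `K`. -/
theorem bijective_comp_proj {Z : T} (hZ : IsIso (r • 𝟙 Z)) :
    Function.Bijective fun u : Z ⟶ L => u ≫ a ≫ Pi.π (fun _ : ℕ => K) 0 := by
  have hb : ∀ {Z' : T}, IsIso (r • 𝟙 Z') → ∀ {K' : T} (x : Z' ⟶ K'), ∃ y, r • y = x := fun {Z'} h {K'} x =>
    haveI := h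
    ⟨inv (r • 𝟙 Z') ≫ x, by
      rw [← Linear.smul_comp, show r • inv (r • 𝟙 Z') = inv (r • 𝟙 Z') ≫ (r • 𝟙 Z') by
        rw [Linear.comp_smul, Category.comp_id], IsIso.inv_hom_id, Category.id_comp]⟩
  have hinj : ∀ {K' : T} (x : Z ⟶ K'), r • x = 0 → x = 0 := fun {K'} x h => by
    rw [← Category.id_comp x, ← cancel_epi (r • 𝟙 Z), comp_zero, Category.id_comp, Linear.smul_comp,
      Category.id_comp, h]
  refine ⟨fun u u' e => sub_eq_zero.1 ?_, fun x => ?_⟩
  · refine eq_zero_of_comp_eq_zero hL (fun y => ?_) _ (Pi.hom_ext _ _ fun n => ?_)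
    · have hZ1 : IsIso (r • 𝟙 (Z⟦(1 : ℤ)⟧)) := by
        rw [← (shiftFunctor T (1 : ℤ)).map_id, ← Functor.map_smul]
        haveI := hZ
        infer_instance
      choose g hg using fun x : Z⟦(1 : ℤ)⟧ ⟶ K => hb hZ1 x
      let z : ℕ → (Z⟦(1 : ℤ)⟧ ⟶ K) := fun n => Nat.rec 0 (fun k zk => g (zk - y k)) n
      exact ⟨z, funext fun n => by
        show z n - r • g (z n - y n) = y n
        rw [hg, sub_sub_cancel]⟩
    · rw [Category.assoc, zero_comp, Preadditive.sub_comp, sub_eq_zero]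
      induction n with
      | zero => exact e
      | succ n ih =>
        refine sub_eq_zero.1 (hinj _ ?_)
        rw [smul_sub, sub_eq_zero, ← comp_compat hL, ← comp_compat hL, ih]
  · choose g hg using fun x : Z ⟶ K => hb hZ x
    obtain ⟨u, hu⟩ := exists_lift hL (fun n => g^[n] x) fun n => by rw [Function.iterate_succ_apply', hg]
    exact ⟨u, hu 0⟩

end Rlim

/-- A complete approximation: `g : K ⟶ C` with complete target, universal among maps to complete objects. -/
structure IsUniv (P : T → Prop) {K C : T} (g : K ⟶ C) : Prop where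
  mem : P C
  bij : ∀ Z : T, P Z → Function.Bijective fun u : C ⟶ Z => g ≫ u

/-- Existence of completions, preserving completeness for other scalars. -/
theorem exists_completion [HasProductsOfShape ℕ T] (r : R) (K : T) :
    ∃ (C : T) (g : K ⟶ C), IsUniv (Compl r) g ∧ ∀ s : R, Compl s K → Compl s C := by
  obtain ⟨L, a, c, hL⟩ := distinguished_cocone_triangle₁ (rlimMap r K)
  have hiso := isIso_smul_rlim hL
  obtain ⟨C, g, d, hC⟩ := distinguished_cocone_triangle (a ≫ Pi.π (fun _ : ℕ => K) 0)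
  have hshift : ∀ {Z : T}, IsIso (r • 𝟙 Z) → ∀ n : ℤ, IsIso (r • 𝟙 (Z⟦n⟧)) := fun {Z} h n => by
    rw [← (shiftFunctor T n).map_id, ← Functor.map_smul]
    haveI := h
    infer_instance
  have hC0 : ∀ (Z : T), IsIso (r • 𝟙 Z) → ∀ x : Z ⟶ C, x = 0 := by
    intro Z hZ x
    haveI := hshift hZ (-1)
    obtain ⟨y, hy⟩ := Triangle.coyoneda_exact₂ _ (rot_of_distTriang _ hC) x (by
      show x ≫ d = 0
      let e := (shiftFunctorCompIsoId T (-1 : ℤ) 1 (by norm_num)).app Z
      rw [← cancel_epi e.hom, comp_zero]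
      obtain ⟨u, hu⟩ := (shiftFunctor T (1 : ℤ)).map_surjective (e.hom ≫ x ≫ d)
      rw [← hu]
      have h0 : u ≫ a ≫ Pi.π (fun _ : ℕ => K) 0 = 0 := (shiftFunctor T (1 : ℤ)).map_injective (by
        rw [Functor.map_comp, Functor.map_zero, hu, Category.assoc, Category.assoc,
          show d ≫ (a ≫ Pi.π (fun _ : ℕ => K) 0)⟦(1 : ℤ)⟧' = 0 from comp_distTriang_mor_zero₃₁ _ hC,
          comp_zero, comp_zero])
      rw [show u = 0 from (bijective_comp_proj hL (hshift hZ (-1))).1 (h0.trans zero_comp.symm), Functor.map_zero])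
    obtain ⟨w, hw⟩ := (bijective_comp_proj hL hZ).2 y
    subst hw
    rw [hy]
    show (w ≫ a ≫ Pi.π _ 0) ≫ g = 0
    rw [Category.assoc, show (a ≫ Pi.π (fun _ : ℕ => K) 0) ≫ g = 0 from comp_distTriang_mor_zero₁₂ _ hC, comp_zero]
  refine ⟨C, g, ⟨?_, fun Z hZ => ?_⟩, fun s hs => ?_⟩
  · obtain ⟨LC, aC, cC, hLC⟩ := distinguished_cocone_triangle₁ (rlimMap r C)
    refine (isZero_rlim_iff hLC).1 ?_
    have hiC := isIso_smul_rlim hLC
    have ha : aC = 0 := Pi.hom_ext _ _ fun n => (hC0 LC hiC _).trans zero_comp.symm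
    rw [IsZero.iff_id_eq_zero]
    obtain ⟨v, hv⟩ := exists_v_of_comp_eq_zero hLC (𝟙 LC) (by rw [ha, comp_zero])
    apply (shiftFunctor T (1 : ℤ)).map_injective
    have h0 : v = 0 := Pi.hom_ext _ _ fun n => (hC0 _ (hshift hiC 1) _).trans zero_comp.symm
    rw [hv, h0, zero_comp, Functor.map_zero]
  · have h0 : ∀ n : ℤ, ∀ u : L⟦n⟧ ⟶ Z, u = 0 := fun n u => eq_zero_of_isIso (hshift hiso n) (hZ.dBij _) u
    refine ⟨fun u u' e => sub_eq_zero.1 ?_, fun y => ?_⟩
    · obtain ⟨w, hw⟩ := Triangle.yoneda_exact₂ _ (rot_of_distTriang _ hC) (u - u')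
        (by show g ≫ (u - u') = 0; rw [Preadditive.comp_sub, sub_eq_zero]; exact e)
      rw [hw, h0 1 w]
      exact comp_zero
    · obtain ⟨w, hw⟩ := Triangle.yoneda_exact₂ _ hC y
        (by
          show (a ≫ Pi.π _ 0) ≫ y = 0
          exact eq_zero_of_isIso hiso (hZ.dBij _) _)
      exact ⟨w, hw.symm⟩
  · refine compl_obj₃ _ hC ?_ hs
    exact compl_obj₁ (Triangle.mk a (rlimMap r K) c) hL (compl_pi fun _ => hs) (compl_pi fun _ => hs)

/-- Completions for finitely many scalars. -/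
theorem exists_completion_finset [HasProductsOfShape ℕ T] {ι : Type*} (r : ι → R) (l : List ι) (K : T) :
    ∃ (C : T) (g : K ⟶ C), IsUniv (fun Z => ∀ i ∈ l, Compl (r i) Z) g := by
  induction l with
  | nil => exact ⟨K, 𝟙 K, { mem := fun i hi => absurd hi (List.not_mem_nil)
                            bij := fun Z _ => ⟨fun u v e => by simpa using e, fun y => ⟨y, Category.id_comp y⟩⟩ }⟩
  | cons i l ih =>
    obtain ⟨C, g, hg⟩ := ih
    obtain ⟨C', g', hg', hs'⟩ := exists_completion (r i) C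
    refine ⟨C', g ≫ g', ?_, fun Z hZ => ?_⟩
    · intro j hj
      rcases List.mem_cons.1 hj with rfl | hj
      · exact hg'.mem
      · exact hs' _ (hg.mem j hj)
    · have h := (hg.bij Z fun j hj => hZ j (List.mem_cons_of_mem i hj)).comp
        (hg'.bij Z (hZ i List.mem_cons_self))
      convert h using 1
      funext u
      exact Category.assoc g g' u

end Groth.Agent.DerCompLib
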