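import Groth.Agent.DerCompLib.LocTensor
import Groth.Agent.DerCompLib.Tri
import Groth.Agent.DerSchH7.SiteTensor
import Groth.Prelude.Def_DerComp

/-!
# `RHom(O_f, K)` is the derived limit `T(K, f)`
-/

set_option autoImplicit false
set_option linter.style.haveILetI false
set_option linter.unusedSectionVars false
set_option backward.isDefEq.respectTransparency false
set_option backward.isDefEq.respectTransparency.types false
set_option synthInstance.maxHeartbeats 200000
set_option maxHeartbeats 800000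

universe u

open CategoryTheory CategoryTheory.Limits CategoryTheory.Pretriangulated Opposite

attribute [local instance] HasDerivedCategory.standard

noncomputable section

namespace Groth.Agent.DerCompLib

open Groth.Agent.DCohLib

variable {C : Type u} [SmallCategory C] {J : GrothendieckTopology C} (O : Sheaf J CommRingCat.{u})
  (s : DerComp.GSec O) [ModSite.HasLTensorCx (cx0 O (locO O s))]

/-- `- ⊗^L O_f`. -/
abbrev lam : DerivedCategory (ModSite.Mod O) ⥤ DerivedCategory (ModSite.Mod O) :=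
  ModSite.LTensorCx (cx0 O (locO O s))

theorem isIso_smul_of_iso {X X' : DerivedCategory (ModSite.Mod O)} (e : X ≅ X') (h : IsIso (s • 𝟙 X)) :
    IsIso (s • 𝟙 X') := by
  rw [show s • 𝟙 X' = e.inv ≫ (s • 𝟙 X) ≫ e.hom by
    rw [Linear.smul_comp, Category.id_comp, Linear.comp_smul, e.inv_hom_id]]
  infer_instance

theorem exists_iso_lam (K : CochainComplex (ModSite.Mod O) ℤ) :
    Nonempty ((lam O s).obj (DerivedCategory.Q.obj K) ≅
      DerivedCategory.Q.obj ((tensFun O (locO O s)).obj ((resF O).obj K))) := by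
  haveI := DerSchH7.isIso_siteCounit_app O (cx0 O (locO O s)) ((resF O).obj K) (isKFlat_resF O K)
  haveI := quasiIso_resFπ O K
  haveI : IsIso (DerivedCategory.Q.map ((resFπ O).app K)) :=
    (DerivedCategory.isIso_Q_map_iff_quasiIso _ _).2 inferInstance
  exact ⟨((lam O s).mapIso (asIso (DerivedCategory.Q.map ((resFπ O).app K)))).symm ≪≫
    asIso ((DerSchH7.siteCounit O (cx0 O (locO O s))).app ((resF O).obj K))⟩

/-- `f` is invertible on `X ⊗^L O_f`. -/
theorem isIso_smul_lam (X : DerivedCategory (ModSite.Mod O)) : IsIso (s • 𝟙 ((lam O s).obj X)) := by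
  obtain ⟨e⟩ := exists_iso_lam O s (DerivedCategory.Q.objPreimage X)
  haveI := isIso_smul_tensFun O s ((resF O).obj (DerivedCategory.Q.objPreimage X))
  have h : IsIso (s • 𝟙 (DerivedCategory.Q.obj ((tensFun O (locO O s)).obj
      ((resF O).obj (DerivedCategory.Q.objPreimage X))))) := by
    rw [← DerivedCategory.Q.map_id, ← Functor.map_smul]
    infer_instance
  exact isIso_smul_of_iso O s ((lam O s).mapIso (DerivedCategory.Q.objObjPreimageIso X))
    (isIso_smul_of_iso O s e.symm h)

/-- There is a natural map `X ⟶ X ⊗^L O_f` through which maps to objects with `f` invertible factor uniquely. -/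
theorem exists_toLam : ∃ j : 𝟭 (DerivedCategory (ModSite.Mod O)) ⟶ lam O s,
    ∀ (X Y : DerivedCategory (ModSite.Mod O)), IsIso (s • 𝟙 Y) →
      Function.Bijective fun x : (lam O s).obj X ⟶ Y => j.app X ≫ x := by
  let Q := DerivedCategory.Q (C := ModSite.Mod O)
  let ρ := resFπ O
  haveI hρ : ∀ K, IsIso (Q.map (ρ.app K)) := fun K => by
    haveI := quasiIso_resFπ O K
    exact (DerivedCategory.isIso_Q_map_iff_quasiIso _ _).2 inferInstance
  let cu := DerSchH7.siteCounit O (cx0 O (locO O s))
  haveI hcu : ∀ K, IsIso (cu.app ((resF O).obj K)) := fun K =>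
    DerSchH7.isIso_siteCounit_app O (cx0 O (locO O s)) _ (isKFlat_resF O K)
  let ν : Q ⟶ Q ⋙ lam O s :=
    { app := fun K => inv (Q.map (ρ.app K)) ≫ Q.map (toTensLoc O s ((resF O).obj K)) ≫
        inv (cu.app ((resF O).obj K)) ≫ (lam O s).map (Q.map (ρ.app K))
      naturality := fun {K K'} φ => by
        have h1 : Q.map φ ≫ inv (Q.map (ρ.app K')) = inv (Q.map (ρ.app K)) ≫ Q.map ((resF O).map φ) := by
          rw [IsIso.comp_inv_eq, Category.assoc, ← Q.map_comp, ρ.naturality φ, Q.map_comp, IsIso.inv_hom_id_assoc]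
          rfl
        have h2 : Q.map ((tensFun O (locO O s)).map ((resF O).map φ)) ≫ inv (cu.app ((resF O).obj K')) =
            inv (cu.app ((resF O).obj K)) ≫ (lam O s).map (Q.map ((resF O).map φ)) := by
          rw [IsIso.comp_inv_eq, Category.assoc]
          erw [cu.naturality ((resF O).map φ)]
          rw [IsIso.inv_hom_id_assoc]
          rfl
        show Q.map φ ≫ _ = _ ≫ (lam O s).map (Q.map φ)
        rw [reassoc_of% h1, ← Q.map_comp_assoc, toTensLoc_naturality, Q.map_comp_assoc, reassoc_of% h2]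
        simp only [Category.assoc, ← Functor.map_comp]
        rw [show (resF O).map φ ≫ ρ.app K' = ρ.app K ≫ φ from ρ.naturality φ] }
  let W := HomologicalComplex.quasiIso (ModSite.Mod O) (ComplexShape.up ℤ)
  letI : Localization.Lifting Q W Q (𝟭 _) := ⟨Functor.rightUnitor _⟩
  letI : Localization.Lifting Q W (Q ⋙ lam O s) (lam O s) := ⟨Iso.refl _⟩
  let j := Localization.liftNatTrans Q W Q (Q ⋙ lam O s) (𝟭 _) (lam O s) ν
  refine ⟨j, fun X Y hY => ?_⟩
  let e := Q.objObjPreimageIso X
  let K := Q.objPreimage X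
  have hj : j.app (Q.obj K) = ν.app K := by
    refine (Localization.liftNatTrans_app _ _ _ _ _ _ _ _).trans ?_
    exact (Category.id_comp _).trans (Category.comp_id _)
  have h0 : Function.Bijective fun x : (lam O s).obj (Q.obj K) ⟶ Y => ν.app K ≫ x := by
    let L := (resF O).obj K
    have h := bijective_toTensLoc O s L hY
    have he : (fun x : (lam O s).obj (Q.obj K) ⟶ Y => ν.app K ≫ x) =
        (asIso (Q.map (ρ.app K))).homFromEquiv ∘ (fun z => Q.map (toTensLoc O s L) ≫ z) ∘
          (asIso (cu.app L)).homFromEquiv ∘ ((lam O s).mapIso (asIso (Q.map (ρ.app K)))).symm.homFromEquiv := by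
      funext x
      simp only [ν, Function.comp_apply, Iso.homFromEquiv_apply, asIso_inv, Category.assoc]
      rfl
    rw [he]
    exact (Equiv.bijective _).comp (h.comp ((Equiv.bijective _).comp (Equiv.bijective _)))
  have hX : (fun x : (lam O s).obj X ⟶ Y => j.app X ≫ x) =
      e.homFromEquiv ∘ (fun x => ν.app K ≫ x) ∘ ((lam O s).mapIso e).symm.homFromEquiv := by
    funext x
    show j.app X ≫ x = e.inv ≫ ν.app K ≫ (lam O s).map e.hom ≫ x
    rw [← hj, ← reassoc_of% (j.naturality e.hom)]
    exact (e.inv_hom_id_assoc _).symm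
  rw [hX]
  exact (Equiv.bijective _).comp (h0.comp (Equiv.bijective _))

variable [DerComp.HasRHom (cx0 O (locO O s))] (K : DerivedCategory (ModSite.Mod O)) [HasProduct fun _ : ℕ => K]

theorem isT_rhom : DerComp.IsT s K ((DerComp.RHom (cx0 O (locO O s))).obj K) := by
  obtain ⟨L, a, c, hL⟩ := distinguished_cocone_triangle₁ (rlimMap s K)
  obtain ⟨j, hj⟩ := exists_toLam O s
  have hiso := isIso_smul_rlim hL
  obtain ⟨k, hk⟩ := (hj L L hiso).2 (𝟙 L)
  let adj := DerComp.RHomAdj (cx0 O (locO O s))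
  let pr := a ≫ Pi.π (fun _ : ℕ => K) 0
  let θ : L ⟶ (DerComp.RHom (cx0 O (locO O s))).obj K := adj.homEquiv L K (k ≫ pr)
  have hb : ∀ X : DerivedCategory (ModSite.Mod O), Function.Bijective fun u : X ⟶ L => u ≫ θ := fun X => by
    let e := Equiv.ofBijective _ (hj X L hiso)
    have he : ∀ u : X ⟶ L, e.symm u = (lam O s).map u ≫ k := fun u => by
      rw [Equiv.symm_apply_eq]
      show u = j.app X ≫ (lam O s).map u ≫ k
      rw [← reassoc_of% (j.naturality u)]
      show u = u ≫ j.app L ≫ k
      rw [show j.app L ≫ k = 𝟙 L from hk, Category.comp_id]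
    have heq : (fun u : X ⟶ L => u ≫ θ) = adj.homEquiv X K ∘ (fun v => v ≫ pr) ∘ e.symm := by
      funext u
      show u ≫ adj.homEquiv L K (k ≫ pr) = adj.homEquiv X K (e.symm u ≫ pr)
      rw [he, Category.assoc, adj.homEquiv_naturality_left]
    rw [heq]
    exact (Equiv.bijective _).comp ((bijective_comp_proj hL (isIso_smul_lam O s X)).comp e.symm.bijective)
  obtain ⟨θ', hθ'⟩ := (hb _).2 (𝟙 _)
  let i : (DerComp.RHom (cx0 O (locO O s))).obj K ≅ L :=
    { hom := θ'
      inv := θ
      hom_inv_id := hθ'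
      inv_hom_id := (hb L).1 (by
        show (θ ≫ θ') ≫ θ = 𝟙 L ≫ θ
        rw [Category.assoc, show θ' ≫ θ = 𝟙 _ from hθ', Category.comp_id, Category.id_comp]) }
  refine ⟨i.hom ≫ a, c ≫ i.inv⟦(1 : ℤ)⟧', isomorphic_distinguished _ hL _ ?_⟩
  refine Triangle.isoMk _ _ i (Iso.refl _) (Iso.refl _) ?_ ?_ ?_
  · exact Category.comp_id _
  · exact (Category.comp_id _).trans (Category.id_comp _).symm
  · show (c ≫ i.inv⟦(1 : ℤ)⟧') ≫ i.hom⟦(1 : ℤ)⟧' = 𝟙 _ ≫ c
    rw [Category.assoc, ← Functor.map_comp, i.inv_hom_id, CategoryTheory.Functor.map_id, Category.comp_id,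
      Category.id_comp]

theorem isZero_rhom_iff : IsZero ((DerComp.RHom (cx0 O (locO O s))).obj K) ↔
    ∀ L : DerivedCategory (ModSite.Mod O), DerComp.IsT s K L → IsZero L := by
  obtain ⟨a, c, hR⟩ := isT_rhom O s K
  refine ⟨fun h L hL => ?_, fun h => h _ ⟨a, c, hR⟩⟩
  obtain ⟨a', c', hL'⟩ := hL
  exact (isZero_rlim_iff (r := s) (K := K) hL').2 ((isZero_rlim_iff (r := s) (K := K) hR).1 h)

end Groth.Agent.DerCompLib
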