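import Groth.Agent.DerCompLib.Nilp
import Groth.Agent.DerCompLib.RestrOrth
import Groth.Agent.DerCompLib.RHom
import Groth.Agent.DCohLib.Flip
import Groth.Agent.DCohLib.TensorPerf

/-!
# Internal derived hom into objects left orthogonal to derived complete objects
-/

set_option autoImplicit false
set_option linter.style.haveILetI false
set_option linter.unusedSectionVars false
set_option backward.isDefEq.respectTransparency false
set_option backward.isDefEq.respectTransparency.types false
set_option maxRecDepth 2000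
set_option synthInstance.maxHeartbeats 200000

universe u

open CategoryTheory CategoryTheory.Limits CategoryTheory.Pretriangulated Opposite

attribute [local instance] HasDerivedCategory.standard

noncomputable section

namespace Groth.Agent.DerCompLib

open Groth.Agent.KFlat

variable {C : Type u} [SmallCategory C] {J : GrothendieckTopology C} (O : Sheaf J CommRingCat.{u}) (V : C)

/-- Total complexes on the localised site. -/
abbrev totV (P : CochainComplex (ModSite.Mod O) ℤ) :
    CochainComplex (ModSite.Mod (O.over V)) ℤ ⥤ CochainComplex (ModSite.Mod (O.over V)) ℤ :=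
  (biRestr O V).map₂CochainComplex.flip.obj P

theorem totV_map_smul (s : DerComp.GSec (O.over V)) (K : CochainComplex (ModSite.Mod (O.over V)) ℤ)
    (P : CochainComplex (ModSite.Mod O) ℤ) :
    (totV O V P).map (s • 𝟙 K) = s • 𝟙 ((totV O V P).obj K) := by
  refine HomologicalComplex.hom_ext _ _ fun n => HomologicalComplex.mapBifunctor.hom_ext fun p r h => ?_
  refine (HomologicalComplex.ι_mapBifunctorMap (s • 𝟙 K) (𝟙 P) (biRestr O V)
    (ComplexShape.up ℤ) p r n h).trans ?_
  rw [HomologicalComplex.id_f, CategoryTheory.Functor.map_id, Category.id_comp]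
  have hf : (s • 𝟙 K).f p = DerComp.smulEnd s (K.X p) := Category.comp_id _
  rw [hf]
  refine (congrArg (· ≫ _) (tensor_smulEnd (O.over V) s _ _)).trans ?_
  refine (DerComp.smulEnd_comm s _).trans (congrArg (_ ≫ ·) ?_)
  exact (Category.comp_id _).symm

theorem inverts_totV {P : CochainComplex (ModSite.Mod O) ℤ} (hP : ModSite.IsKFlat P) :
    (HomologicalComplex.quasiIso (ModSite.Mod (O.over V)) (ComplexShape.up ℤ)).IsInvertedBy
      (totV O V P ⋙ DerivedCategory.Q) := fun K L f hf => by
  haveI : QuasiIso f := (HomologicalComplex.mem_quasiIso_iff _).1 hf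
  let P' := ((ModSite.restr O V).mapHomologicalComplex (ComplexShape.up ℤ)).obj P
  have h : QuasiIso (((ModSite.tensorCx (O.over V)).map f).app P') :=
    quasiIso_tensor_of_isKFlat_right (O.over V) P' (isKFlat_restr O V hP) f
  exact Localization.inverts DerivedCategory.Q
    (HomologicalComplex.quasiIso (ModSite.Mod (O.over V)) (ComplexShape.up ℤ)) _
    ((HomologicalComplex.mem_quasiIso_iff ((totV O V P).map f)).2 h)

/-- Nilpotence passes to tensor products with K-flat complexes. -/
theorem nilp_totV {P : CochainComplex (ModSite.Mod O) ℤ} (hP : ModSite.IsKFlat P) (s : DerComp.GSec (O.over V))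
    (K : CochainComplex (ModSite.Mod (O.over V)) ℤ) (h : Nilp s (DerivedCategory.Q.obj K)) :
    Nilp s (DerivedCategory.Q.obj ((totV O V P).obj K)) := by
  obtain ⟨k, hk⟩ := h
  refine ⟨k, ?_⟩
  let Φ := totV O V P ⋙ DerivedCategory.Q
  let W := HomologicalComplex.quasiIso (ModSite.Mod (O.over V)) (ComplexShape.up ℤ)
  let e : DerivedCategory.Q ⋙ Localization.lift Φ (inverts_totV O V hP) DerivedCategory.Q ≅ Φ :=
    Localization.fac Φ (inverts_totV O V hP) DerivedCategory.Q
  have key : ∀ f g : K ⟶ K, DerivedCategory.Q.map f = DerivedCategory.Q.map g → Φ.map f = Φ.map g :=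
    fun f g hfg => by
      rw [← cancel_epi (e.hom.app K), ← e.hom.naturality, ← e.hom.naturality]
      show (Localization.lift Φ _ DerivedCategory.Q).map (DerivedCategory.Q.map f) ≫ _ = _
      rw [hfg]
      rfl
  have h0 := key (s ^ k • 𝟙 K) ((0 : DerComp.GSec (O.over V)) • 𝟙 K) (by
    rw [Functor.map_smul, Functor.map_smul, CategoryTheory.Functor.map_id, hk, zero_smul])
  change DerivedCategory.Q.map ((totV O V P).map _) = DerivedCategory.Q.map ((totV O V P).map _) at h0
  rw [totV_map_smul, totV_map_smul, Functor.map_smul, Functor.map_smul, CategoryTheory.Functor.map_id,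
    zero_smul] at h0
  exact h0

variable {O}

set_option maxHeartbeats 1600000 in
/-- The derived tensor product of an extension by zero is an extension by zero, preserving nilpotence. -/
theorem exists_nilp_tensor (P : CochainComplex (ModSite.Mod O) ℤ) [ModSite.HasLTensorCx P]
    (l : List (DerComp.GSec (O.over V))) (Y : DerivedCategory (ModSite.Mod (O.over V))) (hY : NilpAll l Y) :
    ∃ Y' : DerivedCategory (ModSite.Mod (O.over V)), NilpAll l Y' ∧
      Nonempty ((ModSite.LTensorCx P).obj ((ModSite.extZero O V).mapDerivedCategory.obj Y) ≅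
        (ModSite.extZero O V).mapDerivedCategory.obj Y') := by
  let F := ModSite.extZero O V
  let K := DerivedCategory.Q.objPreimage Y
  let eK : DerivedCategory.Q.obj K ≅ Y := DerivedCategory.Q.objObjPreimageIso Y
  let P' := (DCohLib.resF O).obj P
  have hP' : ModSite.IsKFlat P' := DCohLib.isKFlat_resF O P
  let Y' := DerivedCategory.Q.obj ((totV O V P').obj K)
  have hY' : NilpAll l Y' := fun s hs => nilp_totV O V hP' s K (by
    obtain ⟨k, hk⟩ := hY s hs
    refine ⟨k, ?_⟩
    rw [← cancel_mono eK.hom, zero_comp, Linear.smul_comp, Category.id_comp, ← Category.comp_id eK.hom,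
      ← Linear.comp_smul, hk, comp_zero])
  haveI : PreservesColimitsOfSize.{u, u} F := (ModSite.extZeroAdj O V).leftAdjoint_preservesColimits
  haveI : PreservesColimitsOfSize.{0, 0} F := preservesColimitsOfSize_shrink.{0, u, 0, u} _
  let A := (F.mapHomologicalComplex (ComplexShape.up ℤ)).obj K
  let rA := (DCohLib.resF O).obj A
  have hrA : ModSite.IsKFlat rA := DCohLib.isKFlat_resF O A
  haveI := DerSchH7.isIso_siteCounit_app O P rA hrA
  haveI : IsIso (DerivedCategory.Q.map ((DCohLib.resFπ O).app A)) :=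
    Localization.inverts DerivedCategory.Q (HomologicalComplex.quasiIso (ModSite.Mod O) (ComplexShape.up ℤ)) _
      ((HomologicalComplex.mem_quasiIso_iff _).2 (DCohLib.quasiIso_resFπ O A))
  haveI : IsIso (DerivedCategory.Q.map (((ModSite.tensorCx O).obj rA).map ((DCohLib.resFπ O).app P))) :=
    Localization.inverts DerivedCategory.Q (HomologicalComplex.quasiIso (ModSite.Mod O) (ComplexShape.up ℤ)) _
      ((HomologicalComplex.mem_quasiIso_iff _).2
        (haveI := DCohLib.quasiIso_resFπ O P; DCohLib.quasiIso_tensorCxSite_obj_map O hrA ((DCohLib.resFπ O).app P)))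
  haveI : IsIso (DerivedCategory.Q.map (((ModSite.tensorCx O).map ((DCohLib.resFπ O).app A)).app P')) :=
    Localization.inverts DerivedCategory.Q (HomologicalComplex.quasiIso (ModSite.Mod O) (ComplexShape.up ℤ)) _
      ((HomologicalComplex.mem_quasiIso_iff _).2
        (quasiIso_tensor_of_isKFlat_right O P' hP' ((DCohLib.resFπ O).app A)))
  let e : (ModSite.LTensorCx P).obj (F.mapDerivedCategory.obj Y) ≅ F.mapDerivedCategory.obj Y' :=
    (ModSite.LTensorCx P).mapIso (F.mapDerivedCategory.mapIso eK.symm ≪≫ F.mapDerivedCategoryFactors.app K ≪≫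
      (asIso (DerivedCategory.Q.map ((DCohLib.resFπ O).app A))).symm) ≪≫
    asIso ((DerSchH7.siteCounit O P).app rA) ≪≫
    (asIso (DerivedCategory.Q.map (((ModSite.tensorCx O).obj rA).map ((DCohLib.resFπ O).app P)))).symm ≪≫
    asIso (DerivedCategory.Q.map (((ModSite.tensorCx O).map ((DCohLib.resFπ O).app A)).app P')) ≪≫
    DerivedCategory.Q.mapIso (mapTotIso (projBiIso O V) K P').symm ≪≫
    (F.mapDerivedCategoryFactors.app _).symm
  exact ⟨Y', hY', ⟨e⟩⟩

variable (P : CochainComplex (ModSite.Mod O) ℤ) [ModSite.HasLTensorCx P] [DerComp.HasRHom P]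

variable {V} in
/-- Maps from extensions by zero of nilpotent objects do not see left orthogonal objects. -/
theorem LeftOrth.hom_extZero_eq_zero {I : DerComp.IdealSh O} {N : DerivedCategory (ModSite.Mod O)}
    (hN : LeftOrth O I N) {r : ℕ} (a : Fin r → O.obj.obj (op V))
    (ha : (I.over V).IsGenBy fun i => DerComp.GSec.ofSect O V (a i))
    (Y : DerivedCategory (ModSite.Mod (O.over V))) (hY : NilpAll (genList V a) Y)
    (w : (ModSite.extZero O V).mapDerivedCategory.obj Y ⟶ N) : w = 0 := by
  obtain ⟨D⟩ := OpenRestrH.nonempty_derived_adjunction (ModSite.extZeroAdj O V)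
  haveI := D.right_adjoint_additive
  apply (D.homAddEquiv _ _).injective
  rw [map_zero]
  exact lOrth_iff_nilp.1 (hN.lOrth_restrD a ha) Y hY _

variable {V} in
/-- `RHom(P, -)` of a completion, seen by extensions by zero of nilpotent objects. -/
theorem bijective_rhom_map {I : DerComp.IdealSh O} {N G L : DerivedCategory (ModSite.Mod O)}
    {a₀ : N ⟶ G} {η : G ⟶ L} {d : L ⟶ N⟦(1 : ℤ)⟧}
    (hT : Triangle.mk a₀ η d ∈ distTriang (DerivedCategory (ModSite.Mod O))) (hN : LeftOrth O I N) {r : ℕ}
    (a : Fin r → O.obj.obj (op V)) (ha : (I.over V).IsGenBy fun i => DerComp.GSec.ofSect O V (a i))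
    (Y : DerivedCategory (ModSite.Mod (O.over V))) (hY : NilpAll (genList V a) Y) :
    Function.Bijective fun w : (ModSite.extZero O V).mapDerivedCategory.obj Y ⟶ (DerComp.RHom P).obj G =>
      w ≫ (DerComp.RHom P).map η := by
  obtain ⟨Y', hY', ⟨e⟩⟩ := exists_nilp_tensor V P _ Y hY
  let adj := DerComp.RHomAdj P
  have hN1 : LeftOrth O I (N⟦(1 : ℤ)⟧) := hN.shift 1
  have hb : Function.Bijective fun x : (ModSite.extZero O V).mapDerivedCategory.obj Y' ⟶ G => x ≫ η := by
    refine ⟨fun x x' hx => sub_eq_zero.1 ?_, fun y => ?_⟩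
    · obtain ⟨v, hv⟩ := Triangle.coyoneda_exact₂ _ hT (x - x') (by
        show (x - x') ≫ η = 0
        rw [Preadditive.sub_comp, sub_eq_zero]
        exact hx)
      rw [hv, hN.hom_extZero_eq_zero a ha Y' hY' v]
      exact zero_comp
    · obtain ⟨v, hv⟩ := Triangle.coyoneda_exact₃ _ hT y (hN1.hom_extZero_eq_zero a ha Y' hY' _)
      exact ⟨v, hv.symm⟩
  have heq : (fun w : (ModSite.extZero O V).mapDerivedCategory.obj Y ⟶ (DerComp.RHom P).obj G =>
      w ≫ (DerComp.RHom P).map η) =
      (adj.homEquiv _ L) ∘ (e.symm.homFromEquiv) ∘ (fun x => x ≫ η) ∘ e.homFromEquiv ∘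
        (adj.homEquiv _ G).symm := funext fun w => by
    obtain ⟨x, rfl⟩ := (adj.homEquiv _ G).surjective w
    simp [Iso.homFromEquiv, adj.homEquiv_naturality_right]
  rw [heq]
  exact (Equiv.bijective _).comp ((Equiv.bijective _).comp (hb.comp ((Equiv.bijective _).comp (Equiv.bijective _))))

/-- `RHom(P, -)` carries completions to completions. -/
theorem leftOrth_fibre_rhom {I : DerComp.IdealSh O} (hI : I.IsFiniteType) [DerComp.HasDerCompletion O I]
    {N G L : DerivedCategory (ModSite.Mod O)} {a₀ : N ⟶ G} {η : G ⟶ L} {d : L ⟶ N⟦(1 : ℤ)⟧}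
    (hT : Triangle.mk a₀ η d ∈ distTriang (DerivedCategory (ModSite.Mod O))) (hN : LeftOrth O I N)
    {M : DerivedCategory (ModSite.Mod O)} {p : (DerComp.RHom P).obj L ⟶ M}
    {h : M ⟶ ((DerComp.RHom P).obj G)⟦(1 : ℤ)⟧}
    (hM : Triangle.mk ((DerComp.RHom P).map η) p h ∈ distTriang (DerivedCategory (ModSite.Mod O))) :
    LeftOrth O I M := by
  refine leftOrth_of_local O {V : C | ∃ (r : ℕ) (a : Fin r → O.obj.obj (op V)),
      (I.over V).IsGenBy fun i => DerComp.GSec.ofSect O V (a i)} hI _ fun V hV => ?_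
  obtain ⟨r, a, ha⟩ := hV
  refine ⟨r, a, ha, lOrth_iff_nilp.2 fun Y hY u => ?_⟩
  obtain ⟨D⟩ := OpenRestrH.nonempty_derived_adjunction (ModSite.extZeroAdj O V)
  haveI := D.right_adjoint_additive
  obtain ⟨w, rfl⟩ := (D.homAddEquiv _ _).surjective u
  suffices hw : w = 0 by rw [hw, map_zero]
  let F := (ModSite.extZero O V).mapDerivedCategory
  haveI : F.Additive := inferInstance
  have h0 : w ≫ h = 0 := by
    let e := (F.commShiftIso (-1 : ℤ)).app Y
    let c := (shiftFunctorCompIsoId (DerivedCategory (ModSite.Mod O)) (1 : ℤ) (-1) (by norm_num)).app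
      ((DerComp.RHom P).obj G)
    have hb := bijective_rhom_map P hT hN a ha (Y⟦(-1 : ℤ)⟧) fun s hs => (hY s hs).shift (-1)
    apply (shiftFunctor (DerivedCategory (ModSite.Mod O)) (-1 : ℤ)).map_injective
    rw [Functor.map_zero, ← cancel_epi e.hom, ← cancel_mono c.hom, comp_zero, zero_comp]
    refine hb.1 ?_
    show ((e.hom ≫ (w ≫ h)⟦(-1 : ℤ)⟧') ≫ c.hom) ≫ (DerComp.RHom P).map η = 0 ≫ _
    have hn : c.hom ≫ (DerComp.RHom P).map η =
        (((DerComp.RHom P).map η)⟦(1 : ℤ)⟧')⟦(-1 : ℤ)⟧' ≫
          (shiftFunctorCompIsoId (DerivedCategory (ModSite.Mod O)) (1 : ℤ) (-1) (by norm_num)).hom.app _ :=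
      ((shiftFunctorCompIsoId (DerivedCategory (ModSite.Mod O)) (1 : ℤ) (-1) (by norm_num)).hom.naturality
        ((DerComp.RHom P).map η)).symm
    rw [zero_comp, Category.assoc, hn, ← Category.assoc, Category.assoc e.hom, ← Functor.map_comp,
      Category.assoc w, show h ≫ ((DerComp.RHom P).map η)⟦(1 : ℤ)⟧' = 0 from comp_distTriang_mor_zero₃₁ _ hM,
      comp_zero, Functor.map_zero, comp_zero, zero_comp]
  obtain ⟨v, rfl⟩ := Triangle.coyoneda_exact₃ _ hM w h0
  obtain ⟨x, rfl⟩ := (bijective_rhom_map P hT hN a ha Y hY).2 v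
  exact (Category.assoc _ _ _).trans ((congrArg (x ≫ ·) (comp_distTriang_mor_zero₁₂ _ hM)).trans comp_zero)

end Groth.Agent.DerCompLib
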