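import Groth.Agent.DerCompLib.Koszul
import Groth.Agent.DerCompLib.Site
import Groth.Agent.PullFlat.Local
import Groth.Agent.ModTensor.Basic

/-!
# Modules on which an ideal acts like the unit ideal

A module `N` with an endomorphism `φ` such that every section `x` is locally fixed by some
polynomial `p(φ)` whose coefficients lie in the ideals `A`: then `N` is left orthogonal to the
objects complete for finitely many generators of `A`.
-/

set_option autoImplicit false
set_option linter.style.haveILetI false
set_option linter.unusedSectionVars false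
set_option backward.isDefEq.respectTransparency false
set_option backward.isDefEq.respectTransparency.types false

universe u

open CategoryTheory CategoryTheory.Limits CategoryTheory.Pretriangulated Opposite

attribute [local instance] HasDerivedCategory.standard

noncomputable section

namespace Groth.Agent.DerCompLib

open Groth.Agent.ModTensor Groth.Agent.PullFlat

variable {C : Type u} [SmallCategory C] {J : GrothendieckTopology C} {O : Sheaf J CommRingCat.{u}}

theorem loc_mono {U : C} {P Q : ∀ ⦃W : C⦄, (W ⟶ U) → Prop} (h : Loc J U P)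
    (h' : ∀ ⦃W : C⦄ (g : W ⟶ U), P g → Q g) : Loc J U Q :=
  let ⟨S, hS, hP⟩ := h; ⟨S, hS, fun _ g hg => h' g (hP g hg)⟩

section Pre

variable {P P' : PMod O.obj}

/-- The action of polynomials through an endomorphism. -/
abbrev pact (φ : P ⟶ P) (X : Cᵒᵖ) :
    Polynomial (O.obj.obj X) →ₐ[O.obj.obj X] Module.End (O.obj.obj X) (P.obj X : Type u) :=
  Polynomial.aeval (lin φ X)

theorem res_pact (φ : P ⟶ P) {X Y : Cᵒᵖ} (h : X ⟶ Y) (p : Polynomial (O.obj.obj X)) (x : P.obj X) :
    res P h (pact φ X p x) = pact φ Y (p.map (ores O h)) (res P h x) := by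
  induction p using Polynomial.induction_on' generalizing x with
  | add p q hp hq => simp only [map_add, Polynomial.map_add, LinearMap.add_apply, hp, hq]
  | monomial n a =>
    have hpow : ∀ y : P.obj X, res P h ((lin φ X ^ n) y) = (lin φ Y ^ n) (res P h y) := by
      induction n with
      | zero => exact fun y => rfl
      | succ n ih =>
        intro y
        rw [pow_succ', pow_succ', Module.End.mul_apply, Module.End.mul_apply, ← ih y, ← lin_res]
    simp only [pact, Polynomial.map_monomial, Polynomial.aeval_monomial, Module.End.mul_apply,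
      Module.algebraMap_end_apply, res_smul, hpow]

theorem lin_pact {φ : P ⟶ P} {φ' : P' ⟶ P'} (a : P ⟶ P') (ha : φ ≫ a = a ≫ φ') (X : Cᵒᵖ)
    (p : Polynomial (O.obj.obj X)) (x : P.obj X) :
    lin a X (pact φ X p x) = pact φ' X p (lin a X x) := by
  induction p using Polynomial.induction_on' generalizing x with
  | add p q hp hq => simp only [map_add, LinearMap.add_apply, hp, hq]
  | monomial n c =>
    have h1 : ∀ y : P.obj X, lin a X (lin φ X y) = lin φ' X (lin a X y) := fun y =>
      congr(($ha).app X y)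
    have hpow : ∀ y : P.obj X, lin a X ((lin φ X ^ n) y) = (lin φ' X ^ n) (lin a X y) := by
      induction n with
      | zero => exact fun y => rfl
      | succ n ih =>
        intro y
        rw [pow_succ', pow_succ', Module.End.mul_apply, Module.End.mul_apply, h1, ih]
    simp only [pact, Polynomial.aeval_monomial, Module.End.mul_apply, Module.algebraMap_end_apply, map_smul, hpow]

/-- Every section is locally fixed by a polynomial with coefficients in `A`. -/
def UnitAct (A : ∀ U : C, Ideal (O.obj.obj (op U))) (φ : P ⟶ P) : Prop :=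
  ∀ (U : C) (x : P.obj (op U)), Loc J U fun W g =>
    ∃ p : Polynomial (O.obj.obj (op W)), p ∈ Ideal.map Polynomial.C (A W) ∧
      pact φ (op W) p (res P g.op x) = res P g.op x

/-- Stability under locally surjective equivariant maps. -/
theorem UnitAct.of_locSurj {A : ∀ U : C, Ideal (O.obj.obj (op U))} {φ : P ⟶ P} {φ' : P' ⟶ P'}
    (h : UnitAct A φ) (a : P ⟶ P') (ha : φ ≫ a = a ≫ φ')
    (hs : ∀ (U : C) (y : P'.obj (op U)), Loc J U fun W g => ∃ x, lin a (op W) x = res P' g.op y) :
    UnitAct A φ' := fun U y => by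
  refine (hs U y).bind fun W g hg => ?_
  obtain ⟨x, hx⟩ := hg
  refine loc_mono (h W x) fun W' k hk => ?_
  obtain ⟨p, hp, hpx⟩ := hk
  have hy : res P' (k ≫ g).op y = lin a (op W') (res P k.op x) := by
    rw [op_comp, res_comp, ← hx, lin_res]
  exact ⟨p, hp, by rw [hy, ← lin_pact a ha, hpx]⟩

/-- Stability under injective equivariant maps. -/
theorem UnitAct.of_injective {A : ∀ U : C, Ideal (O.obj.obj (op U))} {φ : P ⟶ P} {φ' : P' ⟶ P'}
    (h : UnitAct A φ') (a : P ⟶ P') (ha : φ ≫ a = a ≫ φ')
    (hi : ∀ U : C, Function.Injective (lin a (op U))) : UnitAct A φ := fun U x => by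
  refine loc_mono (h U (lin a (op U) x)) fun W g hg => ?_
  obtain ⟨p, hp, hpx⟩ := hg
  exact ⟨p, hp, hi W (by rw [lin_pact a ha, lin_res, hpx])⟩

/-- Change of the ideals along local inclusions. -/
theorem UnitAct.of_locLE {A B : ∀ U : C, Ideal (O.obj.obj (op U))}
    (hAB : ∀ (U : C), ∀ f ∈ A U, Loc J U fun W g => ores O g.op f ∈ B W)
    (hB : ∀ ⦃U W : C⦄ (g : W ⟶ U), ∀ f ∈ B U, ores O g.op f ∈ B W) {φ : P ⟶ P} (h : UnitAct A φ) :
    UnitAct B φ := fun U x => by
  refine (h U x).bind fun W g hg => ?_
  obtain ⟨p, hp, hpx⟩ := hg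
  rw [Ideal.mem_map_C_iff] at hp
  refine loc_mono (Loc.forall_fintype (J := J) fun i : p.support => hAB W (p.coeff i.1) (hp i.1))
    fun W' k hk => ?_
  refine ⟨p.map (ores O k.op), Ideal.mem_map_C_iff.2 fun n => ?_, ?_⟩
  · rw [Polynomial.coeff_map]
    by_cases hn : n ∈ p.support
    · exact hk ⟨n, hn⟩
    · rw [Polynomial.notMem_support_iff.1 hn, map_zero]
      exact Ideal.zero_mem _
  · rw [op_comp, res_comp, ← res_pact, hpx]

end Pre

section Mod

/-- A module with an endomorphism on which the ideals act like the unit ideal. -/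
abbrev UnitActM (A : ∀ U : C, Ideal (O.obj.obj (op U))) {N : ModSite.Mod O} (φ : N ⟶ N) : Prop :=
  UnitAct A ((preFunctor O).map φ)

theorem equivariant {N N' : ModSite.Mod O} {φ : N ⟶ N} {φ' : N' ⟶ N'} {a : N ⟶ N'}
    (ha : φ ≫ a = a ≫ φ') :
    (preFunctor O).map φ ≫ (preFunctor O).map a = (preFunctor O).map a ≫ (preFunctor O).map φ' := by
  rw [← Functor.map_comp, ← Functor.map_comp, ha]

theorem UnitActM.of_mono {A : ∀ U : C, Ideal (O.obj.obj (op U))} {N N' : ModSite.Mod O} {φ : N ⟶ N}
    {φ' : N' ⟶ N'} (h : UnitActM A φ') (a : N ⟶ N') [Mono a] (ha : φ ≫ a = a ≫ φ') : UnitActM A φ := by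
  haveI : (preFunctor O).IsRightAdjoint :=
    (PresheafOfModules.sheafificationAdjunction (𝟙 (ModSite.ringSh O).obj)).isRightAdjoint
  haveI : Mono ((preFunctor O).map a) := (preFunctor O).map_mono a
  exact h.of_injective _ (equivariant ha) fun U =>
    PresheafOfModules.injective_of_mono ((preFunctor O).map a) (op U)

theorem loc_lift_of_epi {N N' : ModSite.Mod O} (a : N ⟶ N') [Epi a] (U : C)
    (y : (pre O N').obj (op U)) :
    Loc J U fun W g => ∃ x, lin ((preFunctor O).map a) (op W) x = res (pre O N') g.op y := by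
  haveI : Epi ((SheafOfModules.toSheaf (ModSite.ringSh O)).map a) := inferInstance
  haveI : Sheaf.IsLocallySurjective ((SheafOfModules.toSheaf (ModSite.ringSh O)).map a) :=
    (Sheaf.isLocallySurjective_iff_epi' AddCommGrpCat.{u} _).2 inferInstance
  let a' := ((SheafOfModules.toSheaf (ModSite.ringSh O)).map a).hom
  let S : Sieve U := Presheaf.imageSieve a'
    (show (((SheafOfModules.toSheaf (ModSite.ringSh O)).obj N').obj.obj (op U) : Type u) from y)
  have hS : S ∈ J U := Presheaf.imageSieve_mem J a' (U := op U) y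
  exact ⟨S, hS, fun W g hg => hg⟩

theorem UnitActM.of_epi {A : ∀ U : C, Ideal (O.obj.obj (op U))} {N N' : ModSite.Mod O} {φ : N ⟶ N}
    {φ' : N' ⟶ N'} (h : UnitActM A φ) (a : N ⟶ N') [Epi a] (ha : φ ≫ a = a ≫ φ') : UnitActM A φ' :=
  h.of_locSurj _ (equivariant ha) (loc_lift_of_epi a)

/-- The ideals spanned by global sections. -/
def spanFam (l : List (DerComp.GSec O)) (U : C) : Ideal (O.obj.obj (op U)) :=
  Ideal.span {f | ∃ s ∈ l, s.1 U = f}

theorem spanFam_map (l : List (DerComp.GSec O)) ⦃U W : C⦄ (g : W ⟶ U) :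
    ∀ f ∈ spanFam l U, ores O g.op f ∈ spanFam l W := fun f hf => by
  refine (Ideal.map_le_iff_le_comap.1 (?_ : Ideal.map (ores O g.op) (spanFam l U) ≤ spanFam l W)) hf
  rw [spanFam, Ideal.map_span]
  refine Ideal.span_le.2 ?_
  rintro _ ⟨_, ⟨s, hs, rfl⟩, rfl⟩
  exact Ideal.subset_span ⟨s, hs, (s.2 g).symm⟩

theorem UnitActM.isZero {N : ModSite.Mod O} {φ : N ⟶ N} (h : UnitActM (spanFam []) φ) : IsZero N := by
  rw [IsZero.iff_id_eq_zero]
  refine SheafOfModules.hom_ext (PresheafOfModules.hom_ext fun X => ModuleCat.hom_ext (LinearMap.ext fun x => ?_))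
  show x = 0
  obtain ⟨S, hS, hx⟩ := h X.unop x
  refine (((isSheaf_iff_isSheaf_of_type _ _).1
    ((sheafCompose J (forget AddCommGrpCat.{u})).obj (ModSite.toAb N)).property S hS).isSeparatedFor).ext
      fun W g hg => ?_
  obtain ⟨p, hp, hpx⟩ := hx g hg
  have hbot : spanFam (O := O) [] W = ⊥ := by
    simp [spanFam]
  rw [hbot, Ideal.map_bot, Ideal.mem_bot] at hp
  rw [hp, map_zero, LinearMap.zero_apply] at hpx
  exact hpx.symm.trans (map_zero (res (pre O N) g.op)).symm

theorem UnitActM.cons {s : DerComp.GSec O} {l : List (DerComp.GSec O)} {N : ModSite.Mod O} {φ : N ⟶ N}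
    (h : UnitActM (spanFam (s :: l)) φ) (hs : DerComp.smulEnd s N = 0) : UnitActM (spanFam l) φ := fun U x => by
  refine loc_mono (h U x) fun W g hg => ?_
  obtain ⟨p, hp, hpx⟩ := hg
  have hset : {f | ∃ t ∈ s :: l, t.1 W = f} = insert (s.1 W) {f | ∃ t ∈ l, t.1 W = f} := by
    ext f
    simp [eq_comm]
  rw [spanFam, hset, Ideal.span_insert, Ideal.map_sup, Ideal.map_span, Set.image_singleton] at hp
  obtain ⟨a, ha, b, hb, rfl⟩ := Submodule.mem_sup.1 hp
  obtain ⟨c, rfl⟩ := Ideal.mem_span_singleton'.1 ha
  refine ⟨b, hb, ?_⟩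
  let y := res (pre O N) g.op x
  have h0 : s.1 W • y = 0 := congr(($hs).val.app (op W) y)
  rw [map_add, LinearMap.add_apply, map_mul, Module.End.mul_apply, pact, Polynomial.aeval_C,
    Module.algebraMap_end_apply, h0, map_zero, zero_add] at hpx
  exact hpx

theorem lOrth_of_isZero {l : List (DerComp.GSec O)} {X : DerivedCategory (ModSite.Mod O)} (h : IsZero X) :
    LOrth l X := fun _ _ u => h.eq_of_src u 0

/-- A module on which finitely many scalars act like the unit ideal is left orthogonal to the
objects complete for them. -/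
theorem UnitActM.lOrth : ∀ {l : List (DerComp.GSec O)} {N : ModSite.Mod O} {φ : N ⟶ N},
    UnitActM (spanFam l) φ → LOrth l (single₀ N)
  | [], N, _, h => lOrth_of_isZero ((DerivedCategory.singleFunctor (ModSite.Mod O) 0).map_isZero h.isZero)
  | s :: l, N, φ, h => fun Z hZ u => by
    have hZl : ∀ r ∈ l, Compl r Z := fun r hr => hZ r (List.mem_cons_of_mem s hr)
    let e := DerComp.smulEnd s N
    let p := Abelian.factorThruImage e
    let i := Abelian.image.ι e
    have he : p ≫ i = e := Abelian.image.fac e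
    have hc : φ ≫ e = e ≫ φ := (DerComp.smulEnd_comm s φ).symm
    have hιe : kernel.ι p ≫ e = 0 :=
      (congrArg (kernel.ι p ≫ ·) he.symm).trans ((kernel.condition_assoc p i).trans zero_comp)
    have heπ : e ≫ cokernel.π i = 0 :=
      (congrArg (· ≫ cokernel.π i) he.symm).trans ((Category.assoc _ _ _).trans
        ((congrArg (p ≫ ·) (cokernel.condition i)).trans comp_zero))
    let φK := kernel.lift p (kernel.ι p ≫ φ) (by
      rw [← cancel_mono i, Category.assoc, Category.assoc, he, hc, ← Category.assoc, hιe, zero_comp, zero_comp])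
    let φQ := cokernel.desc i (φ ≫ cokernel.π i) (by
      rw [← cancel_epi p, ← Category.assoc p, he, ← Category.assoc, ← hc, Category.assoc, heπ, comp_zero,
        comp_zero])
    have hK : UnitActM (spanFam l) φK := by
      refine UnitActM.cons (s := s) (h.of_mono (kernel.ι p) (kernel.lift_ι _ _ _)) ?_
      rw [← cancel_mono (kernel.ι p), zero_comp, DerComp.smulEnd_comm]
      exact hιe
    have hQ : UnitActM (spanFam l) φQ := by
      refine UnitActM.cons (s := s) (h.of_epi (cokernel.π i) (cokernel.π_desc _ _ _).symm) ?_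
      rw [← cancel_epi (cokernel.π i), comp_zero, ← DerComp.smulEnd_comm]
      exact heπ
    let S₁ := ShortComplex.mk (kernel.ι p) p (kernel.condition p)
    have hS₁ : S₁.ShortExact := { exact := ShortComplex.exact_kernel p }
    let S₂ := ShortComplex.mk i (cokernel.π i) (cokernel.condition i)
    have hS₂ : S₂.ShortExact := { exact := ShortComplex.exact_cokernel i }
    let F := DerivedCategory.singleFunctor (ModSite.Mod O) 0
    have hsurj : ∀ x : single₀ N ⟶ Z, ∃ y : single₀ N ⟶ Z, x = s • y := fun x => by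
      obtain ⟨x', hx'⟩ := Triangle.yoneda_exact₂ _ hS₁.singleTriangle_distinguished x (hK.lOrth Z hZl _)
      obtain ⟨y, hy⟩ := Triangle.yoneda_exact₂ _ (inv_rot_of_distTriang _ hS₂.singleTriangle_distinguished) x'
        ((hQ.lOrth.shift (-1)) Z hZl _)
      refine ⟨y, ?_⟩
      have hsmul : F.map e = s • 𝟙 (F.obj N) := by
        rw [show e = s • 𝟙 N from (Category.comp_id _).symm, Functor.map_smul, CategoryTheory.Functor.map_id]
      refine (hx'.trans (congrArg (F.map p ≫ ·) hy)).trans ?_
      show F.map p ≫ F.map i ≫ y = s • y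
      rw [← Category.assoc, ← F.map_comp, he, hsmul, Linear.smul_comp, Category.id_comp]
    choose y hy using hsurj
    exact congrFun (((hZ s List.mem_cons_self).dBij (single₀ N)).eq_zero (x := fun n => y^[n] u) fun n => by
      show y^[n] u = s • y^[n + 1] u
      rw [Function.iterate_succ_apply']
      exact hy _) 0

end Mod

end Groth.Agent.DerCompLib
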